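import Cfsg.Agent.Lib.Leech.Triples

/-!
# Orbits of the point stabilisers in the McLaughlin and Higman–Sims configurations
-/

set_option autoImplicit false

open scoped Pointwise symmDiff

namespace CfsgLib.Leech

open Cfsg CfsgLib.Golay

/-- Two quadruples with the same standard form differ by an automorphism. -/
theorem exists_map_quad {a b c d a' b' c' d' : leechLattice} {x y z t : GolayPt → ℤ}
    (h : ∃ g : Co0, ((g • a : leechLattice) : GolayPt → ℤ) = x ∧ ((g • b : leechLattice) : GolayPt → ℤ) = y ∧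
      ((g • c : leechLattice) : GolayPt → ℤ) = z ∧ ((g • d : leechLattice) : GolayPt → ℤ) = t)
    (h' : ∃ g : Co0, ((g • a' : leechLattice) : GolayPt → ℤ) = x ∧
      ((g • b' : leechLattice) : GolayPt → ℤ) = y ∧ ((g • c' : leechLattice) : GolayPt → ℤ) = z ∧
      ((g • d' : leechLattice) : GolayPt → ℤ) = t) :
    ∃ g : Co0, g • a = a' ∧ g • b = b' ∧ g • c = c' ∧ g • d = d' := by
  obtain ⟨g, h1, h2, h3, h4⟩ := h
  obtain ⟨g', h1', h2', h3', h4'⟩ := h'
  refine ⟨g'⁻¹ * g, ?_, ?_, ?_, ?_⟩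
  · rw [mul_smul, show g • a = g' • a' from Subtype.ext (h1.trans h1'.symm), inv_smul_smul]
  · rw [mul_smul, show g • b = g' • b' from Subtype.ext (h2.trans h2'.symm), inv_smul_smul]
  · rw [mul_smul, show g • c = g' • c' from Subtype.ext (h3.trans h3'.symm), inv_smul_smul]
  · rw [mul_smul, show g • d = g' • d' from Subtype.ext (h4.trans h4'.symm), inv_smul_smul]

/-- An element of the code's group mapping five points of the base octad and one outside point. -/
theorem exists_map_octad_five_out {o : Finset GolayPt} (ho : o ∈ octads) (l : List GolayPt)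
    (hlen : l.length = 5) (hnd : l.Nodup) (hl : ∀ x ∈ l, x ∈ o) {q : GolayPt} (hq : q ∉ o) :
    ∃ g ∈ M24, g • toSet baseOctad = o ∧ (∀ i (hi : i < 5), g (pt i) = l[i]'(hlen ▸ hi)) ∧
      g (pt 5) = q := by
  classical
  obtain ⟨g, hg, hgi⟩ := exists_map_five l hlen hnd
  have hgo : g • toSet baseOctad = o := by
    refine octad_unique (octads_smul hg baseOctad_mem) ho ?_
    rw [← hlen, ← List.toFinset_card_of_nodup hnd]
    refine Finset.card_le_card fun x hx => Finset.mem_inter.2 ⟨?_, hl x (List.mem_toFinset.1 hx)⟩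
    obtain ⟨i, hi, rfl⟩ := List.mem_iff_getElem.1 (List.mem_toFinset.1 hx)
    rw [← hgi i (hlen ▸ hi)]
    refine Finset.smul_mem_smul_finset ((pt_mem_toSet (by omega)).2 ?_)
    have hi5 : i < 5 := hlen ▸ hi
    interval_cases i <;> decide +kernel
  have hreps : RepsMem ptEquiv M24 [lastLevel] :=
    chainCheck_reps _ _ lastLevel_check m24ChainGens_mem
  obtain ⟨hT', himg, -⟩ := level_facts ptEquiv M24 (chainCheck_ok lastLevel_check) hreps
  obtain ⟨hb, himgs, -⟩ := lastLevel_facts
  have h5 : (ptEquiv (pt 5)).val = lastLevel.base := by rw [hb, ptEquiv_pt (by omega)]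
  have hout : (ptEquiv (g⁻¹ q)).val ∈ lastLevel.imgs := by
    refine himgs _ (ptEquiv _).isLt ?_
    rw [Bool.eq_false_iff]
    intro h
    refine hq ?_
    have := Finset.smul_mem_smul_finset (a := g) (mem_toSet.2 h)
    rw [hgo] at this
    simpa using this
  rw [← himg (pt 5) h5] at hout
  obtain ⟨t, ht, hte⟩ := List.mem_map.1 hout
  have htp : t (pt 5) = g⁻¹ q := ptEquiv.injective (Fin.ext hte)
  refine ⟨g * t, mul_mem hg (hT' t ht).1, ?_, fun i hi => ?_, ?_⟩
  · rw [mul_smul, invOn_baseOctad M24 le_rfl t (hT' t ht).1 fun q hq => (hT' t ht).2 q (by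
      simp only [List.mem_cons, List.not_mem_nil, or_false] at hq ⊢; omega), hgo]
  · rw [Equiv.Perm.mul_apply, (hT' t ht).2 (pt i) (by
      rw [ptEquiv_pt (by omega)]
      simp only [List.mem_cons, List.not_mem_nil, or_false]; omega), hgi i hi]
  · rw [Equiv.Perm.mul_apply, htp]; simp

/-- The further vector of the standard quadruple of the second kind. -/
def mclX16 : GolayPt → ℤ := fun p => if p = pt 0 ∨ p = pt 2 then 4 else 0

/-- The last vector of the standard quadruple of the second kind. -/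
def mclY16 : GolayPt → ℤ := fun p => if p = pt 1 ∨ p = pt 2 then 4 else 0

/-- The vector of squared length 48 of the standard quadruple of the second kind. -/
def mclU16 : GolayPt → ℤ := fun p => if p = pt 0 ∨ p = pt 1 ∨ p = pt 2 then 3 else -1

theorem exists_quad_mcl16 {u v x y : leechLattice} (hu : sqNorm (u : GolayPt → ℤ) = 48)
    (hv : sqNorm (v : GolayPt → ℤ) = 32) (hx : sqNorm (x : GolayPt → ℤ) = 32)
    (hy : sqNorm (y : GolayPt → ℤ) = 32)
    (huv : dotInt (u : GolayPt → ℤ) v = 24) (hux : dotInt (u : GolayPt → ℤ) x = 24)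
    (huy : dotInt (u : GolayPt → ℤ) y = 24) (hvx : dotInt (v : GolayPt → ℤ) x = 16)
    (hvy : dotInt (v : GolayPt → ℤ) y = 16) (hxy : dotInt (x : GolayPt → ℤ) y = 16) :
    ∃ g : Co0, ((g • u : leechLattice) : GolayPt → ℤ) = mclU16 ∧
      ((g • v : leechLattice) : GolayPt → ℤ) = base32 ∧
      ((g • x : leechLattice) : GolayPt → ℤ) = mclX16 ∧
      ((g • y : leechLattice) : GolayPt → ℤ) = mclY16 := by
  classical
  have hn : sqNorm ((x - y : leechLattice) : GolayPt → ℤ) = 32 := by
    rw [AddSubgroup.coe_sub, sqNorm_sub, hx, hy, hxy]; norm_num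
  obtain ⟨g, hgv, hgd⟩ := exists_smul_orth hv hn (by
    rw [AddSubgroup.coe_sub, dotInt_sub_right, hvx, hvy]; norm_num)
  set U := ((g • u : leechLattice) : GolayPt → ℤ) with hU
  set X := ((g • x : leechLattice) : GolayPt → ℤ) with hX
  set Y := ((g • y : leechLattice) : GolayPt → ℤ) with hY
  have hYX : ∀ p, Y p = X p - base32neg p := fun p => by
    have h := congrFun hgd p
    rw [smul_sub', AddSubgroup.coe_sub, Pi.sub_apply, ← hX, ← hY] at h
    omega
  have hXv := dot_smul_co g x v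
  have hXd := dot_smul_co g x (x - y)
  have hUv := dot_smul_co g u v
  have hUd := dot_smul_co g u (x - y)
  rw [hgv, dotInt_base32, ← hX, dotInt_comm (x : GolayPt → ℤ), hvx] at hXv
  rw [hgd, dotInt_base32neg, ← hX, AddSubgroup.coe_sub, dotInt_sub_right, dotInt_self, hx, hxy] at hXd
  rw [hgv, dotInt_base32, ← hU, huv] at hUv
  rw [hgd, dotInt_base32neg, ← hU, AddSubgroup.coe_sub, dotInt_sub_right, hux, huy] at hUd
  have hX0 : X (pt 0) = 4 := by omega
  have hX1 : X (pt 1) = 0 := by omega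
  have hU0 : U (pt 0) = 3 := by omega
  have hU1 : U (pt 1) = 3 := by omega
  have hUn : sqNorm U = 48 := by rw [hU, sqNorm_smul_co, hu]
  obtain ⟨a, ha0, hXa, hXr⟩ := exists_other (g • x).2 (by rw [sqNorm_smul_co, hx]) (p := pt 0) (q := pt 1)
    (Or.inl hX0) hX1
  rw [← hX] at hXa hXr
  have ha1 : a ≠ pt 1 := fun h => by rw [h, hX1] at hXa; omega
  have hdot : U (pt 0) * 4 + U a * X a = 24 := by
    have h := dot_smul_co g u x
    rw [hux, ← hU, ← hX, dotInt,
      ← Finset.sum_subset (Finset.subset_univ ({pt 0, a} : Finset GolayPt)) (fun r _ hr => by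
        simp only [Finset.mem_insert, Finset.mem_singleton, not_or] at hr
        rw [hXr r hr.1 hr.2, mul_zero]), Finset.sum_pair ha0.symm, hX0] at h
    exact h
  have hodd : U none % 2 = 1 := by
    obtain ⟨m, hpar, -, -⟩ := mem_leechLattice_iff.1 (g • u).2
    have a1 := hpar (pt 0)
    have a2 := hpar none
    rw [← hU] at a1 a2
    simp only [Int.ModEq] at a1 a2
    omega
  obtain ⟨D, hD, hD1⟩ := exists_normal_odd (g • u).2 hodd
  rw [← hU] at hD1
  have hUa : U a = 3 ∨ U a = -3 := by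
    rcases hXa with h | h <;> rw [h] at hdot <;> omega
  have h01 : pt 0 ≠ pt 1 := by decide +kernel
  have esq : ∀ p, signFlip D U p ^ 2 = U p ^ 2 := fun p => by rw [signFlip_apply]; split <;> ring
  have hin : pt 0 ∈ D ∧ pt 1 ∈ D := by
    constructor <;> by_contra h
    · have := hD1 (pt 0); rw [signFlip_apply, if_neg h] at this; omega
    · have := hD1 (pt 1); rw [signFlip_apply, if_neg h] at this; omega
  have hrest : ∀ p, p ≠ pt 0 → p ≠ pt 1 → p ≠ a → signFlip D U p = 1 := by
    intro p hp0 hp1 hpa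
    by_contra hne
    have hs := normal_sum ({pt 0, pt 1, a, p} : Finset GolayPt) hD1
    rw [hUn, Finset.sum_insert (by simp [h01, ha0.symm, hp0.symm]),
      Finset.sum_insert (by simp [ha1.symm, hp1.symm]), Finset.sum_pair hpa.symm,
      esq (pt 0), esq (pt 1), esq a, hU0, hU1,
      show U a ^ 2 = 9 by rcases hUa with h | h <;> rw [h] <;> norm_num] at hs
    rcases (normal_vals hUn (by norm_num) hD1 p).resolve_left hne with h | h <;>
      rw [h] at hs <;> norm_num at hs
  have hflipa : signFlip D U a = -3 := by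
    have h := normal_vals hUn (by norm_num) hD1 a
    rw [signFlip_apply] at h ⊢
    by_cases hm : a ∈ D
    · rw [if_pos hm] at h ⊢; omega
    · rw [if_neg hm] at h ⊢; omega
  obtain ⟨σ, hσ, hσ0, hσ1, hσa⟩ := M24_map_three (d := pt 0) (e := pt 1) (f := pt 2) h01 ha0.symm ha1.symm
    (by decide +kernel) (by decide +kernel) (by decide +kernel)
  have hc : CodeSet (Finset.univ \ D) := codeSet_compl hD
  have hflip : ∀ z : leechLattice, ∀ p,
      ((monoAut σ hσ ∅ codeSet_empty • monoAut 1 (one_mem _) _ hc • z : leechLattice) : GolayPt → ℤ) p =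
        -signFlip D (z : GolayPt → ℤ) (σ.symm p) := fun z p => by
    rw [coe_monoAut_smul, coe_monoAut_smul]
    show (if p ∈ (∅ : Finset GolayPt) then -(if σ.symm p ∈ Finset.univ \ D then
        -(z : GolayPt → ℤ) (σ.symm p) else (z : GolayPt → ℤ) (σ.symm p)) else
      (if σ.symm p ∈ Finset.univ \ D then -(z : GolayPt → ℤ) (σ.symm p)
        else (z : GolayPt → ℤ) (σ.symm p))) = _
    rw [if_neg (Finset.notMem_empty _), signFlip_apply]
    by_cases h : σ.symm p ∈ D <;> simp [h]
  have s0 : ∀ p, σ.symm p = pt 0 ↔ p = pt 0 := fun p =>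
    ⟨fun h => by rw [← σ.apply_symm_apply p, h, hσ0], fun h => σ.symm_apply_eq.2 (h.trans hσ0.symm)⟩
  have s1 : ∀ p, σ.symm p = pt 1 ↔ p = pt 1 := fun p =>
    ⟨fun h => by rw [← σ.apply_symm_apply p, h, hσ1], fun h => σ.symm_apply_eq.2 (h.trans hσ1.symm)⟩
  have s2 : ∀ p, σ.symm p = a ↔ p = pt 2 := fun p =>
    ⟨fun h => by rw [← σ.apply_symm_apply p, h, hσa], fun h => σ.symm_apply_eq.2 (h.trans hσa.symm)⟩
  have hXflip : signFlip D X a = -4 := by
    rw [signFlip_apply] at hflipa ⊢
    split at hflipa <;> rename_i h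
    · rw [if_pos h]; rcases hXa with e | e <;> rw [e] at hdot ⊢ <;> omega
    · rw [if_neg h]; rcases hXa with e | e <;> rw [e] at hdot ⊢ <;> omega
  refine ⟨monoAut σ hσ ∅ codeSet_empty * (monoAut 1 (one_mem _) _ hc * g), funext fun p => ?_,
    funext fun p => ?_, funext fun p => ?_, funext fun p => ?_⟩
  all_goals rw [mul_smul, mul_smul, hflip]
  · rw [← hU, mclU16]
    by_cases h : p = pt 0 ∨ p = pt 1 ∨ p = pt 2
    · rw [if_pos h]
      rcases h with h | h | h
      · rw [(s0 p).2 h, signFlip_apply, if_pos hin.1]; omega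
      · rw [(s1 p).2 h, signFlip_apply, if_pos hin.2]; omega
      · rw [(s2 p).2 h, hflipa]; norm_num
    · rw [if_neg h]
      push Not at h
      rw [hrest _ (mt (s0 p).1 h.1) (mt (s1 p).1 h.2.1) (mt (s2 p).1 h.2.2)]
  · rw [hgv, signFlip_apply]
    by_cases h0 : p = pt 0
    · rw [(s0 p).2 h0, if_pos hin.1]; simp [base32, h0]
    by_cases h1 : p = pt 1
    · rw [(s1 p).2 h1, if_pos hin.2]; simp [base32, h1]
    simp [base32, h0, h1, mt (s0 p).1 h0, mt (s1 p).1 h1]
  · rw [← hX, mclX16]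
    by_cases h0 : p = pt 0
    · rw [(s0 p).2 h0, signFlip_apply, if_pos hin.1, hX0, if_pos (Or.inl h0)]; norm_num
    by_cases h2 : p = pt 2
    · rw [(s2 p).2 h2, hXflip, if_pos (Or.inr h2)]; norm_num
    rw [signFlip_apply, hXr _ (mt (s0 p).1 h0) (mt (s2 p).1 h2), if_neg (not_or.2 ⟨h0, h2⟩)]
    simp
  · rw [← hY, mclY16, signFlip_apply, hYX]
    have d : pt 1 ≠ pt 0 ∧ pt 2 ≠ pt 0 ∧ pt 2 ≠ pt 1 := by decide +kernel
    by_cases h0 : p = pt 0
    · rw [(s0 p).2 h0, if_pos hin.1, hX0]
      simp [base32neg, h0, d.1.symm, d.2.1.symm]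
    by_cases h1 : p = pt 1
    · rw [(s1 p).2 h1, if_pos hin.2, hX1]
      simp [base32neg, h1, d.1]
    by_cases h2 : p = pt 2
    · rw [(s2 p).2 h2, if_pos (Or.inr h2), show base32neg a = 0 by simp [base32neg, ha0, ha1], sub_zero]
      rw [signFlip_apply] at hXflip
      omega
    rw [show base32neg (σ.symm p) = 0 by simp [base32neg, mt (s0 p).1 h0, mt (s1 p).1 h1],
      hXr _ (mt (s0 p).1 h0) (mt (s2 p).1 h2), if_neg (not_or.2 ⟨h1, h2⟩)]
    simp

/-- The vector of the standard quadruple of the first kind. -/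
def mclY : GolayPt → ℤ := fun p => if (5275709 : ℕ).testBit (ptEquiv p).val then 2 else 0

theorem mclY_codes : ∀ b₁ b₂ b₃ : Bool, (b₁ ^^ b₂ ^^ b₃) = false →
    ∃ n ∈ [0, 9929280, 15515712, 8077824], inCode n = true ∧ n &&& 5311 = 0 ∧
      n.testBit 15 = b₁ ∧ n.testBit 20 = b₂ ∧ n.testBit 22 = b₃ := by
  decide +kernel

theorem mclY_facts : toSet 5275709 ∈ octads ∧
    toSet 5275709 \ (toSet baseOctad ∪ {pt 5}) = {pt 15, pt 20, pt 22} ∧
    toSet 5275709 ∩ toSet baseOctad = {pt 0, pt 2, pt 3, pt 4} ∧ pt 5 ∈ toSet 5275709 :=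
  ⟨mem_wordsOfWeight.2 ⟨_, mem_golayList_of_inCode (by decide +kernel), by decide +kernel, rfl⟩,
    by decide +kernel, by decide +kernel, by decide +kernel⟩

/-- The last vector of a triple in standard form, of the first kind, moved to its own form. -/
theorem exists_mcl8_normal {u v x y : leechLattice} (hu : (u : GolayPt → ℤ) = mclU)
    (hv : (v : GolayPt → ℤ) = pair8v) (hx : (x : GolayPt → ℤ) = mclX)
    (hy : sqNorm (y : GolayPt → ℤ) = 32) (hy5 : (y : GolayPt → ℤ) (pt 5) = 2)
    (hy0 : (y : GolayPt → ℤ) (pt 0) = 2) (hxy : dotInt (x : GolayPt → ℤ) y = 8)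
    (huy : dotInt (u : GolayPt → ℤ) y = 24) :
    ∃ g : Co0, ((g • u : leechLattice) : GolayPt → ℤ) = mclU ∧
      ((g • v : leechLattice) : GolayPt → ℤ) = pair8v ∧
      ((g • x : leechLattice) : GolayPt → ℤ) = mclX ∧
      ((g • y : leechLattice) : GolayPt → ℤ) = mclY := by
  classical
  set Y := (y : GolayPt → ℤ) with hY
  have hb : pt 0 ∈ toSet baseOctad ∧ pt 1 ∈ toSet baseOctad ∧ pt 5 ∉ toSet baseOctad ∧ pt 0 ≠ pt 1 ∧
      pt 5 ≠ pt 1 ∧ pt 0 ≠ pt 5 := by decide +kernel
  have hy1 : Y (pt 1) = 0 := by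
    rw [hx, dotInt_comm, show mclX = Pi.single (pt 5) 4 + Pi.single (pt 1) (-4) by decide +kernel,
      dotInt_add_right, dotInt_single, dotInt_single] at hxy
    omega
  obtain ⟨m, hpar, hsum, -⟩ := mem_leechLattice_iff.1 y.2
  rw [← hY] at hsum
  have hm : m % 2 = 0 := by
    have h1 := hpar (pt 1)
    rw [← hY] at h1
    simp only [Int.ModEq] at h1
    omega
  have hodd : ¬ Y none % 2 = 1 := by
    have h2 := hpar none
    rw [← hY] at h2
    simp only [Int.ModEq] at h2
    omega
  obtain ⟨C, hC, hin, hout⟩ := even_cases y.2 hodd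
  rw [← hY] at hin hout
  have h5C : pt 5 ∈ C := by by_contra h; have := hout _ h; omega
  have h0C : pt 0 ∈ C := by by_contra h; have := hout _ h; omega
  have h1C : pt 1 ∉ C := fun h => by have := hin _ h; omega
  have h8 := eight_le_card hC ⟨_, h5C⟩
  have hsplit := sqNorm_split Y C
  have hlo : (C.card : ℤ) * 4 ≤ ∑ p ∈ C, Y p ^ 2 := by
    simpa using Finset.card_nsmul_le_sum C (fun p => Y p ^ 2) 4 fun q hq => by
      rcases (even_vals hy (by norm_num) hC hin hout q).1 hq with h | h <;> rw [h] <;> norm_num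
  have hnn : 0 ≤ ∑ p ∈ Cᶜ, Y p ^ 2 := Finset.sum_nonneg fun p _ => sq_nonneg _
  have hC8 : C.card = 8 := by omega
  have hzero : ∀ p ∉ C, Y p = 0 := fun p hp => by
    rcases (even_vals hy (by norm_num) hC hin hout p).2 hp with h | h
    · exact h
    · omega
  have hoct : C ∈ octads := ⟨hC, hC8⟩
  have hne : C ≠ toSet baseOctad := fun h => hb.2.2.1 (h ▸ h5C)
  have hI : (C ∩ toSet baseOctad).card ≤ 4 := by
    by_contra h
    exact hne (octad_unique hoct baseOctad_mem (by omega))
  set T := ((toSet baseOctad).erase (pt 0)).erase (pt 1) with hT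
  have hsix : ∑ q ∈ T, Y q = 6 := by
    have hval : ∀ q, mclU q = (if q ∈ T then 2 else 0) + (if q = pt 5 then 4 else 0) +
        (if q = pt 0 then 2 else 0) + (if q = pt 1 then -2 else 0) := by
      rw [hT]; decide +kernel
    have h := huy
    rw [hu, dotInt, Finset.sum_congr rfl fun q _ => by rw [hval q, add_mul, add_mul, add_mul]] at h
    simp only [Finset.sum_add_distrib, ite_mul, zero_mul, Finset.sum_ite_eq', Finset.mem_univ, if_true,
      Finset.sum_ite_mem, Finset.univ_inter, ← Finset.mul_sum] at h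
    omega
  set K := C ∩ T with hK
  have hKsum : ∑ q ∈ K, Y q = 6 := by
    rw [← hsix, hK]
    refine Finset.sum_subset Finset.inter_subset_right fun q hq hnq => hzero q fun h => hnq ?_
    exact Finset.mem_inter.2 ⟨h, hq⟩
  have hKins : insert (pt 0) K ⊆ C ∩ toSet baseOctad := by
    intro q hq
    rcases Finset.mem_insert.1 hq with rfl | hq
    · exact Finset.mem_inter.2 ⟨h0C, hb.1⟩
    · obtain ⟨h1, h2⟩ := Finset.mem_inter.1 hq
      exact Finset.mem_inter.2 ⟨h1, Finset.mem_of_mem_erase (Finset.mem_of_mem_erase h2)⟩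
  have hK0 : pt 0 ∉ K := fun h =>
    (Finset.mem_erase.1 (Finset.mem_of_mem_erase (Finset.mem_inter.1 h).2)).1 rfl
  have hK1 : pt 1 ∉ K := fun h => (Finset.mem_erase.1 (Finset.mem_inter.1 h).2).1 rfl
  have hK3 : K.card ≤ 3 := by
    have := (Finset.card_le_card hKins).trans hI
    rw [Finset.card_insert_of_notMem hK0] at this
    omega
  have hK2 : ∀ q ∈ K, Y q = 2 := by
    intro q hq
    by_contra hne2
    have hq2 : Y q = -2 :=
      ((even_vals hy (by norm_num) hC hin hout q).1 (Finset.mem_inter.1 hq).1).resolve_left hne2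
    have h2 := Finset.sum_le_card_nsmul (K.erase q) (fun r => Y r) 2 fun r hr => by
      rcases (even_vals hy (by norm_num) hC hin hout r).1
        (Finset.mem_inter.1 (Finset.mem_of_mem_erase hr)).1 with h | h <;> rw [h]; norm_num
    rw [← Finset.add_sum_erase K _ hq, hq2] at hKsum
    rw [Finset.card_erase_of_mem hq, nsmul_eq_mul] at h2
    have := Finset.card_pos.2 ⟨q, hq⟩
    omega
  have hKc : K.card = 3 := by
    rw [Finset.sum_congr rfl hK2, Finset.sum_const, nsmul_eq_mul] at hKsum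
    omega
  obtain ⟨a, b, c, hab, hac, hbc, hKe⟩ := Finset.card_eq_three.1 hKc
  have hmemK : ∀ q ∈ [a, b, c], q ∈ K := by simp [hKe]
  have hKO : ∀ q ∈ K, q ∈ toSet baseOctad := fun q hq =>
    (Finset.mem_inter.1 (hKins (Finset.mem_insert_of_mem hq))).2
  obtain ⟨τ, hτ, hτO, hτi, hτ5⟩ := exists_map_octad_five_out baseOctad_mem [pt 0, pt 1, a, b, c] rfl (by
      have n : ∀ q ∈ K, pt 0 ≠ q ∧ pt 1 ≠ q := fun q hq => ⟨fun e => hK0 (e ▸ hq), fun e => hK1 (e ▸ hq)⟩
      simp [hb.2.2.2.1, n a (hmemK a (by simp)), n b (hmemK b (by simp)), n c (hmemK c (by simp)),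
        hab, hac, hbc]) (by
      intro q hq
      simp only [List.mem_cons, List.not_mem_nil, or_false] at hq
      rcases hq with rfl | rfl | h
      exacts [hb.1, hb.2.1, hKO q (hmemK q (by simpa using h))]) hb.2.2.1
  have t0 : τ (pt 0) = pt 0 := hτi 0 (by omega)
  have t1 : τ (pt 1) = pt 1 := hτi 1 (by omega)
  obtain ⟨hP, hPR, hPO, hP5⟩ := mclY_facts
  have hmemO : ∀ q, τ q ∈ toSet baseOctad ↔ q ∈ toSet baseOctad := fun q => by
    conv_lhs => rw [← hτO, ← Equiv.Perm.smul_def, Finset.smul_mem_smul_finset_iff]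
  have hτC : τ • toSet 5275709 = C := by
    refine octad_unique (octads_smul hτ hP) hoct ?_
    have h5 : ({pt 0, pt 5, a, b, c} : Finset GolayPt).card = 5 := by
      have n : ∀ q ∈ K, pt 0 ≠ q ∧ pt 5 ≠ q := fun q hq =>
        ⟨fun e => hK0 (e ▸ hq), fun e => hb.2.2.1 (e ▸ hKO q hq)⟩
      simp [hb.2.2.2.2.2, n a (hmemK a (by simp)), n b (hmemK b (by simp)), n c (hmemK c (by simp)),
        hab, hac, hbc]
    rw [← h5]
    refine Finset.card_le_card fun q hq => Finset.mem_inter.2 ?_
    have hin' : ∀ i, pt i ∈ toSet baseOctad ∧ pt i ≠ pt 1 → pt i ∈ ({pt 0, pt 2, pt 3, pt 4} : Finset GolayPt) →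
        τ (pt i) ∈ τ • toSet 5275709 := fun i _ hi => by
      refine Finset.smul_mem_smul_finset ?_
      rw [← hPO] at hi
      exact (Finset.mem_inter.1 hi).1
    simp only [Finset.mem_insert, Finset.mem_singleton] at hq
    rcases hq with rfl | rfl | h | h | h
    · exact ⟨t0 ▸ hin' 0 (by decide +kernel) (by simp), h0C⟩
    · exact ⟨hτ5 ▸ Finset.smul_mem_smul_finset hP5, h5C⟩
    · have e : τ (pt 2) = a := hτi 2 (by omega)
      have m := hin' 2 (by decide +kernel) (by simp)
      rw [e] at m; subst h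
      exact ⟨m, (Finset.mem_inter.1 (hmemK _ (by simp))).1⟩
    · have e : τ (pt 3) = b := hτi 3 (by omega)
      have m := hin' 3 (by decide +kernel) (by simp)
      rw [e] at m; subst h
      exact ⟨m, (Finset.mem_inter.1 (hmemK _ (by simp))).1⟩
    · have e : τ (pt 4) = c := hτi 4 (by omega)
      have m := hin' 4 (by decide +kernel) (by simp)
      rw [e] at m; subst h
      exact ⟨m, (Finset.mem_inter.1 (hmemK _ (by simp))).1⟩
  have hmemC : ∀ q, τ q ∈ C ↔ q ∈ toSet 5275709 := fun q => by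
    rw [← hτC, ← Equiv.Perm.smul_def, Finset.smul_mem_smul_finset_iff]
  set R : Finset GolayPt := {pt 15, pt 20, pt 22} with hR
  set N := R.filter fun q => Y (τ q) < 0 with hN
  have hpos : ∀ q ∈ toSet 5275709, q ∉ R → Y (τ q) = 2 := by
    intro q hq hnR
    by_cases h : q = pt 5
    · rw [h, hτ5, hy5]
    have hqO : q ∈ toSet baseOctad := by
      by_contra hO
      refine hnR ?_
      rw [← hPR]
      simp [hq, hO, h]
    have : q ∈ ({pt 0, pt 2, pt 3, pt 4} : Finset GolayPt) := hPO ▸ Finset.mem_inter.2 ⟨hq, hqO⟩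
    simp only [Finset.mem_insert, Finset.mem_singleton] at this
    rcases this with rfl | rfl | rfl | rfl
    · rw [t0, hy0]
    · exact (congrArg Y (hτi 2 (by omega))).trans (hK2 _ (hmemK _ (by simp)))
    · exact (congrArg Y (hτi 3 (by omega))).trans (hK2 _ (hmemK _ (by simp)))
    · exact (congrArg Y (hτi 4 (by omega))).trans (hK2 _ (hmemK _ (by simp)))
  have hNpar : N.card % 2 = 0 := by
    have hs : ∑ q, Y (τ q) = 16 - 4 * (N.card : ℤ) := by
      have hRP : R ⊆ toSet 5275709 := by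
        rw [← hPR]; exact Finset.sdiff_subset
      have e : N = (toSet 5275709).filter fun q => Y (τ q) < 0 := by
        ext q
        simp only [hN, Finset.mem_filter]
        refine ⟨fun h => ⟨hRP h.1, h.2⟩, fun h => ⟨?_, h.2⟩⟩
        by_contra hn
        have := hpos q h.1 hn
        omega
      rw [← Finset.sum_subset (Finset.subset_univ (toSet 5275709))
        (fun q _ hq => hzero _ fun h => hq ((hmemC q).1 h)), e, Finset.card_filter, Nat.cast_sum,
        Finset.mul_sum, show (16 : ℤ) = ∑ _q ∈ toSet 5275709, (2 : ℤ) by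
          rw [Finset.sum_const, card_toSet, show bitCount 5275709 = 8 by decide +kernel]; rfl,
        ← Finset.sum_sub_distrib]
      refine Finset.sum_congr rfl fun q hq => ?_
      rcases (even_vals hy (by norm_num) hC hin hout (τ q)).1 ((hmemC q).2 hq) with h | h <;> simp [h]
    rw [Equiv.sum_comp τ Y] at hs
    simp only [Int.ModEq] at hsum
    omega
  obtain ⟨n, -, hn, hnM, hnR⟩ : ∃ n ∈ [0, 9929280, 15515712, 8077824], inCode n = true ∧
      n &&& 5311 = 0 ∧ (n.testBit 15 = decide (Y (τ (pt 15)) < 0) ∧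
        n.testBit 20 = decide (Y (τ (pt 20)) < 0) ∧ n.testBit 22 = decide (Y (τ (pt 22)) < 0)) := by
    refine mclY_codes _ _ _ ?_
    have d : pt 15 ≠ pt 20 ∧ pt 15 ≠ pt 22 ∧ pt 20 ≠ pt 22 := by decide +kernel
    rw [hN, hR, Finset.card_filter, Finset.sum_insert (by simp [d.1, d.2.1]), Finset.sum_pair d.2.2] at hNpar
    by_cases h15 : Y (τ (pt 15)) < 0 <;> by_cases h20 : Y (τ (pt 20)) < 0 <;>
      by_cases h22 : Y (τ (pt 22)) < 0 <;> simp [h15, h20, h22] at hNpar ⊢
  have hcd : CodeSet (toSet n) := mem_supports.2 ⟨n, mem_golayList_of_inCode hn, rfl⟩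
  have hnO' : ∀ q ∈ toSet baseOctad, q ∉ toSet n := by
    intro q hq h
    have := congrArg (fun m : ℕ => m.testBit (ptEquiv q).val) hnM
    have hM : (5311 : ℕ) = baseOctad ||| 32 := by decide +kernel
    simp [hM, Nat.testBit_and, Nat.testBit_or, mem_toSet.1 hq, mem_toSet.1 h] at this
  have hn5 : pt 5 ∉ toSet n := by
    intro h
    have := congrArg (fun m : ℕ => m.testBit 5) hnM
    rw [pt_mem_toSet (by omega)] at h
    simp [Nat.testBit_and, h, show (5311 : ℕ).testBit 5 = true by decide +kernel] at this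
  have e5 : ∀ q, τ q = pt 5 ↔ q = pt 5 := fun q =>
    ⟨fun h => τ.injective (h.trans hτ5.symm), fun h => by rw [h, hτ5]⟩
  have e0 : ∀ q, τ q = pt 0 ↔ q = pt 0 := fun q =>
    ⟨fun h => τ.injective (h.trans t0.symm), fun h => by rw [h, t0]⟩
  have e1 : ∀ q, τ q = pt 1 ↔ q = pt 1 := fun q =>
    ⟨fun h => τ.injective (h.trans t1.symm), fun h => by rw [h, t1]⟩
  have hfix : ∀ f : GolayPt → ℤ, (∀ q, f (τ q) = f q) → (∀ q ∈ toSet n, f q = 0) →
      ∀ q, (if q ∈ toSet n then -f (τ q) else f (τ q)) = f q := fun f h1 h2 q => by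
    rw [h1]; split
    · rename_i h; rw [h2 q h]; rfl
    · rfl
  refine ⟨monoAut τ⁻¹ (inv_mem hτ) _ hcd, ?_, ?_, ?_, ?_⟩ <;> rw [coe_monoAut_smul]
  · rw [hu]
    refine funext (hfix mclU (fun q => ?_) fun q hq => ?_)
    · have hbit : baseOctad.testBit (ptEquiv (τ q)).val = baseOctad.testBit (ptEquiv q).val :=
        Bool.eq_iff_iff.2 (by rw [← mem_toSet, ← mem_toSet]; exact hmemO q)
      simp only [mclU, e5, e1, hbit]
    · have hO : q ∉ toSet baseOctad := fun h => hnO' q h hq
      rw [mclU, if_neg (fun h : q = pt 5 => hn5 (h ▸ hq)), if_neg (fun h : q = pt 1 => hO (h ▸ hb.2.1)),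
        if_neg (show ¬ baseOctad.testBit (ptEquiv q).val = true from fun h => hO (mem_toSet.2 h))]
  · rw [hv]
    refine funext (hfix pair8v (fun q => ?_) fun q hq => ?_)
    · simp only [pair8v, e5, e0]
    · rw [pair8v, if_neg]
      rintro (rfl | rfl)
      exacts [hnO' _ hb.1 hq, hn5 hq]
  · rw [hx]
    refine funext (hfix mclX (fun q => ?_) fun q hq => ?_)
    · simp only [mclX, e5, e1]
    · rw [mclX, if_neg (fun h : q = pt 5 => hn5 (h ▸ hq)),
        if_neg (fun h : q = pt 1 => hnO' _ hb.2.1 (h ▸ hq))]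
  · rw [← hY]
    funext q
    show (if q ∈ toSet n then -Y (τ q) else Y (τ q)) = mclY q
    by_cases hq : q ∈ toSet 5275709
    · rw [mclY, if_pos (mem_toSet.1 hq)]
      by_cases hqR : q ∈ R
      · have hiff : q ∈ toSet n ↔ Y (τ q) < 0 := by
          simp only [hR, Finset.mem_insert, Finset.mem_singleton] at hqR
          rcases hqR with rfl | rfl | rfl <;> rw [pt_mem_toSet (by omega)]
          · rw [hnR.1, decide_eq_true_eq]
          · rw [hnR.2.1, decide_eq_true_eq]
          · rw [hnR.2.2, decide_eq_true_eq]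
        rcases (even_vals hy (by norm_num) hC hin hout (τ q)).1 ((hmemC q).2 hq) with h | h
        · rw [if_neg (fun hm => by have := hiff.1 hm; omega), h]
        · rw [if_pos (hiff.2 (by omega)), h]; norm_num
      · rw [hpos q hq hqR, if_neg fun hm => ?_]
        by_cases h5 : q = pt 5
        · exact hn5 (h5 ▸ hm)
        refine hqR ?_
        rw [← hPR]
        simp only [Finset.mem_sdiff, Finset.mem_union, Finset.mem_singleton, not_or]
        exact ⟨hq, fun h => hnO' q h hm, h5⟩
    · rw [hzero _ fun h => hq ((hmemC q).1 h), mclY,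
        if_neg (show ¬ (5275709 : ℕ).testBit (ptEquiv q).val = true from fun h => hq (mem_toSet.2 h))]
      simp

theorem exists_quad_mcl8 {u v x y : leechLattice} (hu : sqNorm (u : GolayPt → ℤ) = 48)
    (hv : sqNorm (v : GolayPt → ℤ) = 32) (hx : sqNorm (x : GolayPt → ℤ) = 32)
    (hy : sqNorm (y : GolayPt → ℤ) = 32)
    (huv : dotInt (u : GolayPt → ℤ) v = 24) (hux : dotInt (u : GolayPt → ℤ) x = 24)
    (huy : dotInt (u : GolayPt → ℤ) y = 24) (hvx : dotInt (v : GolayPt → ℤ) x = 16)
    (hvy : dotInt (v : GolayPt → ℤ) y = 16) (hxy : dotInt (x : GolayPt → ℤ) y = 8) :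
    ∃ g : Co0, ((g • u : leechLattice) : GolayPt → ℤ) = mclU ∧
      ((g • v : leechLattice) : GolayPt → ℤ) = pair8v ∧
      ((g • x : leechLattice) : GolayPt → ℤ) = mclX ∧
      ((g • y : leechLattice) : GolayPt → ℤ) = mclY := by
  classical
  obtain ⟨g₁, hv₁, hx₁, hu₁⟩ := exists_triple_mcl hu hv hx huv hux hvx
  set Y := ((g₁ • y : leechLattice) : GolayPt → ℤ) with hY
  have hYn : sqNorm Y = 32 := by rw [hY, sqNorm_smul_co, hy]
  have d : pt 5 ≠ pt 1 ∧ pt 5 ≠ pt 0 ∧ pt 0 ≠ pt 1 ∧ pt 1 ≠ pt 6 ∧ pt 5 ≠ pt 6 ∧ pt 0 ≠ pt 6 := by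
    decide +kernel
  have c1 := dot_smul_co g₁ y v
  have c2 := dot_smul_co g₁ y x
  rw [hv₁, show pair8v = Pi.single (pt 0) 4 + Pi.single (pt 5) 4 by decide +kernel, dotInt_add_right,
    dotInt_single, dotInt_single, ← hY, dotInt_comm (y : GolayPt → ℤ), hvy] at c1
  rw [hx₁, show mclX = Pi.single (pt 5) 4 + Pi.single (pt 1) (-4) by decide +kernel, dotInt_add_right,
    dotInt_single, dotInt_single, ← hY, dotInt_comm (y : GolayPt → ℤ), hxy] at c2
  obtain ⟨g₂, k1, k2, k3, k4, k5⟩ : ∃ g : Co0, ((g • g₁ • u : leechLattice) : GolayPt → ℤ) = mclU ∧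
      ((g • g₁ • v : leechLattice) : GolayPt → ℤ) = pair8v ∧
      ((g • g₁ • x : leechLattice) : GolayPt → ℤ) = mclX ∧
      ((g • g₁ • y : leechLattice) : GolayPt → ℤ) (pt 5) = 2 ∧
      ((g • g₁ • y : leechLattice) : GolayPt → ℤ) (pt 0) = 2 := by
    by_cases hodd : Y none % 2 = 1
    · obtain ⟨D, hD, hD1⟩ := exists_normal_odd (g₁ • y).2 hodd
      rw [← hY] at hD1
      have esq : ∀ p, signFlip D Y p ^ 2 = Y p ^ 2 := fun p => by rw [signFlip_apply]; split <;> ring
      have habs : ∀ p, Y p = 1 ∨ Y p = -1 ∨ Y p = 3 ∨ Y p = -3 ∨ Y p = 5 ∨ Y p = -5 := fun p => by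
        have := normal_vals hYn (by norm_num) hD1 p
        rw [signFlip_apply] at this
        split at this <;> omega
      have hs := normal_sum ({pt 5, pt 0, pt 1, pt 6} : Finset GolayPt) hD1
      rw [hYn, Finset.sum_insert (by simp [d.1, d.2.1, d.2.2.2.2.1]),
        Finset.sum_insert (by simp [d.2.2.1, d.2.2.2.2.2]), Finset.sum_pair d.2.2.2.1,
        esq, esq, esq, esq] at hs
      have k5 := habs (pt 5)
      have k0 := habs (pt 0)
      have k1 := habs (pt 1)
      have hcase : (Y (pt 5) = 3 ∧ Y (pt 0) = 1 ∧ Y (pt 1) = 1) ∨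
          (Y (pt 5) = 1 ∧ Y (pt 0) = 3 ∧ Y (pt 1) = -1) ∨
          (Y (pt 5) = 5 ∧ Y (pt 0) = -1 ∧ Y (pt 1) = 3) ∨
          (Y (pt 5) = -1 ∧ Y (pt 0) = 5 ∧ Y (pt 1) = -3) := by omega
      have h16 : (Y (pt 1) = 1 ∨ Y (pt 1) = -1) ∧ (Y (pt 6) = 1 ∨ Y (pt 6) = -1) := by
        rcases hcase with ⟨a, b, c⟩ | ⟨a, b, c⟩ | ⟨a, b, c⟩ | ⟨a, b, c⟩ <;> rw [a, b, c] at hs <;>
          rcases habs (pt 6) with h | h | h | h | h | h <;> rw [h] at hs <;> first
            | (rw [c, h]; norm_num; done)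
            | (norm_num at hs; done)
      set t : ℤ := 4 * Y (pt 1) * Y (pt 6) with ht
      have ht4 : t = 4 ∨ t = -4 := by
        rcases h16 with ⟨h | h, h' | h'⟩ <;> rw [ht, h, h'] <;> norm_num
      set z : GolayPt → ℤ := Pi.single (pt 1) (-4) + Pi.single (pt 6) t with hzdef
      have hz : z ∈ leechLattice := by
        refine mem_leechLattice_iff_form.2 ⟨⟨0, ∅, Pi.single (pt 1) (-1) + Pi.single (pt 6) (t / 4),
          codeSet_empty, fun i => ?_, ?_⟩⟩
        · simp only [hzdef, indi, Finset.notMem_empty, if_false, Pi.add_apply, Pi.single_apply]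
          split_ifs <;> omega
        · simp only [hzdef, Pi.add_apply, Finset.sum_add_distrib, Finset.sum_pi_single', Finset.mem_univ,
            if_true]
          simp only [Int.ModEq]; omega
      have hzn : sqNorm z = 32 := by
        rw [hzdef, sqNorm_add, sqNorm_single, sqNorm_single, dotInt_single,
          Pi.single_eq_of_ne d.2.2.2.1.symm]
        rcases ht4 with h | h <;> rw [h] <;> norm_num
      have hU : mclU (pt 1) = -2 ∧ mclU (pt 6) = 0 := by decide +kernel
      have hV : pair8v (pt 1) = 0 ∧ pair8v (pt 6) = 0 := by decide +kernel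
      have hX : mclX (pt 1) = -4 ∧ mclX (pt 6) = 0 := by decide +kernel
      have zV : dotInt pair8v z = 0 := by
        simp only [hzdef, dotInt_add_right, dotInt_single, hV.1, hV.2]; norm_num
      have zX : dotInt mclX z = 16 := by
        simp only [hzdef, dotInt_add_right, dotInt_single, hX.1, hX.2]; norm_num
      have zU : dotInt mclU z = 8 := by
        simp only [hzdef, dotInt_add_right, dotInt_single, hU.1, hU.2]; norm_num
      have zY : dotInt Y z = 0 := by
        simp only [hzdef, dotInt_add_right, dotInt_single, ht]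
        rcases h16.2 with e | e <;> rw [e] <;> ring
      obtain ⟨h, e1, e2⟩ := exists_smul_orth (v := g₁ • v) (w := ⟨z, hz⟩) (by rw [sqNorm_smul_co, hv]) hzn (by
        rw [hv₁]; exact zV)
      have x1 := dot_smul_co h (g₁ • x) (g₁ • v)
      have x2 := dot_smul_co h (g₁ • x) ⟨z, hz⟩
      have u1 := dot_smul_co h (g₁ • u) (g₁ • v)
      have u2 := dot_smul_co h (g₁ • u) ⟨z, hz⟩
      have y1 := dot_smul_co h (g₁ • y) (g₁ • v)
      have y2 := dot_smul_co h (g₁ • y) ⟨z, hz⟩
      rw [e1, dotInt_base32, dot_smul_co, dotInt_comm (x : GolayPt → ℤ), hvx] at x1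
      rw [e1, dotInt_base32, dot_smul_co, huv] at u1
      rw [e1, dotInt_base32, dot_smul_co, dotInt_comm (y : GolayPt → ℤ), hvy] at y1
      rw [e2, dotInt_base32neg, hx₁] at x2
      rw [e2, dotInt_base32neg, hu₁] at u2
      rw [e2, dotInt_base32neg, ← hY] at y2
      replace x2 := x2.trans zX
      replace u2 := u2.trans zU
      replace y2 := y2.trans zY
      obtain ⟨g₃, n1, n2, n3, n4⟩ := exists_mcl_normal (v := h • g₁ • v) (x := h • g₁ • x)
        (u := h • g₁ • u) e1 (by omega) (by omega) (by omega) (by omega)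
        (by rw [sqNorm_smul_co, sqNorm_smul_co, hx]) (by rw [sqNorm_smul_co, sqNorm_smul_co, hu])
        (by rw [dot_smul_co, dot_smul_co, hux])
      refine ⟨g₃ * h, by rw [mul_smul]; exact n3, by rw [mul_smul]; exact n1,
        by rw [mul_smul]; exact n2, ?_, ?_⟩
      · rw [mul_smul, (n4 _).1]; omega
      · rw [mul_smul, (n4 _).2]; omega
    · obtain ⟨C, hC, hin, hout⟩ := even_cases (g₁ • y).2 hodd
      rw [← hY] at hin hout
      have key : Y (pt 5) = 2 ∧ Y (pt 0) = 2 := by
        by_cases h5 : pt 5 ∈ C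
        · have := eight_le_card hC ⟨_, h5⟩
          have := (even_vals hYn (by norm_num) hC hin hout (pt 5)).1 h5
          by_cases h0 : pt 0 ∈ C
          · have := (even_vals hYn (by norm_num) hC hin hout (pt 0)).1 h0; omega
          · have := (even_vals hYn (by norm_num) hC hin hout (pt 0)).2 h0; omega
        · have := (even_vals hYn (by norm_num) hC hin hout (pt 5)).2 h5
          by_cases h0 : pt 0 ∈ C
          · have := eight_le_card hC ⟨_, h0⟩
            have := (even_vals hYn (by norm_num) hC hin hout (pt 0)).1 h0; omega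
          · have := (even_vals hYn (by norm_num) hC hin hout (pt 0)).2 h0
            by_cases h1 : pt 1 ∈ C
            · have := eight_le_card hC ⟨_, h1⟩
              omega
            · have := (even_vals hYn (by norm_num) hC hin hout (pt 1)).2 h1; omega
      exact ⟨1, by rw [one_smul, hu₁], by rw [one_smul, hv₁], by rw [one_smul, hx₁],
        by rw [one_smul, ← hY]; exact key.1, by rw [one_smul, ← hY]; exact key.2⟩
  obtain ⟨g₃, q1, q2, q3, q4⟩ := exists_mcl8_normal (u := g₂ • g₁ • u) (v := g₂ • g₁ • v)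
    (x := g₂ • g₁ • x) (y := g₂ • g₁ • y) k1 k2 k3 (by rw [sqNorm_smul_co, sqNorm_smul_co, hy]) k4 k5
    (by rw [dot_smul_co, dot_smul_co, hxy]) (by rw [dot_smul_co, dot_smul_co, huy])
  exact ⟨g₃ * (g₂ * g₁), by rw [mul_smul, mul_smul]; exact q1, by rw [mul_smul, mul_smul]; exact q2,
    by rw [mul_smul, mul_smul]; exact q3, by rw [mul_smul, mul_smul]; exact q4⟩

/-- The vector of the standard quadruple of the first Higman–Sims kind. -/
def hsY8 : GolayPt → ℤ := fun p => if p = pt 2 then -3 else 1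

/-- The vector of the standard quadruple of the second Higman–Sims kind. -/
def hsY16 : GolayPt → ℤ := fun p => if baseOctad.testBit (ptEquiv p).val then 2 else 0

theorem exists_quad_hs {v w x y : leechLattice} (hv : sqNorm (v : GolayPt → ℤ) = 48)
    (hw : sqNorm (w : GolayPt → ℤ) = 48) (hvw : dotInt (v : GolayPt → ℤ) w = -32)
    (hx : sqNorm (x : GolayPt → ℤ) = 32) (hy : sqNorm (y : GolayPt → ℤ) = 32)
    (hdvx : dotInt (v : GolayPt → ℤ) x = 24) (hdwx : dotInt (w : GolayPt → ℤ) x = -24)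
    (hdvy : dotInt (v : GolayPt → ℤ) y = 24) (hdwy : dotInt (w : GolayPt → ℤ) y = -24)
    (hd : dotInt (x : GolayPt → ℤ) y = 8 ∨ dotInt (x : GolayPt → ℤ) y = 16) :
    ∃ g : Co0, ((g • v : leechLattice) : GolayPt → ℤ) = hsU ∧
      ((g • (v + w) : leechLattice) : GolayPt → ℤ) = base32neg ∧
      ((g • x : leechLattice) : GolayPt → ℤ) = base32 ∧
      ((g • y : leechLattice) : GolayPt → ℤ) =
        if dotInt (x : GolayPt → ℤ) y = 8 then hsY8 else hsY16 := by
  classical
  obtain ⟨g₁, hx₁, hs₁, hv₁⟩ := exists_triple_hs hv hw hvw hx hdvx hdwx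
  set Y := ((g₁ • y : leechLattice) : GolayPt → ℤ) with hY
  have hYn : sqNorm Y = 32 := by rw [hY, sqNorm_smul_co, hy]
  have h01 : pt 0 ≠ pt 1 := by decide +kernel
  have e01 : Y (pt 0) = Y (pt 1) := by
    have h := dot_smul_co g₁ y (v + w)
    rw [hs₁, dotInt_base32neg, ← hY, AddSubgroup.coe_add, dotInt_add_right,
      dotInt_comm (y : GolayPt → ℤ), hdvy, dotInt_comm (y : GolayPt → ℤ), hdwy] at h
    omega
  have eX : dotInt (x : GolayPt → ℤ) y = 8 * Y (pt 0) := by
    have h := dot_smul_co g₁ y x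
    rw [hx₁, dotInt_base32, ← hY, ← e01, dotInt_comm (y : GolayPt → ℤ)] at h
    rw [← h]; ring
  have hsumY : 4 * Y (pt 0) + ∑ p, Y p = 24 := by
    have h := dot_smul_co g₁ v y
    rw [hv₁, hdvy, ← hY, dotInt] at h
    rw [← h, show ∀ s : ℤ, 4 * Y (pt 0) + s = s + 4 * Y (pt 0) from fun s => add_comm _ _,
      ← Finset.sum_ite_eq' Finset.univ (pt 0) (fun q => 4 * Y q) |>.trans (if_pos (Finset.mem_univ _)),
      ← Finset.sum_add_distrib]
    refine Finset.sum_congr rfl fun p _ => ?_
    simp only [hsU]; split <;> ring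
  have hkeep : ∀ (σ : Equiv.Perm GolayPt), σ (pt 0) = pt 0 → σ (pt 1) = pt 1 →
      (∀ q, hsU (σ q) = hsU q) ∧ (∀ q, base32 (σ q) = base32 q) ∧ ∀ q, base32neg (σ q) = base32neg q := by
    intro σ h0 h1
    have e0 : ∀ q, σ q = pt 0 ↔ q = pt 0 := fun q =>
      ⟨fun h => σ.injective (h.trans h0.symm), fun h => by rw [h, h0]⟩
    have e1 : ∀ q, σ q = pt 1 ↔ q = pt 1 := fun q =>
      ⟨fun h => σ.injective (h.trans h1.symm), fun h => by rw [h, h1]⟩
    exact ⟨fun q => by simp only [hsU, e0], fun q => by simp only [base32, e0, e1],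
      fun q => by simp only [base32neg, e0, e1]⟩
  suffices ∃ (σ : Equiv.Perm GolayPt), σ ∈ M24 ∧ σ (pt 0) = pt 0 ∧ σ (pt 1) = pt 1 ∧
      ∀ q, Y (σ q) = (if dotInt (x : GolayPt → ℤ) y = 8 then hsY8 else hsY16) q by
    obtain ⟨σ, hσ, s0, s1, hσY⟩ := this
    obtain ⟨k1, k2, k3⟩ := hkeep σ s0 s1
    refine ⟨monoAut σ⁻¹ (inv_mem hσ) ∅ codeSet_empty * g₁, funext fun q => ?_, funext fun q => ?_,
      funext fun q => ?_, funext fun q => ?_⟩
    all_goals rw [mul_smul, coe_monoAut_smul]
    · rw [hv₁]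
      show (if q ∈ (∅ : Finset GolayPt) then -hsU (σ q) else hsU (σ q)) = hsU q
      rw [if_neg (Finset.notMem_empty _), k1]
    · rw [hs₁]
      show (if q ∈ (∅ : Finset GolayPt) then -base32neg (σ q) else base32neg (σ q)) = base32neg q
      rw [if_neg (Finset.notMem_empty _), k3]
    · rw [hx₁]
      show (if q ∈ (∅ : Finset GolayPt) then -base32 (σ q) else base32 (σ q)) = base32 q
      rw [if_neg (Finset.notMem_empty _), k2]
    · rw [← hY]
      show (if q ∈ (∅ : Finset GolayPt) then -Y (σ q) else Y (σ q)) = _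
      rw [if_neg (Finset.notMem_empty _), hσY]
  rcases hd with hd | hd
  · -- one coordinate `-3`
    have y0 : Y (pt 0) = 1 := by omega
    have hodd : Y none % 2 = 1 := by
      obtain ⟨m, hpar, -, -⟩ := mem_leechLattice_iff.1 (g₁ • y).2
      have a1 := hpar (pt 0)
      have a2 := hpar none
      rw [← hY] at a1 a2
      simp only [Int.ModEq] at a1 a2
      omega
    obtain ⟨D, hD, hD1⟩ := exists_normal_odd (g₁ • y).2 hodd
    rw [← hY] at hD1
    set Z := signFlip D Y with hZ
    have hZv := normal_vals hYn (by norm_num) hD1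
    have hZn : sqNorm Z = 32 := by rw [hZ, sqNorm_signFlip, hYn]
    have hZp : ∀ p, Z p = 1 ∨ Z p = -3 := fun p => by
      rcases hZv p with h | h | h
      · exact Or.inl h
      · exact Or.inr h
      · have hs := normal_sum ({p} : Finset GolayPt) hD1
        rw [hYn, Finset.sum_singleton, h] at hs
        norm_num at hs
    set S := Finset.univ.filter fun p => Z p = -3 with hS
    have hS1 : S.card = 1 := by
      have h := sum_sq_sub_one Z
      rw [hZn, ← Finset.sum_subset (Finset.subset_univ S) (fun p _ hp => by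
        rw [show Z p = 1 from (hZp p).resolve_right (by simpa [hS] using hp)]; ring),
        Finset.sum_congr rfl (fun p hp => by
          rw [show Z p = -3 from (Finset.mem_filter.1 hp).2]; norm_num : ∀ p ∈ S, Z p ^ 2 - 1 = 8),
        Finset.sum_const, nsmul_eq_mul] at h
      omega
    obtain ⟨a, ha⟩ := Finset.card_eq_one.1 hS1
    have hZa : Z a = -3 := (Finset.mem_filter.1 (ha ▸ Finset.mem_singleton_self a : a ∈ S)).2
    have hZo : ∀ p, p ≠ a → Z p = 1 := fun p hp => (hZp p).resolve_right fun h =>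
      hp (Finset.mem_singleton.1 (ha ▸ Finset.mem_filter.2 ⟨Finset.mem_univ p, h⟩))
    have hsumZ : ∑ p, Y p = 20 - 2 * ∑ p ∈ D, Z p := by
      have h1 : ∑ p, Z p = 20 := by
        have h := Finset.add_sum_erase Finset.univ Z (Finset.mem_univ a)
        rw [← h, hZa, Finset.sum_congr rfl fun p hp => hZo p (Finset.mem_erase.1 hp).1, Finset.sum_const,
          Finset.card_erase_of_mem (Finset.mem_univ a), Finset.card_univ, card_golayPt]
        norm_num
      have h2 : ∑ p ∈ D, 2 * Z p = ∑ p, if p ∈ D then 2 * Z p else 0 := by simp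
      rw [← h1, Finset.mul_sum, h2, ← Finset.sum_sub_distrib]
      refine Finset.sum_congr rfl fun p _ => ?_
      rw [hZ, signFlip_apply]
      by_cases h : p ∈ D <;> simp [h] <;> ring
    have hD0 : D = ∅ := by
      by_contra hne
      have h8 := eight_le_card hD (Finset.nonempty_iff_ne_empty.2 hne)
      have hlow : (D.card : ℤ) - 4 ≤ ∑ p ∈ D, Z p := by
        by_cases haD : a ∈ D
        · rw [← Finset.add_sum_erase D Z haD, hZa,
            Finset.sum_congr rfl fun p hp => hZo p (Finset.mem_erase.1 hp).1, Finset.sum_const,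
            Finset.card_erase_of_mem haD, nsmul_eq_mul]
          omega
        · rw [Finset.sum_congr rfl fun p hp => hZo p (fun e => haD (e ▸ hp)), Finset.sum_const,
            nsmul_eq_mul]
          omega
      omega
    subst hD0
    have hZY : ∀ p, Z p = Y p := fun p => by rw [hZ, signFlip_apply, if_neg (Finset.notMem_empty p)]
    have ha0 : a ≠ pt 0 := fun h => by rw [h, hZY, y0] at hZa; norm_num at hZa
    have ha1 : a ≠ pt 1 := fun h => by rw [h, hZY, ← e01, y0] at hZa; norm_num at hZa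
    obtain ⟨σ, hσ, s0, s1, s2⟩ := M24_map_three (d := pt 0) (e := pt 1) (f := a) h01
      (show pt 0 ≠ pt 2 by decide +kernel) (show pt 1 ≠ pt 2 by decide +kernel) h01 ha0.symm ha1.symm
    refine ⟨σ, hσ, s0, s1, fun q => ?_⟩
    rw [if_pos hd, ← hZY, hsY8]
    by_cases h : q = pt 2
    · rw [h, s2, hZa, if_pos rfl]
    · rw [if_neg h, hZo _ fun e => h (σ.injective (e.trans s2.symm))]
  · -- an octad vector
    have y0 : Y (pt 0) = 2 := by omega
    have hodd : ¬ Y none % 2 = 1 := by
      obtain ⟨m, hpar, -, -⟩ := mem_leechLattice_iff.1 (g₁ • y).2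
      have a1 := hpar (pt 0)
      have a2 := hpar none
      rw [← hY] at a1 a2
      simp only [Int.ModEq] at a1 a2
      omega
    obtain ⟨C, hC, hin, hout⟩ := even_cases (g₁ • y).2 hodd
    rw [← hY] at hin hout
    have h0C : pt 0 ∈ C := by by_contra h; have := hout _ h; omega
    have h1C : pt 1 ∈ C := by by_contra h; have := hout _ h; omega
    have h8 := eight_le_card hC ⟨_, h0C⟩
    have hsplit := sqNorm_split Y C
    have hlo : (C.card : ℤ) * 4 ≤ ∑ p ∈ C, Y p ^ 2 := by
      simpa using Finset.card_nsmul_le_sum C (fun p => Y p ^ 2) 4 fun q hq => by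
        rcases (even_vals hYn (by norm_num) hC hin hout q).1 hq with h | h <;> rw [h] <;> norm_num
    have hnn : 0 ≤ ∑ p ∈ Cᶜ, Y p ^ 2 := Finset.sum_nonneg fun p _ => sq_nonneg _
    have hC8 : C.card = 8 := by omega
    have hzero : ∀ p ∉ C, Y p = 0 := fun p hp => by
      rcases (even_vals hYn (by norm_num) hC hin hout p).2 hp with h | h
      · exact h
      · omega
    have hall : ∀ p ∈ C, Y p = 2 := by
      intro p hp
      by_contra hne
      have hp2 : Y p = -2 := ((even_vals hYn (by norm_num) hC hin hout p).1 hp).resolve_left hne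
      rw [← Finset.sum_subset (Finset.subset_univ C) (fun q _ hq => hzero q hq),
        ← Finset.add_sum_erase C Y hp, hp2] at hsumY
      have h2 := Finset.sum_le_card_nsmul (C.erase p) (fun q => Y q) 2 fun q hq => by
        rcases (even_vals hYn (by norm_num) hC hin hout q).1 (Finset.mem_of_mem_erase hq) with h | h <;>
          rw [h]; norm_num
      rw [Finset.card_erase_of_mem hp, hC8, nsmul_eq_mul] at h2
      omega
    obtain ⟨T, hT, hT3⟩ := Finset.exists_subset_card_eq (s := (C.erase (pt 0)).erase (pt 1)) (n := 3)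
      (by rw [Finset.card_erase_of_mem (Finset.mem_erase.2 ⟨h01.symm, h1C⟩),
        Finset.card_erase_of_mem h0C]; omega)
    have hnT : pt 0 ∉ T ∧ pt 1 ∉ T := ⟨fun h => (Finset.mem_erase.1 (Finset.mem_of_mem_erase (hT h))).1 rfl,
      fun h => (Finset.mem_erase.1 (hT h)).1 rfl⟩
    have hsub : ∀ q ∈ pt 0 :: pt 1 :: T.toList, q ∈ C := by
      intro q hq
      simp only [List.mem_cons, Finset.mem_toList] at hq
      rcases hq with rfl | rfl | h
      exacts [h0C, h1C, Finset.mem_of_mem_erase (Finset.mem_of_mem_erase (hT h))]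
    obtain ⟨q₀, -, hq₀⟩ : ∃ q ∈ (Finset.univ : Finset GolayPt), q ∉ C := by
      by_contra h
      push Not at h
      have := Finset.card_le_card (fun q hq => h q hq : Finset.univ ⊆ C)
      rw [Finset.card_univ, card_golayPt] at this
      omega
    obtain ⟨σ, hσ, hσC, hσi, -⟩ := exists_map_octad_five_out (o := C) ⟨hC, hC8⟩
      (pt 0 :: pt 1 :: T.toList) (by simp [hT3]) (by simp [h01, hnT.1, hnT.2, T.nodup_toList]) hsub hq₀
    refine ⟨σ, hσ, hσi 0 (by omega), hσi 1 (by omega), fun q => ?_⟩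
    have hmem : σ q ∈ C ↔ q ∈ toSet baseOctad := by
      rw [← hσC, ← Equiv.Perm.smul_def, Finset.smul_mem_smul_finset_iff]
    rw [if_neg (show ¬ dotInt (x : GolayPt → ℤ) y = 8 by omega), hsY16]
    by_cases hq : q ∈ toSet baseOctad
    · rw [hall _ (hmem.2 hq), if_pos (mem_toSet.1 hq)]
    · rw [hzero _ (mt hmem.1 hq),
        if_neg (show ¬ baseOctad.testBit (ptEquiv q).val = true from fun h => hq (mem_toSet.2 h))]

end CfsgLib.Leech
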