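import Cfsg.Agent.Lib.Leech.Sections
import Cfsg.Agent.Lib.Leech.Quads

/-!
# The numbers of vectors in the McLaughlin and Higman–Sims configurations
-/

set_option autoImplicit false

namespace CfsgLib.Leech

open Cfsg CfsgLib.Golay CfsgLib.Leech.Count

theorem ncard_sect_three {J : ℕ} {masks : ℕ → ℕ} (hP : IsPartition J masks) (hC : Covers J masks)
    (c d e : ℕ → ℤ) {a b f : GolayPt → ℤ} (ha : ∀ p, a p = c (clsOf J masks (ptEquiv p).val))
    (hb : ∀ p, b p = d (clsOf J masks (ptEquiv p).val))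
    (hf : ∀ p, f p = e (clsOf J masks (ptEquiv p).val)) (r s t : ℤ)
    {ws : List ℕ} (hws : ((List.range 24).map fun i => 32 ^ clsOf J masks i) = ws) :
    {x : GolayPt → ℤ | x ∈ leechLattice ∧ sqNorm x = 32 ∧ dotInt a x = r ∧ dotInt b x = s ∧
        dotInt f x = t}.ncard =
      shellTotal 32 J masks (fun j v => (c j * v, d j * v, e j * v)) (fun k => decide (k = (r, s, t))) ws := by
  rw [← shell_ncard_total hP hC (N := 32) (by omega) _ _ hws]
  congr 1
  ext x
  simp [shell, dotInt, ha, hb, hf, Prod.ext_iff, Prod.fst_sum, Prod.snd_sum]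

/-- The count for three vectors of the lattice. -/
theorem ncard_dot_three {u v w : leechLattice} {a b f : GolayPt → ℤ} (g : Co0)
    (hg : ((g • u : leechLattice) : GolayPt → ℤ) = a)
    (hg' : ((g • v : leechLattice) : GolayPt → ℤ) = b)
    (hg'' : ((g • w : leechLattice) : GolayPt → ℤ) = f) (r s t : ℤ) :
    {x : leechLattice | sqNorm (x : GolayPt → ℤ) = 32 ∧ dotInt (u : GolayPt → ℤ) x = r ∧
        dotInt (v : GolayPt → ℤ) x = s ∧ dotInt (w : GolayPt → ℤ) x = t}.ncard =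
      {x : GolayPt → ℤ | x ∈ leechLattice ∧ sqNorm x = 32 ∧ dotInt a x = r ∧ dotInt b x = s ∧
        dotInt f x = t}.ncard := by
  rw [ncard_smul g (fun x => sqNorm x = 32 ∧ dotInt (u : GolayPt → ℤ) x = r ∧
      dotInt (v : GolayPt → ℤ) x = s ∧ dotInt (w : GolayPt → ℤ) x = t)
    (fun x => sqNorm x = 32 ∧ dotInt a x = r ∧ dotInt b x = s ∧ dotInt f x = t),
    ncard_subtype fun x => sqNorm x = 32 ∧ dotInt a x = r ∧ dotInt b x = s ∧ dotInt f x = t]
  intro x
  rw [sqNorm_smul_co, ← hg, ← hg', ← hg'', dot_smul_co, dot_smul_co, dot_smul_co]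

/-- The classes of the standard triples. -/
def maskTwo : ℕ → ℕ := maskOf [1, 2, 16777212]

theorem maskTwo_ok : IsPartition 3 maskTwo ∧ Covers 3 maskTwo ∧
    ((List.range 24).map fun i => 32 ^ clsOf 3 maskTwo i) =
      [1, 32, 1024, 1024, 1024, 1024, 1024, 1024, 1024, 1024, 1024, 1024, 1024, 1024, 1024, 1024, 1024,
        1024, 1024, 1024, 1024, 1024, 1024, 1024] := by decide +kernel

/-- The classes of the second standard McLaughlin triple. -/
def maskThree : ℕ → ℕ := maskOf [1, 2, 4, 16777208]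

theorem maskThree_ok : IsPartition 4 maskThree ∧ Covers 4 maskThree ∧
    ((List.range 24).map fun i => 32 ^ clsOf 4 maskThree i) =
      [1, 32, 1024, 32768, 32768, 32768, 32768, 32768, 32768, 32768, 32768, 32768, 32768, 32768, 32768,
        32768, 32768, 32768, 32768, 32768, 32768, 32768, 32768, 32768] := by decide +kernel

theorem hsU_mem : hsU ∈ leechLattice :=
  even_iff.2 ⟨1, le_rfl, 0, mem_golayList_of_inCode (by decide +kernel), by decide +kernel, by decide +kernel⟩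

theorem mclX16_mem : mclX16 ∈ leechLattice := by
  have e : mclX16 = fun p => 4 * if p = pt 0 ∨ p = pt 2 then (1 : ℤ) else 0 := by decide +kernel
  rw [e]
  exact four_mul_mem_leech _ (by decide +kernel)

/-- The base vector of squared length 48 of the short coordinate forms. -/
def stdU : leechLattice := ⟨hsU, hsU_mem⟩

/-- The base minimal vector. -/
def stdV : leechLattice := ⟨base32, base32_mem.1⟩

/-- The second base minimal vector. -/
def stdW : leechLattice := ⟨base32neg, base32neg_mem.1⟩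

/-- The third minimal vector of the short McLaughlin form. -/
def stdX : leechLattice := ⟨mclX16, mclX16_mem⟩

theorem std_dots : sqNorm hsU = 48 ∧ sqNorm base32 = 32 ∧ sqNorm base32neg = 32 ∧ sqNorm mclX16 = 32 ∧
    dotInt hsU base32 = 24 ∧ dotInt hsU base32neg = 16 ∧ dotInt hsU mclX16 = 24 ∧
    dotInt base32 mclX16 = 16 := by decide +kernel

theorem ncard_mclPair {u v : leechLattice} (hu : sqNorm (u : GolayPt → ℤ) = 48)
    (hv : sqNorm (v : GolayPt → ℤ) = 32) (huv : dotInt (u : GolayPt → ℤ) v = 24) :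
    {x : leechLattice | sqNorm (x : GolayPt → ℤ) = 32 ∧ dotInt (u : GolayPt → ℤ) x = 24 ∧
      dotInt (v : GolayPt → ℤ) x = 16}.ncard = 275 := by
  have key : ∀ {a b : leechLattice}, sqNorm (a : GolayPt → ℤ) = 48 → sqNorm (b : GolayPt → ℤ) = 32 →
      dotInt (a : GolayPt → ℤ) b = 24 → ∃ g : Co0, ((g • b : leechLattice) : GolayPt → ℤ) = pair8v ∧
        ((g • (a - b) : leechLattice) : GolayPt → ℤ) = pair8w := fun {a b} ha hb hd =>
    exists_pair8 hb (by rw [AddSubgroup.coe_sub, sqNorm_sub, ha, hd, hb]; norm_num)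
      (by rw [AddSubgroup.coe_sub, dotInt_sub_right, dotInt_comm, hd, dotInt_self, hb]; norm_num)
  obtain ⟨g, h1, h2⟩ := exists_map_pair (key hu hv huv)
    (key (a := stdU) (b := stdV) std_dots.1 std_dots.2.1 std_dots.2.2.2.2.1)
  have hgu : g • u = stdU := by
    calc g • u = g • ((u - v) + v) := by rw [sub_add_cancel]
      _ = (stdU - stdV) + stdV := by rw [smul_add', h2, h1]
      _ = stdU := sub_add_cancel _ _
  rw [ncard_dot_two g (congrArg Subtype.val hgu) (congrArg Subtype.val h1) 24 16]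
  refine (ncard_sect_two maskTwo_ok.1 maskTwo_ok.2.1 (fun j => [5, 1, 1].getD j 0)
    (fun j => [4, 4, 0].getD j 0) (by decide +kernel) (by decide +kernel) 24 16 maskTwo_ok.2.2).trans ?_
  decide +kernel

theorem ncard_mclTriple {u v x : leechLattice} (hu : sqNorm (u : GolayPt → ℤ) = 48)
    (hv : sqNorm (v : GolayPt → ℤ) = 32) (hx : sqNorm (x : GolayPt → ℤ) = 32)
    (huv : dotInt (u : GolayPt → ℤ) v = 24) (hux : dotInt (u : GolayPt → ℤ) x = 24)
    (hvx : dotInt (v : GolayPt → ℤ) x = 16) :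
    {y : leechLattice | sqNorm (y : GolayPt → ℤ) = 32 ∧ dotInt (u : GolayPt → ℤ) y = 24 ∧
      dotInt (v : GolayPt → ℤ) y = 16 ∧ dotInt (x : GolayPt → ℤ) y = 8}.ncard = 112 := by
  obtain ⟨g, h1, h2, h3⟩ := exists_map_triple (exists_triple_mcl hu hv hx huv hux hvx)
    (exists_triple_mcl (u := stdU) (v := stdV) (x := stdX) std_dots.1 std_dots.2.1 std_dots.2.2.2.1
      std_dots.2.2.2.2.1 std_dots.2.2.2.2.2.2.1 std_dots.2.2.2.2.2.2.2)
  rw [ncard_dot_three g (congrArg Subtype.val h3) (congrArg Subtype.val h1) (congrArg Subtype.val h2) 24 16 8]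
  refine (ncard_sect_three maskThree_ok.1 maskThree_ok.2.1 (fun j => [5, 1, 1, 1].getD j 0)
    (fun j => [4, 4, 0, 0].getD j 0) (fun j => [4, 0, 4, 0].getD j 0) (by decide +kernel) (by decide +kernel)
    (by decide +kernel) 24 16 8 maskThree_ok.2.2).trans ?_
  decide +kernel

theorem ncard_hsPair {v w : leechLattice} (hv : sqNorm (v : GolayPt → ℤ) = 48)
    (hw : sqNorm (w : GolayPt → ℤ) = 32) (hvw : dotInt (v : GolayPt → ℤ) w = 16) :
    {x : leechLattice | sqNorm (x : GolayPt → ℤ) = 32 ∧ dotInt (v : GolayPt → ℤ) x = 24 ∧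
      dotInt (w : GolayPt → ℤ) x = 0}.ncard = 100 := by
  obtain ⟨g, h1, h2⟩ := exists_map_pair (exists_pair48 hv hw hvw)
    (exists_pair48 (u := stdU) (x := stdW) std_dots.1 std_dots.2.2.1 std_dots.2.2.2.2.2.1)
  rw [ncard_dot_two g (congrArg Subtype.val h1) (congrArg Subtype.val h2) 24 0]
  refine (ncard_sect_two maskTwo_ok.1 maskTwo_ok.2.1 (fun j => [5, 1, 1].getD j 0)
    (fun j => [4, -4, 0].getD j 0) (by decide +kernel) (by decide +kernel) 24 0 maskTwo_ok.2.2).trans ?_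
  decide +kernel

theorem ncard_hsTriple {v w x : leechLattice} (hv : sqNorm (v : GolayPt → ℤ) = 48)
    (hw : sqNorm (w : GolayPt → ℤ) = 48) (hvw : dotInt (v : GolayPt → ℤ) w = -32)
    (hx : sqNorm (x : GolayPt → ℤ) = 32) (hdv : dotInt (v : GolayPt → ℤ) x = 24)
    (hdw : dotInt (w : GolayPt → ℤ) x = -24) :
    {y : leechLattice | sqNorm (y : GolayPt → ℤ) = 32 ∧ dotInt (v : GolayPt → ℤ) y = 24 ∧
      dotInt ((v + w : leechLattice) : GolayPt → ℤ) y = 0 ∧
      dotInt (x : GolayPt → ℤ) y = 8}.ncard = 22 := by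
  obtain ⟨g, h1, h2, h3⟩ := exists_triple_hs hv hw hvw hx hdv hdw
  rw [ncard_dot_three g h3 h2 h1 24 0 8]
  refine (ncard_sect_three maskTwo_ok.1 maskTwo_ok.2.1 (fun j => [5, 1, 1].getD j 0)
    (fun j => [4, -4, 0].getD j 0) (fun j => [4, 4, 0].getD j 0) (by decide +kernel) (by decide +kernel)
    (by decide +kernel) 24 0 8 maskTwo_ok.2.2).trans ?_
  decide +kernel

theorem dot_mcl {u v x y : leechLattice} (hu : sqNorm (u : GolayPt → ℤ) = 48)
    (hx : sqNorm (x : GolayPt → ℤ) = 32) (hy : sqNorm (y : GolayPt → ℤ) = 32)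
    (huv : dotInt (u : GolayPt → ℤ) v = 24) (hux : dotInt (u : GolayPt → ℤ) x = 24)
    (huy : dotInt (u : GolayPt → ℤ) y = 24) (hvx : dotInt (v : GolayPt → ℤ) x = 16)
    (hvy : dotInt (v : GolayPt → ℤ) y = 16) (hne : y ≠ x) :
    dotInt (x : GolayPt → ℤ) y = 8 ∨ dotInt (x : GolayPt → ℤ) y = 16 := by
  have h8 := eight_dvd_dotInt x.2 y.2
  have h1 := min_norm (sub_mem x.2 y.2) (sub_ne_zero.2 fun h => hne (Subtype.ext h.symm))
  rw [sqNorm_sub, hx, hy] at h1
  by_cases h0 : (x : GolayPt → ℤ) + (y : GolayPt → ℤ) - (u : GolayPt → ℤ) = 0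
  · rw [sub_eq_zero] at h0
    rw [dotInt_comm, ← h0, dotInt_add_right, hvx, hvy] at huv
    norm_num at huv
  · have h2 := min_norm (sub_mem (add_mem x.2 y.2) u.2) h0
    rw [sqNorm_sub, sqNorm_add, hx, hy, hu, dotInt_comm ((x : GolayPt → ℤ) + (y : GolayPt → ℤ)),
      dotInt_add_right, hux, huy] at h2
    omega

theorem dot_hs {v w x y : leechLattice} (hv : sqNorm (v : GolayPt → ℤ) = 48)
    (hvw : dotInt (v : GolayPt → ℤ) w = -32)
    (hx : sqNorm (x : GolayPt → ℤ) = 32) (hy : sqNorm (y : GolayPt → ℤ) = 32)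
    (hvx : dotInt (v : GolayPt → ℤ) x = 24) (hwx : dotInt (w : GolayPt → ℤ) x = -24)
    (hvy : dotInt (v : GolayPt → ℤ) y = 24) (hwy : dotInt (w : GolayPt → ℤ) y = -24) (hne : y ≠ x) :
    dotInt (x : GolayPt → ℤ) y = 8 ∨ dotInt (x : GolayPt → ℤ) y = 16 := by
  have h8 := eight_dvd_dotInt x.2 y.2
  have h1 := min_norm (sub_mem x.2 y.2) (sub_ne_zero.2 fun h => hne (Subtype.ext h.symm))
  rw [sqNorm_sub, hx, hy] at h1
  by_cases h0 : (x : GolayPt → ℤ) + (y : GolayPt → ℤ) - (v : GolayPt → ℤ) = 0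
  · rw [sub_eq_zero] at h0
    rw [dotInt_comm, ← h0, dotInt_add_right, hwx, hwy] at hvw
    norm_num at hvw
  · have h2 := min_norm (sub_mem (add_mem x.2 y.2) v.2) h0
    rw [sqNorm_sub, sqNorm_add, hx, hy, hv, dotInt_comm ((x : GolayPt → ℤ) + (y : GolayPt → ℤ)),
      dotInt_add_right, hvx, hvy] at h2
    omega

end CfsgLib.Leech
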