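import Cfsg.Prelude.Def_Sporadic_a
import Cfsg.Agent.Lib.Golay.Code

/-!
# The Leech lattice: membership, evenness, minimum, monomial automorphisms

`x` lies in the lattice iff it can be written `m + 2·1_C + 4y` with `C` a code set and coordinate
sum `4m` modulo 8.
-/

set_option autoImplicit false

open scoped symmDiff

namespace CfsgLib.Leech

open Cfsg

/-- The sets underlying the code words. -/
def CodeSet (s : Finset GolayPt) : Prop := s ∈ supports (golayCode : Set (GolayPt → ZMod 2))

theorem codeSet_empty : CodeSet ∅ := ⟨0, zero_mem _, by simp [support₂]⟩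

theorem codeSet_univ : CodeSet Finset.univ :=
  ⟨1, Submodule.subset_span (Set.mem_union_right _ rfl), by ext p; simp [support₂]⟩

theorem codeSet_symmDiff {s t : Finset GolayPt} (hs : CodeSet s) (ht : CodeSet t) : CodeSet (s ∆ t) :=
  CfsgLib.Golay.symmDiff_mem_supports hs ht

theorem codeSet_compl {s : Finset GolayPt} (hs : CodeSet s) : CodeSet (Finset.univ \ s) := by
  have := codeSet_symmDiff codeSet_univ hs
  rwa [symmDiff_of_ge (Finset.subset_univ s)] at this

theorem codeSet_card {s : Finset GolayPt} (hs : CodeSet s) :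
    s.card = 0 ∨ s.card = 8 ∨ s.card = 12 ∨ s.card = 16 ∨ s.card = 24 :=
  CfsgLib.Golay.supports_weight hs

theorem codeSet_card_dvd {s : Finset GolayPt} (hs : CodeSet s) : 4 ∣ s.card := by
  rcases codeSet_card hs with h | h | h | h | h <;> omega

theorem eight_le_card {s : Finset GolayPt} (hs : CodeSet s) (hne : s.Nonempty) : 8 ≤ s.card := by
  have := Finset.card_pos.2 hne
  rcases codeSet_card hs with h | h | h | h | h <;> omega

theorem card_symmDiff_add {α : Type*} [DecidableEq α] (s t : Finset α) :
    (s ∆ t).card + 2 * (s ∩ t).card = s.card + t.card := by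
  have h1 : (s ∆ t).card = (s \ t).card + (t \ s).card :=
    Finset.card_union_of_disjoint disjoint_sdiff_sdiff
  have h2 := Finset.card_sdiff_add_card_inter s t
  have h3 := Finset.card_sdiff_add_card_inter t s
  rw [Finset.inter_comm t] at h3
  omega

theorem codeSet_inter_even {s t : Finset GolayPt} (hs : CodeSet s) (ht : CodeSet t) :
    2 ∣ (s ∩ t).card := by
  have h := card_symmDiff_add s t
  have h1 := codeSet_card_dvd hs
  have h2 := codeSet_card_dvd ht
  have h3 := codeSet_card_dvd (codeSet_symmDiff hs ht)
  omega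

/-- Indicator with integer values. -/
def indi (s : Finset GolayPt) (i : GolayPt) : ℤ := if i ∈ s then 1 else 0

theorem sum_indi (s : Finset GolayPt) : ∑ i, indi s i = s.card := by
  simp [indi]

theorem indi_symmDiff (s t : Finset GolayPt) (i : GolayPt) :
    indi (s ∆ t) i + 2 * indi (s ∩ t) i = indi s i + indi t i := by
  by_cases h1 : i ∈ s <;> by_cases h2 : i ∈ t <;> simp [indi, Finset.mem_symmDiff, h1, h2]

/-- A presentation of a lattice vector. -/
structure Form (x : GolayPt → ℤ) where
  m : ℤ
  C : Finset GolayPt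
  y : GolayPt → ℤ
  code : CodeSet C
  eq : ∀ i, x i = m + 2 * indi C i + 4 * y i
  sum : ∑ i, x i ≡ 4 * m [ZMOD 8]

theorem nonempty_form_iff (x : GolayPt → ℤ) : Nonempty (Form x) ↔ x ∈ leechSet := by
  constructor
  · rintro ⟨f⟩
    refine ⟨f.m, fun i => ?_, f.sum, fun k => ?_⟩
    · rw [Int.ModEq, f.eq i]; omega
    · by_cases h2 : f.m + 2 ≡ k [ZMOD 4]
      · have : (Finset.univ.filter fun i => x i ≡ k [ZMOD 4]) = f.C := by
          ext i
          have h2' : (f.m + 2) % 4 = k % 4 := h2
          simp only [Finset.mem_filter, Finset.mem_univ, true_and]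
          simp only [Int.ModEq, f.eq i, indi]
          split <;> simp_all <;> omega
        rw [this]; exact f.code
      · by_cases h0 : f.m ≡ k [ZMOD 4]
        · have : (Finset.univ.filter fun i => x i ≡ k [ZMOD 4]) = Finset.univ \ f.C := by
            ext i
            have h0' : f.m % 4 = k % 4 := h0
            simp only [Finset.mem_filter, Finset.mem_univ, true_and, Finset.mem_sdiff]
            simp only [Int.ModEq, f.eq i, indi]
            split <;> simp_all <;> omega
          rw [this]; exact codeSet_compl f.code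
        · have : (Finset.univ.filter fun i => x i ≡ k [ZMOD 4]) = ∅ := by
            ext i
            simp only [Int.ModEq] at h0 h2
            simp only [Finset.mem_filter, Finset.mem_univ, true_and, Finset.notMem_empty, iff_false]
            simp only [Int.ModEq, f.eq i, indi]
            split <;> omega
          rw [this]; exact codeSet_empty
  · rintro ⟨m, hpar, hsum, hcode⟩
    refine ⟨⟨m, _, fun i => (x i - m - 2 * indi (Finset.univ.filter fun i => x i ≡ m + 2 [ZMOD 4]) i) / 4,
      hcode (m + 2), fun i => ?_, hsum⟩⟩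
    have hp : x i % 2 = m % 2 := hpar i
    simp only [indi, Finset.mem_filter, Finset.mem_univ, true_and]
    by_cases h : x i ≡ m + 2 [ZMOD 4]
    · rw [if_pos h]; simp only [Int.ModEq] at h; omega
    · rw [if_neg h]; simp only [Int.ModEq] at h; omega

/-- The lattice as a subgroup with the same carrier as the defining set. -/
def formGroup : AddSubgroup (GolayPt → ℤ) where
  carrier := {x | Nonempty (Form x)}
  zero_mem' := ⟨⟨0, ∅, 0, codeSet_empty, fun i => by simp [indi], by simp⟩⟩
  add_mem' := by
    rintro a b ⟨f⟩ ⟨g⟩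
    refine ⟨⟨f.m + g.m, f.C ∆ g.C, fun i => f.y i + g.y i + indi (f.C ∩ g.C) i,
      codeSet_symmDiff f.code g.code, fun i => ?_, ?_⟩⟩
    · have := indi_symmDiff f.C g.C i
      simp only [Pi.add_apply, f.eq i, g.eq i]
      linarith
    · simp only [Pi.add_apply, Finset.sum_add_distrib, mul_add]
      exact f.sum.add g.sum
  neg_mem' := by
    rintro a ⟨f⟩
    refine ⟨⟨-f.m, f.C, fun i => -f.y i - indi f.C i, f.code, fun i => ?_, ?_⟩⟩
    · simp only [Pi.neg_apply, f.eq i]; ring
    · simp only [Pi.neg_apply, Finset.sum_neg_distrib, mul_neg]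
      exact f.sum.neg

theorem leechLattice_eq : leechLattice = formGroup := by
  refine le_antisymm ((AddSubgroup.closure_le _).2 fun x hx => (nonempty_form_iff x).2 hx) fun x hx => ?_
  exact AddSubgroup.subset_closure ((nonempty_form_iff x).1 hx)

/-- Membership in the lattice. -/
theorem mem_leechLattice_iff {x : GolayPt → ℤ} : x ∈ leechLattice ↔ x ∈ leechSet := by
  rw [leechLattice_eq]
  exact nonempty_form_iff x

theorem mem_leechLattice_iff_form {x : GolayPt → ℤ} : x ∈ leechLattice ↔ Nonempty (Form x) := by
  rw [mem_leechLattice_iff, nonempty_form_iff]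

theorem coe_leechLattice : (leechLattice : Set (GolayPt → ℤ)) = leechSet :=
  Set.ext fun _ => mem_leechLattice_iff

theorem card_golayPt : Fintype.card GolayPt = 24 := by simp [GolayPt]

theorem Form.sum_y {x : GolayPt → ℤ} (f : Form x) : (2 : ℤ) ∣ (∑ i, f.y i) - f.m := by
  have h := f.sum
  simp only [f.eq, Finset.sum_add_distrib, ← Finset.mul_sum, Finset.sum_const, Finset.card_univ,
    card_golayPt, sum_indi, nsmul_eq_mul] at h
  obtain ⟨c, hc⟩ := codeSet_card_dvd f.code
  rw [hc] at h
  push_cast at h
  simp only [Int.ModEq] at h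
  omega

theorem sqNorm_dvd_sixteen {x : GolayPt → ℤ} (hx : x ∈ leechLattice) : (16 : ℤ) ∣ sqNorm x := by
  obtain ⟨f⟩ := mem_leechLattice_iff_form.1 hx
  obtain ⟨c, hc⟩ := codeSet_card_dvd f.code
  obtain ⟨s, hs⟩ := f.sum_y
  have e : sqNorm x = 24 * f.m ^ 2 + 4 * (1 + f.m) * f.C.card + 8 * f.m * (∑ i, f.y i)
      + 16 * ∑ i, (indi f.C i * f.y i + f.y i ^ 2) := by
    rw [← sum_indi f.C, Finset.mul_sum, Finset.mul_sum, Finset.mul_sum, sqNorm,
      show (24 : ℤ) * f.m ^ 2 = ∑ _i : GolayPt, f.m ^ 2 by simp [card_golayPt],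
      ← Finset.sum_add_distrib, ← Finset.sum_add_distrib, ← Finset.sum_add_distrib]
    refine Finset.sum_congr rfl fun i _ => ?_
    rw [f.eq i]
    simp only [indi]
    split <;> ring
  rw [e, hc]
  push_cast
  rw [show (∑ i, f.y i) = f.m + 2 * s by linarith]
  exact ⟨2 * f.m ^ 2 + (1 + f.m) * c + f.m * s + ∑ i, (indi f.C i * f.y i + f.y i ^ 2), by ring⟩

theorem sqNorm_nonneg (x : GolayPt → ℤ) : 0 ≤ sqNorm x :=
  Finset.sum_nonneg fun i _ => sq_nonneg (x i)

theorem sqNorm_eq_zero {x : GolayPt → ℤ} (h : sqNorm x = 0) : x = 0 := by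
  funext i
  have := (Finset.sum_eq_zero_iff_of_nonneg fun i _ => sq_nonneg (x i)).1 h i (Finset.mem_univ i)
  simpa using this

theorem card_mul_le_sqNorm (x : GolayPt → ℤ) (s : Finset GolayPt) (k : ℤ)
    (h : ∀ i ∈ s, k ≤ x i ^ 2) : s.card * k ≤ sqNorm x := by
  calc (s.card : ℤ) * k = ∑ i ∈ s, k := by simp
    _ ≤ ∑ i ∈ s, x i ^ 2 := Finset.sum_le_sum h
    _ ≤ sqNorm x := Finset.sum_le_sum_of_subset_of_nonneg (Finset.subset_univ s) fun i _ _ => sq_nonneg _

/-- The minimum squared length is 32. -/
theorem min_norm {x : GolayPt → ℤ} (hx : x ∈ leechLattice) (h0 : x ≠ 0) : 32 ≤ sqNorm x := by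
  obtain ⟨m, hpar, hsum, hcode⟩ := mem_leechLattice_iff.1 hx
  rcases Int.even_or_odd m with ⟨j, hj⟩ | ⟨j, hj⟩
  · -- even coordinates
    have hev : ∀ i, x i % 2 = 0 := fun i => by
      have := hpar i; simp only [Int.ModEq] at this; omega
    by_cases hC : (Finset.univ.filter fun i => x i ≡ 2 [ZMOD 4]).Nonempty
    · have h8 := eight_le_card (hcode 2) hC
      have h := card_mul_le_sqNorm x (Finset.univ.filter fun i => x i ≡ 2 [ZMOD 4]) 4 (fun i hi => by
        simp only [Finset.mem_filter, Finset.mem_univ, true_and] at hi; simp only [Int.ModEq] at hi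
        have : x i ≤ -2 ∨ 2 ≤ x i := by omega
        rcases this with h | h <;> nlinarith)
      omega
    · have hfour : ∀ i, x i % 4 = 0 := fun i => by
        by_contra h4
        have := hev i
        exact hC ⟨i, by simp only [Finset.mem_filter, Finset.mem_univ, true_and]; simp only [Int.ModEq]; omega⟩
      set s := Finset.univ.filter fun i => x i ≠ 0 with hs
      have h16 := card_mul_le_sqNorm x s 16 (fun i hi => by
        simp only [hs, Finset.mem_filter, Finset.mem_univ, true_and] at hi
        have := hfour i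
        have : x i ≤ -4 ∨ 4 ≤ x i := by omega
        rcases this with h | h <;> nlinarith)
      have hsne : s.Nonempty := by
        obtain ⟨i, hi⟩ := Function.ne_iff.1 h0
        exact ⟨i, by simpa [hs] using hi⟩
      by_cases h1 : s.card = 1
      · obtain ⟨i, hi⟩ := Finset.card_eq_one.1 h1
        have hxi : x i ≠ 0 := by
          have : i ∈ s := by rw [hi]; simp
          simpa [hs] using this
        have hsx : ∑ j, x j = x i := Finset.sum_eq_single i (fun b _ hb => by
          by_contra hb0
          have : b ∈ s := by simp [hs, hb0]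
          rw [hi, Finset.mem_singleton] at this
          exact hb this) (by simp)
        rw [hsx, hj] at hsum
        simp only [Int.ModEq] at hsum
        have : x i ≤ -8 ∨ 8 ≤ x i := by have := hfour i; omega
        have h64 : (64 : ℤ) ≤ x i ^ 2 := by rcases this with h | h <;> nlinarith
        have := card_mul_le_sqNorm x {i} 64 (fun k hk => by rw [Finset.mem_singleton] at hk; subst hk; exact h64)
        simp at this
        omega
      · have := Finset.card_pos.2 hsne
        omega
  · -- odd coordinates
    have hodd : ∀ i, x i % 2 = 1 := fun i => by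
      have := hpar i; simp only [Int.ModEq] at this; omega
    have h := card_mul_le_sqNorm x Finset.univ 1 (fun i _ => by
      have := hodd i
      have : x i ≤ -1 ∨ 1 ≤ x i := by omega
      rcases this with h | h <;> nlinarith)
    rw [Finset.card_univ, card_golayPt] at h
    have := sqNorm_dvd_sixteen hx
    omega

theorem sqNorm_add (x y : GolayPt → ℤ) : sqNorm (x + y) = sqNorm x + 2 * dotInt x y + sqNorm y := by
  simp only [sqNorm, dotInt, Finset.mul_sum, ← Finset.sum_add_distrib]
  exact Finset.sum_congr rfl fun i _ => by simp only [Pi.add_apply]; ring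

theorem sqNorm_sub (x y : GolayPt → ℤ) : sqNorm (x - y) = sqNorm x - 2 * dotInt x y + sqNorm y := by
  simp only [sqNorm, dotInt, Finset.mul_sum, ← Finset.sum_sub_distrib, ← Finset.sum_add_distrib]
  exact Finset.sum_congr rfl fun i _ => by simp only [Pi.sub_apply]; ring

theorem sqNorm_smul (k : ℤ) (x : GolayPt → ℤ) : sqNorm (k • x) = k ^ 2 * sqNorm x := by
  simp only [sqNorm, Finset.mul_sum]
  exact Finset.sum_congr rfl fun i _ => by simp [mul_pow]

theorem sqNorm_neg (x : GolayPt → ℤ) : sqNorm (-x) = sqNorm x := by simp [sqNorm]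

theorem eight_dvd_dotInt {x y : GolayPt → ℤ} (hx : x ∈ leechLattice) (hy : y ∈ leechLattice) :
    (8 : ℤ) ∣ dotInt x y := by
  have h1 := sqNorm_dvd_sixteen hx
  have h2 := sqNorm_dvd_sixteen hy
  have h3 := sqNorm_dvd_sixteen (add_mem hx hy)
  rw [sqNorm_add] at h3
  omega

/-- Short vectors congruent modulo twice the lattice. -/
theorem short_congr {x y z : GolayPt → ℤ} (hy : y ∈ leechLattice) (hz : z ∈ leechLattice)
    (hxy : x - y = 2 • z) (hxn : sqNorm x ≤ 64) (hyn : sqNorm y ≤ 64) :
    x = y ∨ x = -y ∨ (sqNorm x = 64 ∧ sqNorm y = 64 ∧ dotInt x y = 0) := by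
  have e1 : x - y = (2 : ℤ) • z := by rw [hxy]; simp [two_smul, two_zsmul]
  have e2 : x + y = (2 : ℤ) • (z + y) := by
    rw [smul_add, ← e1, two_zsmul]; abel
  by_cases hz0 : z = 0
  · left
    rw [hz0, smul_zero, sub_eq_zero] at e1
    exact e1
  by_cases hzy : z + y = 0
  · right; left
    rw [hzy, smul_zero] at e2
    exact eq_neg_of_add_eq_zero_left e2
  right; right
  have h1 := min_norm hz hz0
  have h2 := min_norm (add_mem hz hy) hzy
  have n1 := congrArg sqNorm e1
  have n2 := congrArg sqNorm e2
  rw [sqNorm_sub, sqNorm_smul] at n1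
  rw [sqNorm_add, sqNorm_smul] at n2
  omega

/-! ### Automorphisms -/

/-- The restriction of a coordinate isometry preserving the lattice. -/
def autOfEquiv (e : (GolayPt → ℤ) ≃+ (GolayPt → ℤ)) (h : ∀ x ∈ leechLattice, e x ∈ leechLattice)
    (h' : ∀ x ∈ leechLattice, e.symm x ∈ leechLattice) (hn : ∀ x, sqNorm (e x) = sqNorm x) : Co0 :=
  ⟨{ toFun := fun v => ⟨e v, h v v.2⟩
     invFun := fun v => ⟨e.symm v, h' v v.2⟩
     left_inv := fun v => Subtype.ext (e.symm_apply_apply _)
     right_inv := fun v => Subtype.ext (e.apply_symm_apply _) },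
    fun v w => Subtype.ext (map_add e (v : GolayPt → ℤ) w), fun v => hn v⟩

theorem coe_autOfEquiv_smul (e : (GolayPt → ℤ) ≃+ (GolayPt → ℤ)) (h h' hn) (v : leechLattice) :
    ((autOfEquiv e h h' hn • v : leechLattice) : GolayPt → ℤ) = e v := rfl

/-- Negation as an automorphism. -/
def negAut : Co0 :=
  autOfEquiv (AddEquiv.neg _) (fun _ hx => neg_mem hx) (fun _ hx => neg_mem hx) sqNorm_neg

theorem coe_negAut_smul (v : leechLattice) :
    ((negAut • v : leechLattice) : GolayPt → ℤ) = -(v : GolayPt → ℤ) := rfl

/-- Change of sign on a set of coordinates. -/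
def signFlip (s : Finset GolayPt) : (GolayPt → ℤ) ≃+ (GolayPt → ℤ) where
  toFun x i := if i ∈ s then -x i else x i
  invFun x i := if i ∈ s then -x i else x i
  left_inv x := by funext i; by_cases h : i ∈ s <;> simp [h]
  right_inv x := by funext i; by_cases h : i ∈ s <;> simp [h]
  map_add' x y := by funext i; by_cases h : i ∈ s <;> simp [h]; ring

theorem sum_indi_mul (s : Finset GolayPt) (g : GolayPt → ℤ) : ∑ i, indi s i * g i = ∑ i ∈ s, g i := by
  simp [indi]

theorem signFlip_mem {s : Finset GolayPt} (hs : CodeSet s) {x : GolayPt → ℤ} (hx : x ∈ leechLattice) :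
    signFlip s x ∈ leechLattice := by
  obtain ⟨f⟩ := mem_leechLattice_iff_form.1 hx
  have hflip : ∀ i, signFlip s x i = x i - 2 * (indi s i * x i) := by
    intro i; simp only [signFlip, AddEquiv.coe_mk, Equiv.coe_fn_mk, indi]
    split <;> ring
  refine mem_leechLattice_iff.2 ⟨f.m, fun i => ?_, ?_, ?_⟩
  · rw [hflip, Int.ModEq, f.eq i]; omega
  · simp only [hflip, Finset.sum_sub_distrib, ← Finset.mul_sum, sum_indi_mul]
    have h4 : (4 : ℤ) ∣ ∑ i ∈ s, x i := by
      obtain ⟨a, ha⟩ := codeSet_card_dvd hs
      obtain ⟨b, hb⟩ := codeSet_inter_even hs f.code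
      refine ⟨a * f.m + b + ∑ i ∈ s, f.y i, ?_⟩
      simp only [f.eq, Finset.sum_add_distrib, ← Finset.mul_sum, Finset.sum_const, nsmul_eq_mul, ha]
      rw [show (∑ i ∈ s, indi f.C i) = ((s ∩ f.C).card : ℤ) by simp [indi], hb]
      push_cast; ring
    have := f.sum
    simp only [Int.ModEq] at this ⊢
    omega
  · intro k
    rcases Int.even_or_odd f.m with ⟨j, hj⟩ | ⟨j, hj⟩
    · have : (Finset.univ.filter fun i => signFlip s x i ≡ k [ZMOD 4])
          = Finset.univ.filter fun i => x i ≡ k [ZMOD 4] := by
        ext i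
        simp only [Finset.mem_filter, Finset.mem_univ, true_and]
        simp only [Int.ModEq, hflip, indi]
        have := f.eq i
        simp only [indi] at this
        by_cases h1 : i ∈ s <;> by_cases h2 : i ∈ f.C <;> simp [h1, h2] at this ⊢ <;> omega
      rw [this]
      exact ((nonempty_form_iff x).1 ⟨f⟩).choose_spec.2.2 k
    · have hC : CodeSet (Finset.univ.filter fun i => signFlip s x i ≡ f.m + 2 [ZMOD 4]) := by
        have : (Finset.univ.filter fun i => signFlip s x i ≡ f.m + 2 [ZMOD 4]) = f.C ∆ s := by
          ext i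
          simp only [Finset.mem_filter, Finset.mem_univ, true_and]
          simp only [Int.ModEq, hflip,
            Finset.mem_symmDiff, f.eq i, indi]
          by_cases h1 : i ∈ s <;> by_cases h2 : i ∈ f.C <;> simp [h1, h2] <;> omega
        rw [this]; exact codeSet_symmDiff f.code hs
      by_cases h2 : f.m + 2 ≡ k [ZMOD 4]
      · have : (Finset.univ.filter fun i => signFlip s x i ≡ k [ZMOD 4])
            = Finset.univ.filter fun i => signFlip s x i ≡ f.m + 2 [ZMOD 4] := by
          ext i
          simp only [Int.ModEq] at h2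
          simp only [Finset.mem_filter, Finset.mem_univ, true_and]; simp only [Int.ModEq]
          omega
        rw [this]; exact hC
      · by_cases h0 : f.m ≡ k [ZMOD 4]
        · have : (Finset.univ.filter fun i => signFlip s x i ≡ k [ZMOD 4])
              = Finset.univ \ Finset.univ.filter fun i => signFlip s x i ≡ f.m + 2 [ZMOD 4] := by
            ext i
            simp only [Int.ModEq] at h0
            simp only [Finset.mem_filter, Finset.mem_univ, true_and, Finset.mem_sdiff]
            simp only [Int.ModEq, hflip]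
            have := f.eq i
            simp only [indi] at this ⊢
            split <;> omega
          rw [this]; exact codeSet_compl hC
        · have : (Finset.univ.filter fun i => signFlip s x i ≡ k [ZMOD 4]) = ∅ := by
            ext i
            simp only [Int.ModEq] at h0 h2
            simp only [Finset.mem_filter, Finset.mem_univ, true_and, Finset.notMem_empty, iff_false]
            simp only [Int.ModEq, hflip]
            have := f.eq i
            simp only [indi] at this ⊢
            split <;> omega
          rw [this]; exact codeSet_empty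

theorem sqNorm_signFlip (s : Finset GolayPt) (x : GolayPt → ℤ) : sqNorm (signFlip s x) = sqNorm x := by
  refine Finset.sum_congr rfl fun i _ => ?_
  simp only [signFlip, AddEquiv.coe_mk, Equiv.coe_fn_mk]
  split <;> ring

/-- Sign change on a code set as an automorphism. -/
def signAut (s : Finset GolayPt) (hs : CodeSet s) : Co0 :=
  autOfEquiv (signFlip s) (fun _ hx => signFlip_mem hs hx) (fun _ hx => signFlip_mem hs hx)
    (sqNorm_signFlip s)

theorem coe_signAut_smul (s : Finset GolayPt) (hs : CodeSet s) (v : leechLattice) :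
    ((signAut s hs • v : leechLattice) : GolayPt → ℤ) = signFlip s v := rfl

/-- Permutation of the coordinates. -/
def permCoord (π : Equiv.Perm GolayPt) : (GolayPt → ℤ) ≃+ (GolayPt → ℤ) where
  toFun x i := x (π.symm i)
  invFun x i := x (π i)
  left_inv x := by funext i; simp
  right_inv x := by funext i; simp
  map_add' _ _ := rfl

open scoped Pointwise in
theorem permCoord_mem {π : Equiv.Perm GolayPt} (hπ : π ∈ M24) {x : GolayPt → ℤ}
    (hx : x ∈ leechLattice) : permCoord π x ∈ leechLattice := by
  obtain ⟨m, hpar, hsum, hcode⟩ := mem_leechLattice_iff.1 hx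
  refine mem_leechLattice_iff.2 ⟨m, fun i => hpar _, ?_, fun k => ?_⟩
  · have : ∑ i, permCoord π x i = ∑ i, x i := Equiv.sum_comp π.symm x
    rwa [this]
  · have himg : (Finset.univ.filter fun i => permCoord π x i ≡ k [ZMOD 4])
        = π • Finset.univ.filter fun i => x i ≡ k [ZMOD 4] := by
      ext i
      rw [← Finset.inv_smul_mem_iff]
      simp only [Finset.mem_filter, Finset.mem_univ, true_and]
      simp [permCoord, Equiv.Perm.smul_def]
    rw [himg]
    have h := MulAction.mem_stabilizer_iff.1 hπ
    rw [← h]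
    exact Set.smul_mem_smul_set (hcode k)

theorem sqNorm_permCoord (π : Equiv.Perm GolayPt) (x : GolayPt → ℤ) :
    sqNorm (permCoord π x) = sqNorm x :=
  Equiv.sum_comp π.symm fun i => x i ^ 2

open scoped Pointwise in
/-- A permutation preserving the code as an automorphism. -/
def permAut (π : Equiv.Perm GolayPt) (hπ : π ∈ M24) : Co0 :=
  autOfEquiv (permCoord π) (fun _ hx => permCoord_mem hπ hx)
    (fun x hx => by
      have := permCoord_mem (inv_mem hπ) hx
      exact this)
    (sqNorm_permCoord π)

theorem coe_permAut_smul (π : Equiv.Perm GolayPt) (hπ : π ∈ M24) (v : leechLattice) :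
    ((permAut π hπ • v : leechLattice) : GolayPt → ℤ) = permCoord π v := rfl

end CfsgLib.Leech
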