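import Cfsg.Agent.Lib.Leech.Orbits

/-!
# The coordinate cycle of order twenty-three
-/

set_option autoImplicit false

namespace CfsgLib.Leech

open Cfsg CfsgLib.Golay
open scoped Pointwise

/-- The translation of the projective line. -/
def cyc : Equiv.Perm GolayPt := Equiv.optionCongr (Equiv.addRight (1 : ZMod 23))

theorem cyc_mem : cyc ∈ M24 := by
  rw [← M24_eq_closure]
  exact Subgroup.subset_closure (Or.inl rfl)

/-- The automorphism permuting the coordinates cyclically. -/
def cycAut : Co0 := monoAut cyc cyc_mem ∅ codeSet_empty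

theorem coe_cycAut_smul (v : leechLattice) (i : GolayPt) :
    ((cycAut • v : leechLattice) : GolayPt → ℤ) i = (v : GolayPt → ℤ) (cyc.symm i) := by
  rw [cycAut, coe_monoAut_smul]
  simp [signedPerm]

theorem coe_cycAut_pow (n : ℕ) (v : leechLattice) :
    ((cycAut ^ n • v : leechLattice) : GolayPt → ℤ) = fun i => (v : GolayPt → ℤ) ((cyc ^ n).symm i) := by
  induction n generalizing v with
  | zero => rw [pow_zero, one_smul]; rfl
  | succ n ih =>
    rw [pow_succ, mul_smul, ih]
    funext i
    rw [coe_cycAut_smul, pow_succ]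
    rfl

theorem cycAut_pow : cycAut ^ 23 = 1 := by
  refine co_ext fun v => Subtype.ext ?_
  rw [coe_cycAut_pow, one_smul, show cyc ^ 23 = 1 by decide +kernel]
  rfl

theorem cycAut_crossStab : cycAut ∈ crossStab := monoAut_mem _ _ _ _

/-- A vector fixed by the cycle has equal finite coordinates. -/
theorem cyc_fixed {v : leechLattice} (h : cycAut • v = v) (i : ZMod 23) :
    (v : GolayPt → ℤ) (some i) = (v : GolayPt → ℤ) (some 0) := by
  have hn : ∀ n : ℕ, cycAut ^ n • v = v := by
    intro n
    induction n with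
    | zero => rw [pow_zero, one_smul]
    | succ n ih => rw [pow_succ, mul_smul, h, ih]
  have e := congrFun (congrArg (fun w : leechLattice => (w : GolayPt → ℤ)) (hn i.val)) (some i)
  simp only [coe_cycAut_pow] at e
  rw [← e]
  exact congrArg (v : GolayPt → ℤ) ((by decide +kernel : ∀ j : ZMod 23, (cyc ^ j.val).symm (some j) = some 0) i)

theorem cyc_fixed_norm {v : leechLattice} (h : cycAut • v = v) :
    sqNorm (v : GolayPt → ℤ) = (v : GolayPt → ℤ) none ^ 2 + 23 * (v : GolayPt → ℤ) (some 0) ^ 2 := by
  rw [sqNorm, Fintype.sum_option, Finset.sum_congr rfl fun i _ => by rw [cyc_fixed h i]]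
  simp

theorem orderOf_cycAut : orderOf cycAut = 23 := by
  haveI : Fact (Nat.Prime 23) := ⟨by norm_num⟩
  refine orderOf_eq_prime cycAut_pow fun h => ?_
  have e := cyc_fixed (v := axisVec (some 0) 8 dvd_rfl) (by rw [h, one_smul]) 1
  rw [coe_axisVec, Pi.single_eq_same, Pi.single_eq_of_ne (by simp : (some (1 : ZMod 23) : GolayPt) ≠ some 0)] at e
  norm_num at e

/-- The Sylow subgroup of order twenty-three. -/
noncomputable def cycSylow : Sylow 23 Co0 :=
  haveI : Fact (Nat.Prime 23) := ⟨by norm_num⟩
  haveI : Finite Co0 := Nat.finite_of_card_ne_zero (by rw [card_co0]; norm_num)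
  Sylow.ofCard (Subgroup.zpowers cycAut) (by
    rw [Nat.card_zpowers, orderOf_cycAut, card_co0]
    rw [show (8315553613086720000 : ℕ).factorization 23 = 1 by
      rw [show (8315553613086720000 : ℕ) = 23 * 361545809264640000 by norm_num,
        Nat.factorization_mul (by norm_num) (by norm_num), Finsupp.add_apply,
        Nat.Prime.factorization_self (by norm_num),
        Nat.factorization_eq_zero_of_not_dvd (by norm_num)]]
    norm_num)

theorem coe_cycSylow : (cycSylow : Subgroup Co0) = Subgroup.zpowers cycAut := rfl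

/-- Elements normalising the cycle preserve the standard cross. -/
theorem normalizer_le_crossStab {g : Co0} (hg : g⁻¹ * cycAut * g ∈ Subgroup.zpowers cycAut) :
    g ∈ crossStab := by
  have hfix : cycAut • axisVec none 8 dvd_rfl = axisVec none 8 dvd_rfl := by
    refine Subtype.ext (funext fun i => ?_)
    rw [coe_cycAut_smul, coe_axisVec]
    cases i with
    | none => rw [show cyc.symm none = none by decide +kernel]
    | some j =>
      rw [Pi.single_eq_of_ne (show cyc.symm (some j) ≠ none from
        (by decide +kernel : ∀ j : ZMod 23, cyc.symm (some j) ≠ none) j),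
        Pi.single_eq_of_ne (by simp)]
  have hfix' : ∀ y ∈ Subgroup.zpowers cycAut, y • axisVec none 8 dvd_rfl = axisVec none 8 dvd_rfl := by
    intro y hy
    exact (Subgroup.zpowers_le (H := MulAction.stabilizer Co0 (axisVec none 8 dvd_rfl))).2 hfix hy
  have h2 : cycAut • (g • axisVec none 8 dvd_rfl) = g • axisVec none 8 dvd_rfl := by
    conv_rhs => rw [← hfix' _ hg]
    rw [mul_smul, mul_smul, smul_inv_smul]
  have hn := cyc_fixed_norm h2
  rw [sqNorm_smul_co, coe_axisVec, sqNorm_single] at hn
  set a := ((g • axisVec none 8 dvd_rfl : leechLattice) : GolayPt → ℤ) none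
  set b := ((g • axisVec none 8 dvd_rfl : leechLattice) : GolayPt → ℤ) (some 0)
  have hb2 : b ^ 2 ≤ 2 := by nlinarith [sq_nonneg a]
  have hb : -1 ≤ b ∧ b ≤ 1 := by constructor <;> nlinarith
  have ha : -8 ≤ a ∧ a ≤ 8 := by constructor <;> nlinarith [sq_nonneg b]
  obtain ⟨hb1, hb3⟩ := hb
  obtain ⟨ha1, ha3⟩ := ha
  have hab : (a = 8 ∨ a = -8) ∧ b = 0 := by
    interval_cases a <;> interval_cases b <;> first | omega | norm_num at hn ⊢
  have hmem : g • axisVec none 8 dvd_rfl ∈ stdSet := by
    refine ⟨none, a, hab.1, funext fun i => ?_⟩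
    cases i with
    | none => rw [Pi.single_eq_same]
    | some i => rw [cyc_fixed h2 i, Pi.single_eq_of_ne (by simp)]; exact hab.2
  rw [crossStab, MulAction.mem_stabilizer_iff, stdSet_eq_cls8, smul_cls8]
  rw [stdSet_eq_cls8] at hmem
  exact cls8_eq hmem

end CfsgLib.Leech
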