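import Cfsg.Agent.Lib.Leech.CrossSection
import Cfsg.Agent.Lib.Leech.Cycle

/-!
# The monomial group is maximal
-/

set_option autoImplicit false

open scoped Pointwise symmDiff

noncomputable section

namespace CfsgLib.Leech

open Cfsg CfsgLib.Golay

theorem finite_co0 : Finite Co0 := Nat.finite_of_card_ne_zero (by rw [card_co0]; norm_num)

theorem co_min {g : Co0} {v : leechLattice} (hv : sqNorm (v : GolayPt → ℤ) = 32) :
    sqNorm ((g • v : leechLattice) : GolayPt → ℤ) = 32 := by rw [sqNorm_smul_co, hv]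

theorem orbit_card_mul {α : Type*} [MulAction Co0 α] (K : Subgroup Co0) (v : α) :
    (MulAction.orbit K v).ncard * Nat.card ↥(K ⊓ MulAction.stabilizer Co0 v) = Nat.card K := by
  have e : (K ⊓ MulAction.stabilizer Co0 v).subgroupOf K = MulAction.stabilizer K v := by
    ext g; simp [Subgroup.mem_subgroupOf, MulAction.mem_stabilizer_iff, Subgroup.smul_def]
  rw [← MulAction.index_stabilizer, ← Nat.card_congr (Subgroup.subgroupOfEquivOfLe
    (inf_le_left : K ⊓ MulAction.stabilizer Co0 v ≤ K)).toEquiv, e, Subgroup.index_mul_card]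

/-- A property set inside an invariant set is contained in it as soon as it meets it. -/
theorem subset_of_meet {α : Type*} [MulAction Co0 α] {O S : Set α} {L : Subgroup Co0}
    (hO : ∀ g ∈ L, ∀ x ∈ O, g • x ∈ O) {c : α} (hS : ∀ x ∈ S, ∃ g ∈ L, g • x = c)
    (h : (O ∩ S).Nonempty) : S ⊆ O := by
  obtain ⟨x, hxO, hxS⟩ := h
  intro y hy
  obtain ⟨g, hg, hgx⟩ := hS x hxS
  obtain ⟨k, hk, hky⟩ := hS y hy
  have : y = k⁻¹ • (g • x) := by rw [hgx, ← hky, inv_smul_smul]
  rw [this]
  exact hO _ (inv_mem hk) _ (hO g hg x hxO)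

theorem ncard_inter_cases {α : Type*} {O S : Set α} (h : (O ∩ S).Nonempty → S ⊆ O) :
    (O ∩ S).ncard = 0 ∨ (O ∩ S).ncard = S.ncard := by
  rcases (O ∩ S).eq_empty_or_nonempty with e | e
  · left; rw [e, Set.ncard_empty]
  · right; rw [Set.inter_eq_right.2 (h e)]

/-- The orbit of the base vector under an overgroup is everything or keeps the first shape. -/
theorem orbit_shapes {K : Subgroup Co0} (hK : crossStab ≤ K) {v : leechLattice}
    (hv : (v : GolayPt → ℤ) = base32) :
    MulAction.orbit K v = {x : leechLattice | sqNorm (x : GolayPt → ℤ) = 32} ∨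
      MulAction.orbit K v = {x : leechLattice | sqNorm (x : GolayPt → ℤ) = 32 ∧ IsFour (x : GolayPt → ℤ)} := by
  classical
  haveI := finite_co0
  have hvn : sqNorm (v : GolayPt → ℤ) = 32 := by rw [hv]; exact base32_mem.2
  set O := MulAction.orbit K v with hO
  set M : Set leechLattice := {x | sqNorm (x : GolayPt → ℤ) = 32} with hM
  set A : Set leechLattice := {x | sqNorm (x : GolayPt → ℤ) = 32 ∧ IsFour (x : GolayPt → ℤ)} with hA
  set C : Set leechLattice := {x | sqNorm (x : GolayPt → ℤ) = 32 ∧ IsOddShape (x : GolayPt → ℤ)} with hC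
  set B : Set leechLattice := {x | sqNorm (x : GolayPt → ℤ) = 32 ∧ IsEightShape (x : GolayPt → ℤ)} with hB
  have hOM : O ⊆ M := by rintro _ ⟨g, rfl⟩; exact co_min (g := (g : Co0)) hvn
  have hinv : ∀ g ∈ crossStab, ∀ x ∈ O, g • x ∈ O := by
    rintro g hg _ ⟨k, rfl⟩
    exact ⟨⟨g, hK hg⟩ * k, mul_smul _ _ _⟩
  have hMfin : M.Finite := Set.finite_of_ncard_ne_zero (by
    rw [hM, ncard_subtype fun x => sqNorm x = 32, ncard_norm32]; norm_num)
  have hAC : Disjoint A C := Set.disjoint_left.2 fun x hxA hxC => by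
    by_cases hodd : (x : GolayPt → ℤ) none % 2 = 1
    · exact (odd_abs hxA.1 hodd).2 hxA.2
    · exact (even_shape hxA.1 hodd).1 hxC.2
  have hsplit : ∀ P : Set leechLattice, P ⊆ M → P.ncard = (P ∩ A).ncard + (P ∩ C).ncard + (P ∩ B).ncard := by
    intro P hP
    have hfin := hMfin.subset hP
    have e : P = (P ∩ A ∪ P ∩ C) ∪ P ∩ B := by
      ext x
      simp only [Set.mem_union, Set.mem_inter_iff]
      refine ⟨fun h => ?_, by tauto⟩
      by_cases h4 : IsFour (x : GolayPt → ℤ)
      · exact Or.inl (Or.inl ⟨h, hP h, h4⟩)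
      by_cases h3 : IsOddShape (x : GolayPt → ℤ)
      · exact Or.inl (Or.inr ⟨h, hP h, h3⟩)
      · exact Or.inr ⟨h, hP h, h4, h3⟩
    conv_lhs => rw [e]
    rw [Set.ncard_union_eq ?_ ((hfin.subset Set.inter_subset_left).union (hfin.subset Set.inter_subset_left))
      (hfin.subset Set.inter_subset_left),
      Set.ncard_union_eq (hAC.mono Set.inter_subset_right Set.inter_subset_right)
      (hfin.subset Set.inter_subset_left) (hfin.subset Set.inter_subset_left)]
    refine Set.disjoint_left.2 ?_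
    rintro x (⟨-, h⟩ | ⟨-, h⟩) ⟨-, hb⟩
    · exact hb.2.1 h.2
    · exact hb.2.2 h.2
  have nA : A.ncard = 1104 := by
    rw [hA, ncard_subtype fun x => sqNorm x = 32 ∧ IsFour x, ncard_shapes.1]
  have nC : C.ncard = 98304 := by
    rw [hC, ncard_subtype fun x => sqNorm x = 32 ∧ IsOddShape x, ncard_shapes.2]
  have nM : M.ncard = 196560 := by rw [hM, ncard_subtype fun x => sqNorm x = 32, ncard_norm32]
  have nB : B.ncard = 97152 := by
    have := hsplit M le_rfl
    rw [Set.inter_eq_right.2 fun x hx => hx.1, Set.inter_eq_right.2 fun x hx => hx.1,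
      Set.inter_eq_right.2 fun x hx => hx.1, nA, nC, nM] at this
    omega
  have hvA : v ∈ O ∩ A := ⟨MulAction.mem_orbit_self v, hvn, pt 0, by rw [hv, base32, if_pos (Or.inl rfl)]; rfl⟩
  have hbase : ∀ (c : GolayPt → ℤ) (S : Set leechLattice),
      (∀ x ∈ S, ∃ g ∈ crossStab, ((g • x : leechLattice) : GolayPt → ℤ) = c) → (O ∩ S).Nonempty → S ⊆ O := by
    intro c S h hne
    obtain ⟨y, hy⟩ := hne
    obtain ⟨g₀, -, e₀⟩ := h y hy.2
    refine subset_of_meet hinv (c := g₀ • y) (fun x hx => ?_) ⟨y, hy⟩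
    obtain ⟨g, hg, e⟩ := h x hx
    exact ⟨g, hg, Subtype.ext (e.trans e₀.symm)⟩
  have hAO : A ⊆ O := hbase base32 A (fun x hx => four_to_base hx.1 hx.2) ⟨v, hvA⟩
  have cA : (O ∩ A).ncard = 1104 := by rw [Set.inter_eq_right.2 hAO, nA]
  have cC := ncard_inter_cases (hbase baseOdd C fun x hx => odd_to_base hx.1 hx.2)
  have cB := ncard_inter_cases (hbase baseEight B fun x hx => eight_shape_to_base hx.1 hx.2)
  have hdvd : O.ncard ∣ 8315553613086720000 := by
    rw [← card_co0]
    exact (Dvd.intro _ (orbit_card_mul K v)).trans (Subgroup.card_subgroup_dvd_card K)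
  have hsum := hsplit O hOM
  rw [cA] at hsum
  rw [nC] at cC
  rw [nB] at cB
  rcases cC with e | e <;> rcases cB with e' | e' <;> rw [e, e'] at hsum
  · right
    refine (Set.eq_of_subset_of_ncard_le hAO ?_ (hMfin.subset hOM)).symm
    rw [hsum, nA]
  · rw [hsum] at hdvd; norm_num at hdvd
  · rw [hsum] at hdvd; norm_num at hdvd
  · left
    exact Set.eq_of_subset_of_ncard_le hOM (by rw [hsum, nM]) hMfin

set_option maxHeartbeats 1600000 in
/-- Keeping the first shape keeps the cross. -/
theorem mem_crossStab_of_four {g : Co0}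
    (hg : ∀ x : leechLattice, (sqNorm (x : GolayPt → ℤ) = 32 ∧ IsFour (x : GolayPt → ℤ)) ↔
      (sqNorm ((g • x : leechLattice) : GolayPt → ℤ) = 32 ∧ IsFour ((g • x : leechLattice) : GolayPt → ℤ))) :
    g ∈ crossStab := by
  classical
  let N : leechLattice → Set leechLattice := fun z => {x | (sqNorm (x : GolayPt → ℤ) = 32 ∧ IsFour (x : GolayPt → ℤ)) ∧
    (sqNorm ((z - x : leechLattice) : GolayPt → ℤ) = 32 ∧ IsFour ((z - x : leechLattice) : GolayPt → ℤ))}
  have hN : (N (g • axisVec none 8 dvd_rfl)) = g • N (axisVec none 8 dvd_rfl) := by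
    ext x
    rw [Set.mem_smul_set_iff_inv_smul_mem]
    simp only [N, Set.mem_ofPred_eq]
    rw [hg (g⁻¹ • x), hg (axisVec none 8 dvd_rfl - g⁻¹ • x), smul_sub', smul_inv_smul]
  set z := g • axisVec none 8 dvd_rfl with hz
  have hzn : sqNorm (z : GolayPt → ℤ) = 64 := by
    rw [hz, sqNorm_smul_co, coe_axisVec, sqNorm_single]; norm_num
  have hfour : ∀ x : leechLattice, sqNorm (x : GolayPt → ℤ) = 32 ∧ IsFour (x : GolayPt → ℤ) →
      (∀ i, (x : GolayPt → ℤ) i = 0 ∨ (x : GolayPt → ℤ) i = 4 ∨ (x : GolayPt → ℤ) i = -4) ∧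
      (Finset.univ.filter fun i => (x : GolayPt → ℤ) i ≠ 0).card = 2 := by
    intro x hx
    have hev : ¬ (x : GolayPt → ℤ) none % 2 = 1 := fun h => (odd_abs hx.1 h).2 hx.2
    have hv := ((even_shape hx.1 hev).2.resolve_right fun h => h.1 hx.2).2
    refine ⟨hv, ?_⟩
    have h : ∑ i, (x : GolayPt → ℤ) i ^ 2 = ∑ i ∈ Finset.univ.filter (fun i => (x : GolayPt → ℤ) i ≠ 0), (16 : ℤ) := by
      rw [Finset.sum_filter]
      refine Finset.sum_congr rfl fun i _ => ?_
      rcases hv i with e | e | e <;> rw [e] <;> norm_num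
    rw [← sqNorm, hx.1, Finset.sum_const, nsmul_eq_mul] at h
    omega
  have h7 : 7 ≤ (N z).ncard := by
    rw [hN, Set.ncard_smul_set]
    have hfin : (N (axisVec none 8 dvd_rfl)).Finite :=
      (Set.finite_of_ncard_ne_zero (s := {x : leechLattice | sqNorm (x : GolayPt → ℤ) = 32})
        (by rw [ncard_subtype fun x => sqNorm x = 32, ncard_norm32]; norm_num)).subset fun x hx => hx.1.1
    have hm : ∀ i : Fin 7, (fun p => if p = (none : GolayPt) then (4 : ℤ)
        else if p = some (i.val : ZMod 23) then 4 else 0) ∈ leechLattice := by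
      intro i
      have e : (fun p => if p = (none : GolayPt) then (4 : ℤ) else if p = some (i.val : ZMod 23) then 4 else 0) =
          fun p => 4 * (if p = (none : GolayPt) ∨ p = some (i.val : ZMod 23) then 1 else 0) := by
        funext p; rcases p with _ | p <;> simp
      rw [e]
      refine four_mul_mem_leech _ ?_
      rw [Finset.sum_boole]
      have : (Finset.univ.filter fun p : GolayPt => p = none ∨ p = some (i.val : ZMod 23)) =
          {none, some (i.val : ZMod 23)} := by ext p; simp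
      rw [this, Finset.card_pair (by simp)]
      norm_num
    let f : Fin 7 → leechLattice := fun i => ⟨_, hm i⟩
    have hf : Function.Injective f := by
      intro i j h
      have := congrFun (congrArg Subtype.val h) (some (i.val : ZMod 23))
      simp only [f, reduceCtorEq, if_false] at this
      by_contra hne
      rw [if_pos trivial, if_neg] at this
      · norm_num at this
      · intro e
        refine hne ?_
        have : ∀ a b : Fin 7, (some (a.val : ZMod 23) : GolayPt) = some (b.val : ZMod 23) → a = b := by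
          decide +kernel
        exact this i j e
    refine le_trans (le_of_eq ?_) (Set.ncard_le_ncard (s := Set.range f) ?_ hfin)
    · rw [← Set.image_univ, Set.ncard_image_of_injective _ hf, Set.ncard_univ, Nat.card_fin]
    · rintro _ ⟨i, rfl⟩
      have h2 : ∀ s t : ℤ, s ^ 2 = 16 → t ^ 2 = 16 →
          ∑ p : GolayPt, (if p = none then s else if p = some (i.val : ZMod 23) then t else 0) ^ 2 = 32 := by
        intro s t hs ht
        rw [Fintype.sum_option]
        simp [hs, ht, ite_pow]
      refine ⟨⟨h2 4 4 (by norm_num) (by norm_num), none, by simp [f]⟩, ?_, none, by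
        simp [f, coe_axisVec, AddSubgroup.coe_sub]⟩
      rw [sqNorm, ← h2 4 (-4) (by norm_num) (by norm_num)]
      refine Finset.sum_congr rfl fun p _ => ?_
      simp only [f, AddSubgroup.coe_sub, coe_axisVec, Pi.sub_apply]
      rcases p with _ | p
      · simp
      · rw [Pi.single_eq_of_ne (by simp)]; split <;> simp
  have hfinN : (N z).Finite := Set.finite_of_ncard_ne_zero (by omega)
  obtain ⟨x₀, hx₀⟩ := Set.nonempty_of_ncard_ne_zero (show (N z).ncard ≠ 0 by omega)
  set T := Finset.univ.filter fun i => (z : GolayPt → ℤ) i ≠ 0 with hT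
  have hzval : ∀ i, (z : GolayPt → ℤ) i ∈ ({0, 4, -4, 8, -8} : Finset ℤ) := fun i => by
    have a := (hfour _ hx₀.1).1 i
    have b := (hfour _ hx₀.2).1 i
    simp only [AddSubgroup.coe_sub, Pi.sub_apply] at b
    simp only [Finset.mem_insert, Finset.mem_singleton]
    omega
  by_cases h8 : ∃ i, (z : GolayPt → ℤ) i = 8 ∨ (z : GolayPt → ℤ) i = -8
  · obtain ⟨i, hi⟩ := h8
    have hmem : z ∈ stdSet := by
      refine ⟨i, _, hi, funext fun j => ?_⟩
      rcases eq_or_ne j i with rfl | hji
      · rw [Pi.single_eq_same]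
      · rw [Pi.single_eq_of_ne hji]
        have h := Finset.add_le_sum (f := fun k => (z : GolayPt → ℤ) k ^ 2) (s := Finset.univ)
          (fun k _ => sq_nonneg _) (Finset.mem_univ i) (Finset.mem_univ j) hji.symm
        rw [← sqNorm, hzn] at h
        rcases hi with e | e <;> rw [e] at h <;> nlinarith
    rw [crossStab, MulAction.mem_stabilizer_iff, stdSet_eq_cls8, smul_cls8]
    rw [stdSet_eq_cls8] at hmem
    exact cls8_eq hmem
  · exfalso
    push Not at h8
    have hz4 : ∀ i, (z : GolayPt → ℤ) i = 0 ∨ (z : GolayPt → ℤ) i = 4 ∨ (z : GolayPt → ℤ) i = -4 := fun i => by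
      have := hzval i
      simp only [Finset.mem_insert, Finset.mem_singleton] at this
      have := h8 i
      omega
    have hTc : T.card = 4 := by
      have h : ∑ i, (z : GolayPt → ℤ) i ^ 2 = ∑ i ∈ T, (16 : ℤ) := by
        rw [hT, Finset.sum_filter]
        refine Finset.sum_congr rfl fun i _ => ?_
        rcases hz4 i with e | e | e <;> rw [e] <;> norm_num
      rw [← sqNorm, hzn, Finset.sum_const, nsmul_eq_mul] at h
      omega
    let supp : leechLattice → Finset GolayPt := fun x => Finset.univ.filter fun i => (x : GolayPt → ℤ) i ≠ 0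
    have key : ∀ x ∈ N z, supp x ⊆ T ∧ ∀ i ∈ supp x, (x : GolayPt → ℤ) i = (z : GolayPt → ℤ) i := by
      intro x hx
      have h1 := hfour x hx.1
      have h2 := hfour (z - x) hx.2
      have hsub : T ⊆ supp x ∪ supp (z - x) := fun i hi => by
        have hi' : (z : GolayPt → ℤ) i ≠ 0 := (Finset.mem_filter.1 hi).2
        simp only [supp, Finset.mem_union, Finset.mem_filter, Finset.mem_univ, true_and,
          AddSubgroup.coe_sub, Pi.sub_apply]
        omega
      have heq : T = supp x ∪ supp (z - x) := Finset.eq_of_subset_of_card_le hsub (by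
        have := Finset.card_union_le (supp x) (supp (z - x))
        rw [h1.2, h2.2] at this
        omega)
      have hdis : Disjoint (supp x) (supp (z - x)) := by
        rw [← Finset.card_union_eq_card_add_card, ← heq, h1.2, h2.2, hTc]
      refine ⟨heq ▸ Finset.subset_union_left, fun i hi => ?_⟩
      have : i ∉ supp (z - x) := Finset.disjoint_left.1 hdis hi
      simp only [supp, Finset.mem_filter, Finset.mem_univ, true_and, AddSubgroup.coe_sub, Pi.sub_apply,
        not_not] at this
      omega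
    have hle : (N z).ncard ≤ (T.powersetCard 2 : Finset _).card := by
      rw [← Set.ncard_coe_finset]
      refine Set.ncard_le_ncard_of_injOn supp (fun x hx => ?_) (fun x hx y hy e => ?_) (Finset.finite_toSet _)
      · exact Finset.mem_coe.2 (Finset.mem_powersetCard.2 ⟨(key x hx).1, (hfour x hx.1).2⟩)
      · refine Subtype.ext (funext fun i => ?_)
        by_cases hi : i ∈ supp x
        · rw [(key x hx).2 i hi, (key y hy).2 i (e ▸ hi)]
        · have hi' : i ∉ supp y := e ▸ hi
          simp only [supp, Finset.mem_filter, Finset.mem_univ, true_and, not_not] at hi hi'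
          rw [hi, hi']
    rw [Finset.card_powersetCard, hTc] at hle
    norm_num [Nat.choose] at hle
    omega

/-- A vector of the base shape and the neighbours. -/
def baseMin : leechLattice := ⟨base32, base32_mem.1⟩

theorem exists_code01 : ∃ D, CodeSet D ∧ pt 0 ∉ D ∧ pt 1 ∈ D := by
  obtain ⟨D, hD, h1, h0⟩ := exists_code_separate (pt 1) (pt 0) pt01.symm
  exact ⟨D, hD, h0, h1⟩

/-- An element of order 23 fixes no neighbour. -/
theorem order23_no_fixed {y : Co0} (hy : orderOf y = 23) {v w : leechLattice}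
    (hv : sqNorm (v : GolayPt → ℤ) = 32) (hw : sqNorm (w : GolayPt → ℤ) = 32)
    (hd : dotInt (v : GolayPt → ℤ) w = -16) (hyv : y • v = v) : y • w ≠ w := by
  intro hyw
  haveI : Fact (Nat.Prime 23) := ⟨by norm_num⟩
  haveI := finite_co0
  obtain ⟨P, hP⟩ := (IsPGroup.of_card (n := 1) (show Nat.card (Subgroup.zpowers y) = 23 ^ 1 by
    rw [Nat.card_zpowers, hy, pow_one])).exists_le_sylow
  obtain ⟨a, ha⟩ := MulAction.exists_smul_eq Co0 cycSylow P
  have hle : Subgroup.zpowers y ≤ MulAction.stabilizer Co0 v ⊓ MulAction.stabilizer Co0 w :=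
    (Subgroup.zpowers_le).2 ⟨hyv, hyw⟩
  have hPy : (P : Subgroup Co0) = Subgroup.zpowers y := by
    refine (Subgroup.eq_of_le_of_card_ge hP ?_).symm
    rw [Nat.card_zpowers, hy, Nat.card_congr (P.equiv cycSylow).toEquiv, coe_cycSylow, Nat.card_zpowers,
      orderOf_cycAut]
  have hmem : a * cycAut * a⁻¹ ∈ MulAction.stabilizer Co0 v ⊓ MulAction.stabilizer Co0 w := by
    refine hle ?_
    rw [← hPy, ← ha, Sylow.smul_def, Sylow.pointwise_smul_def, coe_cycSylow]
    exact Subgroup.mem_smul_pointwise_iff_exists _ _ _ |>.2 ⟨cycAut, Subgroup.mem_zpowers _, rfl⟩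
  obtain ⟨h1, h2⟩ := Subgroup.mem_inf.1 hmem
  rw [MulAction.mem_stabilizer_iff, mul_smul, mul_smul, eq_inv_smul_iff.symm] at h1 h2
  have fix : ∀ u : leechLattice, sqNorm (u : GolayPt → ℤ) = 32 → cycAut • u = u →
      ((u : GolayPt → ℤ) none = 3 ∨ (u : GolayPt → ℤ) none = -3) ∧
        ((u : GolayPt → ℤ) (some 0) = 1 ∨ (u : GolayPt → ℤ) (some 0) = -1) := by
    intro u hu h
    have hn := cyc_fixed_norm h
    rw [hu] at hn
    set p := (u : GolayPt → ℤ) none
    set q := (u : GolayPt → ℤ) (some 0)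
    have hq2 : q ^ 2 ≤ 1 := by nlinarith [sq_nonneg p]
    obtain ⟨hq1, hq3⟩ : -1 ≤ q ∧ q ≤ 1 := by constructor <;> nlinarith
    obtain ⟨hp1, hp3⟩ : -6 ≤ p ∧ p ≤ 6 := by constructor <;> nlinarith [sq_nonneg q]
    interval_cases p <;> interval_cases q <;> first | omega | norm_num at hn ⊢
  obtain ⟨va, vb⟩ := fix _ (by rw [sqNorm_smul_co, hv]) h1
  obtain ⟨wa, wb⟩ := fix _ (by rw [sqNorm_smul_co, hw]) h2
  have hdot := dot_smul_co a⁻¹ v w
  rw [hd, dotInt, Fintype.sum_option,
    Finset.sum_congr rfl fun i _ => by rw [cyc_fixed h1 i, cyc_fixed h2 i]] at hdot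
  simp only [Finset.sum_const, Finset.card_univ, ZMod.card, nsmul_eq_mul] at hdot
  rcases va with e | e <;> rcases vb with e' | e' <;> rcases wa with f | f <;> rcases wb with f' | f' <;>
    rw [e, e', f, f'] at hdot <;> norm_num at hdot

theorem dvd_of_fixed_point_free {α : Type*} [MulAction Co0 α] (L : Subgroup Co0) {y : Co0} (hyL : y ∈ L)
    (hy : orderOf y = 23) (w : α) (hfin : (MulAction.orbit L w).Finite)
    (hfree : ∀ u ∈ MulAction.orbit L w, y • u ≠ u) : 23 ∣ (MulAction.orbit L w).ncard := by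
  haveI : Fact (Nat.Prime 23) := ⟨by norm_num⟩
  haveI := hfin.to_subtype
  set P : Subgroup L := Subgroup.zpowers ⟨y, hyL⟩ with hP
  have hp : IsPGroup 23 P := IsPGroup.of_card (n := 1) (by
    rw [hP, Nat.card_zpowers, ← Subgroup.orderOf_coe, hy, pow_one])
  have h := hp.card_modEq_card_fixedPoints (MulAction.orbit L w)
  have he : MulAction.fixedPoints P (MulAction.orbit L w) = ∅ := by
    refine Set.eq_empty_of_forall_notMem fun u hu => hfree u.1 u.2 ?_
    exact congrArg Subtype.val (hu ⟨⟨y, hyL⟩, Subgroup.mem_zpowers _⟩)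
  rw [he, Nat.card_coe_set_eq, Nat.card_coe_set_eq, Set.ncard_empty] at h
  exact (Nat.modEq_zero_iff_dvd).1 h

/-- Transitivity on the neighbours of an element of order 23 in the stabiliser. -/
theorem nbr_orbit {L : Subgroup Co0} (hL : crossStab ⊓ MulAction.stabilizer Co0 baseMin ≤ L)
    (hLv : L ≤ MulAction.stabilizer Co0 baseMin) {y : Co0} (hyL : y ∈ L) (hy : orderOf y = 23) :
    4600 ∣ Nat.card L := by
  classical
  haveI := finite_co0
  obtain ⟨D₀, hD₀, hD0, hD1⟩ := exists_code01
  have hbn : sqNorm (baseMin : GolayPt → ℤ) = 32 := base32_mem.2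
  have hwm : nbrFour ∈ leechLattice ∧ sqNorm nbrFour = 32 ∧ dotInt base32 nbrFour = -16 ∧
      dotInt base32neg nbrFour = -16 := by
    refine ⟨?_, by decide +kernel, by decide +kernel, by decide +kernel⟩
    have e : nbrFour = fun p => 4 * (if p = pt 0 then -1 else if p = pt 2 then 1 else 0) := by
      funext p; unfold nbrFour; split_ifs <;> norm_num
    rw [e]
    exact four_mul_mem_leech _ (by decide +kernel)
  set w : leechLattice := ⟨nbrFour, hwm.1⟩ with hw
  set O := MulAction.orbit L w with hO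
  let S : ℤ → Set leechLattice := fun t =>
    {x | sqNorm (x : GolayPt → ℤ) = 32 ∧ dotInt base32 x = -16 ∧ dotInt base32neg x = t}
  set W : Set leechLattice := {x | sqNorm (x : GolayPt → ℤ) = 32 ∧ dotInt base32 x = -16} with hW
  have nS : ∀ t, (S t).ncard =
      {x : GolayPt → ℤ | x ∈ leechLattice ∧ sqNorm x = 32 ∧ dotInt base32 x = -16 ∧ dotInt base32neg x = t}.ncard :=
    fun t => ncard_subtype fun x => sqNorm x = 32 ∧ dotInt base32 x = -16 ∧ dotInt base32neg x = t
  have nW : W.ncard = 4600 := by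
    rw [hW, ncard_subtype fun x => sqNorm x = 32 ∧ dotInt base32 x = -16, ncard_base32.1]
  have hWfin : W.Finite := Set.finite_of_ncard_ne_zero (by omega)
  have hOW : O ⊆ W := by
    rintro _ ⟨g, rfl⟩
    refine ⟨co_min (g := (g : Co0)) hwm.2.1, ?_⟩
    have h := dot_smul_co (g : Co0) baseMin w
    rw [show (g : Co0) • baseMin = baseMin from hLv g.2] at h
    exact h.trans hwm.2.2.1
  have hdot : ∀ x : leechLattice, dotInt base32 x = 4 * ((x : GolayPt → ℤ) (pt 0) + (x : GolayPt → ℤ) (pt 1)) ∧
      dotInt base32neg x = 4 * ((x : GolayPt → ℤ) (pt 0) - (x : GolayPt → ℤ) (pt 1)) := fun x =>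
    ⟨by rw [dotInt_comm, dotInt_base32], by rw [dotInt_comm, dotInt_base32neg]⟩
  have hmeet : ∀ (c : GolayPt → ℤ) (X : Set leechLattice), (∀ x ∈ X, ∃ g ∈ crossStab, g • baseMin = baseMin ∧
      ((g • x : leechLattice) : GolayPt → ℤ) = c) → (O ∩ X).Nonempty → X ⊆ O := by
    intro c X h hne
    obtain ⟨u, hu⟩ := hne
    obtain ⟨g₀, -, -, e₀⟩ := h u hu.2
    refine subset_of_meet (L := crossStab ⊓ MulAction.stabilizer Co0 baseMin) ?_ (c := g₀ • u)
      (fun x hx => ?_) ⟨u, hu⟩
    · rintro g hg _ ⟨k, rfl⟩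
      exact ⟨⟨g, hL hg⟩ * k, mul_smul _ _ _⟩
    · obtain ⟨g, hg, hgv, e⟩ := h x hx
      exact ⟨g, ⟨hg, hgv⟩, Subtype.ext (e.trans e₀.symm)⟩
  set F := S 16 ∪ S (-16) with hF
  set E := S 0 with hE
  set D := S 8 ∪ S (-8) with hD
  have hFin : ∀ x ∈ F, ∃ g ∈ crossStab, g • baseMin = baseMin ∧ ((g • x : leechLattice) : GolayPt → ℤ) = nbrFour := by
    intro x hx
    have := hdot x
    refine nbr_four_to rfl (by rcases hx with h | h <;> exact h.1) ?_ ?_
    · rcases hx with ⟨-, h, -⟩ | ⟨-, h, -⟩ <;> omega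
    · rcases hx with ⟨-, -, h⟩ | ⟨-, -, h⟩
      · rw [show (x : GolayPt → ℤ) (pt 0) - (x : GolayPt → ℤ) (pt 1) = 4 by omega]; rfl
      · rw [show (x : GolayPt → ℤ) (pt 0) - (x : GolayPt → ℤ) (pt 1) = -4 by omega]; rfl
  have hEin : ∀ x ∈ E, ∃ g ∈ crossStab, g • baseMin = baseMin ∧ ((g • x : leechLattice) : GolayPt → ℤ) = baseEight := by
    rintro x ⟨h1, h2, h3⟩
    have := hdot x
    exact nbr_eight_to rfl h1 (by omega) (by omega)
  have hDin : ∀ x ∈ D, ∃ g ∈ crossStab, g • baseMin = baseMin ∧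
      ((g • x : leechLattice) : GolayPt → ℤ) = signFlip D₀ nbrOdd := by
    intro x hx
    have := hdot x
    refine nbr_odd_to rfl (by rcases hx with h | h <;> exact h.1) ?_ ?_ hD₀ hD0 hD1
    · rcases hx with ⟨-, h, -⟩ | ⟨-, h, -⟩ <;> omega
    · rcases hx with ⟨-, -, h⟩ | ⟨-, -, h⟩
      · rw [show (x : GolayPt → ℤ) (pt 0) - (x : GolayPt → ℤ) (pt 1) = 2 by omega]; rfl
      · rw [show (x : GolayPt → ℤ) (pt 0) - (x : GolayPt → ℤ) (pt 1) = -2 by omega]; rfl
  have hSfin : ∀ t, (S t).Finite := fun t => hWfin.subset fun x hx => ⟨hx.1, hx.2.1⟩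
  have hFO : F ⊆ O := hmeet _ F hFin ⟨w, MulAction.mem_orbit_self w, Or.inr ⟨hwm.2.1, hwm.2.2.1, hwm.2.2.2⟩⟩
  have hdis : ∀ s t : ℤ, s ≠ t → Disjoint (S s) (S t) := fun s t hst =>
    Set.disjoint_left.2 fun x h h' => hst (h.2.2.symm.trans h'.2.2)
  have nF : F.ncard = 88 := by
    rw [hF, Set.ncard_union_eq (hdis _ _ (by norm_num)) (hSfin _) (hSfin _), nS, nS, ncard_nbr.2.2.2.1,
      ncard_nbr.2.2.2.2]
  have nE : E.ncard = 2464 := by rw [hE, nS, ncard_nbr.1]
  have nD : D.ncard = 2048 := by
    rw [hD, Set.ncard_union_eq (hdis _ _ (by norm_num)) (hSfin _) (hSfin _), nS, nS, ncard_nbr.2.1,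
      ncard_nbr.2.2.1]
  have hdFE : Disjoint F E := Disjoint.union_left (hdis _ _ (by norm_num)) (hdis _ _ (by norm_num))
  have hdFD : Disjoint (F ∪ E) D :=
    Disjoint.union_left
      (Disjoint.union_right (Disjoint.union_left (hdis _ _ (by norm_num)) (hdis _ _ (by norm_num)))
        (Disjoint.union_left (hdis _ _ (by norm_num)) (hdis _ _ (by norm_num))))
      (Disjoint.union_right (hdis _ _ (by norm_num)) (hdis _ _ (by norm_num)))
  have hcov : F ∪ E ∪ D = W := by
    refine Set.eq_of_subset_of_ncard_le ?_ ?_ hWfin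
    · rintro x (((h | h) | h) | (h | h)) <;> exact ⟨h.1, h.2.1⟩
    · rw [Set.ncard_union_eq hdFD ((hSfin _).union (hSfin _) |>.union (hSfin _)) ((hSfin _).union (hSfin _)),
        Set.ncard_union_eq hdFE ((hSfin _).union (hSfin _)) (hSfin _), nF, nE, nD, nW]
  have hOfin : O.Finite := hWfin.subset hOW
  have h23 : 23 ∣ O.ncard := dvd_of_fixed_point_free L hyL hy w hOfin fun u hu => by
    obtain ⟨h1, h2⟩ := hOW hu
    exact order23_no_fixed hy hbn h1 h2 (hLv hyL)
  have hsum : O.ncard = 88 + (O ∩ E).ncard + (O ∩ D).ncard := by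
    have e : O = (F ∪ O ∩ E) ∪ O ∩ D := by
      ext x
      refine ⟨fun h => ?_, ?_⟩
      · have := hcov.ge (hOW h)
        rcases this with (h' | h') | h'
        · exact Or.inl (Or.inl h')
        · exact Or.inl (Or.inr ⟨h, h'⟩)
        · exact Or.inr ⟨h, h'⟩
      · rintro ((h | h) | h)
        · exact hFO h
        · exact h.1
        · exact h.1
    conv_lhs => rw [e]
    rw [Set.ncard_union_eq (hdFD.mono (Set.union_subset_union_right _ Set.inter_subset_right) Set.inter_subset_right)
        (((hSfin _).union (hSfin _)).union (hOfin.subset Set.inter_subset_left)) (hOfin.subset Set.inter_subset_left),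
      Set.ncard_union_eq (hdFE.mono_right Set.inter_subset_right) ((hSfin _).union (hSfin _))
        (hOfin.subset Set.inter_subset_left), nF]
  have cE := ncard_inter_cases (hmeet _ E hEin)
  have cD := ncard_inter_cases (hmeet _ D hDin)
  rw [nE] at cE
  rw [nD] at cD
  have h4600 : O.ncard = 4600 := by
    rcases cE with e | e <;> rcases cD with e' | e' <;> rw [e, e'] at hsum <;> omega
  rw [← h4600]
  exact Dvd.intro _ (orbit_card_mul L w)

/-- The monomial group is maximal. -/
theorem crossStab_isCoatom : IsCoatom crossStab := by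
  classical
  haveI := finite_co0
  haveI : Fact (Nat.Prime 23) := ⟨by norm_num⟩
  have hidx : crossStab.index = 8292375 := by rw [crossStab, MulAction.index_stabilizer, ncard_orbit_stdSet]
  refine ⟨fun h => by rw [h, Subgroup.index_top] at hidx; norm_num at hidx, fun K hK => ?_⟩
  by_contra hne
  obtain ⟨hle, hnle⟩ := hK.le, hK.not_ge
  -- the congruence on the index
  have hP : Subgroup.zpowers cycAut ≤ K := (Subgroup.zpowers_le).2 (hle cycAut_crossStab)
  have hmod : K.index % 23 = 1 := by
    have hp : IsPGroup 23 (Subgroup.zpowers cycAut) := IsPGroup.of_card (n := 1) (by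
      rw [Nat.card_zpowers, orderOf_cycAut, pow_one])
    have h := hp.card_modEq_card_fixedPoints (Co0 ⧸ K)
    have hfix : MulAction.fixedPoints (Subgroup.zpowers cycAut) (Co0 ⧸ K) = {QuotientGroup.mk 1} := by
      ext q
      obtain ⟨a, rfl⟩ := QuotientGroup.mk_surjective q
      constructor
      · intro ha
        have h1 := ha ⟨cycAut, Subgroup.mem_zpowers _⟩
        change (QuotientGroup.mk (cycAut * a) : Co0 ⧸ K) = QuotientGroup.mk a at h1
        rw [QuotientGroup.eq] at h1
        have hx : a⁻¹ * cycAut * a ∈ K := by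
          have := K.inv_mem h1
          simpa [mul_assoc] using this
        have hxo : orderOf (a⁻¹ * cycAut * a) = 23 := by
          have h := MulEquiv.orderOf_eq (MulAut.conj a⁻¹) cycAut
          rw [MulAut.conj_apply, inv_inv, orderOf_cycAut] at h
          exact h
        let Q : Sylow 23 K := cycSylow.subtype hP
        obtain ⟨Q', hQ'⟩ := (IsPGroup.of_card (n := 1)
          (show Nat.card (Subgroup.zpowers (⟨_, hx⟩ : K)) = 23 ^ 1 by
            rw [Nat.card_zpowers, ← Subgroup.orderOf_coe, hxo, pow_one])).exists_le_sylow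
        obtain ⟨k, hk⟩ := MulAction.exists_smul_eq K Q' Q
        have hmem : (k : Co0) * (a⁻¹ * cycAut * a) * (k : Co0)⁻¹ ∈ Subgroup.zpowers cycAut := by
          have : k * ⟨_, hx⟩ * k⁻¹ ∈ (Q : Subgroup K) := by
            rw [← hk, Sylow.smul_def, Sylow.pointwise_smul_def, Subgroup.mem_smul_pointwise_iff_exists]
            exact ⟨_, hQ' (Subgroup.mem_zpowers _), rfl⟩
          exact this
        have hn := normalizer_le_crossStab (g := a * (k : Co0)⁻¹) (by
          simpa [mul_assoc] using hmem)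
        show QuotientGroup.mk a = QuotientGroup.mk 1
        rw [QuotientGroup.eq, mul_one, inv_mem_iff]
        simpa using K.mul_mem (hle hn) k.2
      · intro e g
        rw [Set.mem_singleton_iff] at e
        rw [e]
        show (QuotientGroup.mk ((g : Co0) * 1) : Co0 ⧸ K) = QuotientGroup.mk 1
        rw [mul_one, QuotientGroup.eq, mul_one, inv_mem_iff]
        exact hP g.2
    rw [hfix, Nat.card_coe_set_eq, Set.ncard_singleton] at h
    exact h
  -- transitivity on short vectors
  have hvn : sqNorm (baseMin : GolayPt → ℤ) = 32 := base32_mem.2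
  have horb := (orbit_shapes hle (v := baseMin) rfl).resolve_right fun h => hnle fun g hg => by
    have key : ∀ g ∈ K, ∀ x ∈ MulAction.orbit K baseMin, g • x ∈ MulAction.orbit K baseMin := by
      rintro g hg _ ⟨k, rfl⟩
      exact ⟨⟨g, hg⟩ * k, mul_smul _ _ _⟩
    refine mem_crossStab_of_four fun x => ⟨fun hx => ?_, fun hx => ?_⟩
    · exact h.le (key g hg x (h.ge hx))
    · have := h.le (key g⁻¹ (inv_mem hg) _ (h.ge hx))
      rwa [inv_smul_smul] at this
  set Kv := K ⊓ MulAction.stabilizer Co0 baseMin with hKv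
  set Hv := crossStab ⊓ MulAction.stabilizer Co0 baseMin with hHv
  have cK : 196560 * Nat.card Kv = Nat.card K := by
    rw [hKv, ← orbit_card_mul K baseMin, horb, ncard_subtype fun x => sqNorm x = 32, ncard_norm32]
  have cH : 1104 * Nat.card Hv = Nat.card crossStab := by
    have h := orbit_card_mul crossStab baseMin
    have e : MulAction.orbit crossStab baseMin =
        {x : leechLattice | sqNorm (x : GolayPt → ℤ) = 32 ∧ IsFour (x : GolayPt → ℤ)} := by
      ext x
      constructor
      · rintro ⟨g, rfl⟩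
        obtain ⟨σ, hσ, c, hc, e⟩ := exists_monoAut_of_mem g.2
        refine ⟨co_min (g := (g : Co0)) hvn, σ (pt 0), ?_⟩
        show |(((g : Co0) • baseMin : leechLattice) : GolayPt → ℤ) (σ (pt 0))| = 4
        rw [e, coe_monoAut_smul]
        simp only [signedPerm, Equiv.symm_apply_apply, baseMin, base32, true_or, if_true]
        split <;> rfl
      · rintro ⟨hx, hf⟩
        obtain ⟨g, hg, hgx⟩ := four_to_base hx hf
        refine ⟨⟨g⁻¹, inv_mem hg⟩, ?_⟩
        show g⁻¹ • baseMin = x
        rw [show baseMin = g • x from Subtype.ext hgx.symm, inv_smul_smul]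
    rw [e, ncard_subtype fun x => sqNorm x = 32 ∧ IsFour x, ncard_shapes.1] at h
    exact h
  obtain ⟨m, hm⟩ := Subgroup.card_dvd_of_le hle
  have hmi : m * K.index = 8292375 := by
    have h1 := Subgroup.index_mul_card K
    have h2 := Subgroup.index_mul_card crossStab
    rw [hidx] at h2
    rw [hm] at h1
    refine Nat.eq_of_mul_eq_mul_right (Nat.card_pos (α := crossStab)) ?_
    linarith [h1, h2]
  obtain ⟨a, ha⟩ := Subgroup.card_dvd_of_le (inf_le_inf_right (MulAction.stabilizer Co0 baseMin) hle : Hv ≤ Kv)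
  have hHpos : 0 < Nat.card Hv := Nat.card_pos
  have heq : 196560 * a = 1104 * m := by
    refine Nat.eq_of_mul_eq_mul_right hHpos ?_
    rw [hm, ← cH, ha] at cK
    linarith
  have h23 : 23 ∣ a := by
    have h' : 4095 * a = 23 * m := by omega
    exact (Nat.Coprime.dvd_of_dvd_mul_left (by norm_num) (h' ▸ Dvd.intro m rfl))
  obtain ⟨y, hy⟩ := exists_prime_orderOf_dvd_card' (G := Kv) 23 (ha ▸ h23.mul_left _)
  have h4600 : 4600 ∣ Nat.card Kv := nbr_orbit (inf_le_inf_right _ hle) inf_le_right y.2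
    (by rw [Subgroup.orderOf_coe, hy])
  have hHval : Nat.card Hv = 908328960 := by
    rw [card_crossStab] at cH; omega
  rw [ha, hHval] at h4600
  obtain ⟨a', rfl⟩ := h23
  have h5 : 5 ∣ a' := by
    obtain ⟨q, hq⟩ := h4600
    refine (show Nat.Coprime 5 4178313216 by norm_num).dvd_of_dvd_mul_left ⟨184 * q, ?_⟩
    linarith
  have hm' : m = 4095 * a' := by omega
  obtain ⟨a'', rfl⟩ := h5
  subst hm'
  have hprod : a'' * K.index = 405 := by linarith
  have hKd : K.index ∣ 405 := Dvd.intro_left _ hprod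
  have hKle : K.index ≤ 405 := Nat.le_of_dvd (by norm_num) hKd
  have hne1 : K.index ≠ 1 := fun h => hne (Subgroup.index_eq_one.1 h)
  have h : K.index ∈ Nat.divisors 405 := Nat.mem_divisors.2 ⟨hKd, by norm_num⟩
  rw [show Nat.divisors 405 = {1, 3, 5, 9, 15, 27, 45, 81, 135, 405} by decide +kernel] at h
  simp only [Finset.mem_insert, Finset.mem_singleton] at h
  omega

end CfsgLib.Leech
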