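import Cfsg.Agent.Lib.Leech.Cross
import Cfsg.Agent.Lib.Golay.M24Sub
import Cfsg.Agent.Lib.Golay.Octad

/-!
# Transitivity on the shells of squared length 32 and 48, and generation by minimal vectors

Every vector of squared length 32 is half the sum of two members of a cross, and every vector of
squared length 48 has inner product 32 with some vector of squared length 64. Moving that cross to
the standard one leaves a single shape, on which the monomial group is transitive.
-/

set_option autoImplicit false

open scoped Pointwise symmDiff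

namespace CfsgLib.Leech

open Cfsg CfsgLib.Golay

/-- Vectors with coordinates divisible by four and coordinate sum divisible by eight. -/
theorem four_mul_mem_leech (d : GolayPt → ℤ) (hd : (2 : ℤ) ∣ ∑ p, d p) :
    (fun p => 4 * d p) ∈ leechLattice :=
  mem_leechLattice_iff_form.2 ⟨⟨0, ∅, d, codeSet_empty, fun i => by simp [indi], by
    rw [← Finset.mul_sum]; simp only [Int.ModEq]; omega⟩⟩

/-- Vectors congruent to twice a code set modulo four. -/
theorem two_code_mem_leech {C : Finset GolayPt} (hC : CodeSet C) (d : GolayPt → ℤ)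
    (hd : (2 : ℤ) ∣ ∑ p, d p) : (fun p => 2 * indi C p + 4 * d p) ∈ leechLattice :=
  mem_leechLattice_iff_form.2 ⟨⟨0, C, d, hC, fun i => by ring, by
    rw [Finset.sum_add_distrib, ← Finset.mul_sum, ← Finset.mul_sum, sum_indi]
    obtain ⟨k, hk⟩ := codeSet_card_dvd hC
    simp only [Int.ModEq]; omega⟩⟩

theorem dotInt_single (x : GolayPt → ℤ) (p : GolayPt) (t : ℤ) :
    dotInt x (Pi.single p t) = x p * t := by
  rw [dotInt, Finset.sum_eq_single p (fun b _ hb => by simp [Pi.single_eq_of_ne hb]) (by simp)]
  simp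

theorem dotInt_comm (x y : GolayPt → ℤ) : dotInt x y = dotInt y x :=
  Finset.sum_congr rfl fun i _ => mul_comm _ _

theorem abs_le_of_sqNorm {x : GolayPt → ℤ} {N : ℤ} (h : sqNorm x ≤ N) (p : GolayPt) : x p ^ 2 ≤ N :=
  le_trans (Finset.single_le_sum (fun q _ => sq_nonneg (x q)) (Finset.mem_univ p)) h

theorem signFlip_apply (s : Finset GolayPt) (x : GolayPt → ℤ) (p : GolayPt) :
    signFlip s x p = if p ∈ s then -x p else x p := rfl

theorem signFlip_involutive (s : Finset GolayPt) (x : GolayPt → ℤ) :
    signFlip s (signFlip s x) = x := by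
  funext p; simp only [signFlip_apply]; split <;> simp

theorem dotInt_signFlip (s : Finset GolayPt) (x y : GolayPt → ℤ) :
    dotInt (signFlip s x) (signFlip s y) = dotInt x y :=
  Finset.sum_congr rfl fun p _ => by simp only [signFlip_apply]; split <;> ring

/-- An odd vector becomes congruent to 1 modulo 4 everywhere after a sign change on a code set. -/
theorem exists_normal_odd {v : GolayPt → ℤ} (hv : v ∈ leechLattice) (hodd : v none % 2 = 1) :
    ∃ D, CodeSet D ∧ ∀ p, signFlip D v p % 4 = 1 := by
  obtain ⟨m, hpar, -, hcode⟩ := mem_leechLattice_iff.1 hv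
  refine ⟨_, hcode 3, fun p => ?_⟩
  have h1 := hpar p
  have h2 := hpar none
  simp only [Int.ModEq] at h1 h2
  rw [signFlip_apply]
  split
  · next h =>
    have h3 : v p % 4 = 3 % 4 := (Finset.mem_filter.1 h).2
    omega
  · next h =>
    have h3 : ¬ v p % 4 = 3 % 4 := fun h' => h (Finset.mem_filter.2 ⟨Finset.mem_univ p, h'⟩)
    omega

theorem even_cases {v : GolayPt → ℤ} (hv : v ∈ leechLattice) (hev : ¬ v none % 2 = 1) :
    ∃ C, CodeSet C ∧ (∀ p ∈ C, v p % 4 = 2) ∧ ∀ p ∉ C, v p % 4 = 0 := by
  obtain ⟨m, hpar, -, hcode⟩ := mem_leechLattice_iff.1 hv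
  refine ⟨_, hcode 2, fun p hp => ?_, fun p hp => ?_⟩
  · have hp' : v p ≡ 2 [ZMOD 4] := (Finset.mem_filter.1 hp).2
    simpa [Int.ModEq] using hp'
  · have hp' : ¬ v p ≡ 2 [ZMOD 4] := fun h => hp (Finset.mem_filter.2 ⟨Finset.mem_univ p, h⟩)
    have h1 := hpar p
    have h2 := hpar none
    simp only [Int.ModEq] at h1 h2 hp'
    omega

theorem sqNorm_split (v : GolayPt → ℤ) (C : Finset GolayPt) :
    sqNorm v = ∑ p ∈ C, v p ^ 2 + ∑ p ∈ Cᶜ, v p ^ 2 := (Finset.sum_add_sum_compl C _).symm

theorem sum_sq_sub_one (v : GolayPt → ℤ) : ∑ p, (v p ^ 2 - 1) = sqNorm v - 24 := by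
  rw [Finset.sum_sub_distrib, sqNorm]; simp [card_golayPt]

theorem exists_octad_through (p : GolayPt) : ∃ o ∈ octads, p ∈ o := by
  obtain ⟨s, hsp, -, hs⟩ := Finset.exists_subsuperset_card_eq (n := 5) (Finset.subset_univ ({p} : Finset GolayPt))
    (by simp) (by simp [card_golayPt])
  obtain ⟨g, hg, hsub⟩ := exists_octad_map s hs
  exact ⟨_, octads_smul hg baseOctad_mem, hsub (hsp (Finset.mem_singleton_self p))⟩

/-- Every minimal vector is orthogonal to another one. -/
theorem exists_orth32 {v : GolayPt → ℤ} (hv : v ∈ leechLattice) (hn : sqNorm v = 32) :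
    ∃ w ∈ leechLattice, sqNorm w = 32 ∧ dotInt v w = 0 := by
  classical
  by_cases hodd : v none % 2 = 1
  · obtain ⟨D, hD, h1⟩ := exists_normal_odd hv hodd
    set u := signFlip D v with hu
    have hun : sqNorm u = 32 := by rw [hu, sqNorm_signFlip, hn]
    have hval : ∀ p, u p = 1 ∨ u p = -3 := fun p => by
      have h := abs_le_of_sqNorm hun.le p
      have := h1 p
      have : -5 ≤ u p ∧ u p ≤ 5 := by constructor <;> nlinarith
      rcases (by omega : u p = 1 ∨ u p = -3 ∨ u p = 5) with h' | h' | h'
      · exact Or.inl h'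
      · exact Or.inr h'
      · exfalso
        have hle : ∑ q, (if q = p then (24 : ℤ) else 0) ≤ ∑ q, (u q ^ 2 - 1) := by
          refine Finset.sum_le_sum fun q _ => ?_
          split
          · subst q; rw [h']; norm_num
          · have := h1 q
            rcases (by omega : 1 ≤ u q ∨ u q ≤ -1) with h | h <;> nlinarith
        rw [sum_sq_sub_one, hun, Finset.sum_ite_eq', if_pos (Finset.mem_univ p)] at hle
        omega
    set P := Finset.univ.filter fun p => u p = -3 with hP
    have hsum : ∑ p, (u p ^ 2 - 1) = 8 * (P.card : ℤ) := by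
      rw [hP, Finset.card_filter, Nat.cast_sum, Finset.mul_sum]
      refine Finset.sum_congr rfl fun p _ => ?_
      rcases hval p with h | h <;> simp [h]
    rw [sum_sq_sub_one, hun] at hsum
    obtain ⟨p, hp⟩ := Finset.card_eq_one.1 (show P.card = 1 by omega)
    obtain ⟨o, ho, hpo⟩ := exists_octad_through p
    have ho8 : o.card = 8 := ho.2
    obtain ⟨E, hE, hE2⟩ := Finset.exists_subset_card_eq (s := o.erase p) (n := 2)
      (by rw [Finset.card_erase_of_mem hpo, ho8]; omega)
    let w : GolayPt → ℤ := fun q => 2 * indi o q + 4 * (-indi E q)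
    have hw : w ∈ leechLattice := two_code_mem_leech ho.1 _ (by
      rw [Finset.sum_neg_distrib, sum_indi, hE2]; norm_num)
    have hEo : ∀ q ∈ E, q ∈ o ∧ q ≠ p := fun q hq =>
      ⟨Finset.mem_of_mem_erase (hE hq), (Finset.mem_erase.1 (hE hq)).1⟩
    refine ⟨signFlip D w, signFlip_mem hD hw, ?_, ?_⟩
    · rw [sqNorm_signFlip]
      have : sqNorm w = 4 * (o.card : ℤ) := by
        rw [← sum_indi o, Finset.mul_sum]
        refine Finset.sum_congr rfl fun q _ => ?_
        simp only [w, indi]
        by_cases hq : q ∈ E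
        · simp [hq, (hEo q hq).1]
        · by_cases hq' : q ∈ o <;> simp [hq, hq']
      rw [this, ho8]; norm_num
    · rw [show v = signFlip D u from (signFlip_involutive D v).symm, dotInt_signFlip]
      have e : ∀ q, u q * w q = 2 * indi o q - 4 * indi E q - 8 * indi {p} q := fun q => by
        simp only [w, indi, Finset.mem_singleton]
        have hq3 : u q = -3 ↔ q = p := by
          have h' := Finset.ext_iff.1 hp q
          simpa [hP] using h'
        by_cases hqp : q = p
        · subst q
          have hpE : p ∉ E := fun h => (hEo p h).2 rfl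
          rw [hq3.2 rfl]; simp [hpo, hpE]
        · have hu1 : u q = 1 := (hval q).resolve_right fun h => hqp (hq3.1 h)
          rw [hu1]; simp [hqp]; ring
      rw [dotInt, Finset.sum_congr rfl fun q _ => e q, Finset.sum_sub_distrib, Finset.sum_sub_distrib,
        ← Finset.mul_sum, ← Finset.mul_sum, ← Finset.mul_sum, sum_indi, sum_indi, sum_indi, ho8, hE2,
        Finset.card_singleton]
      norm_num
  · obtain ⟨C, hC, hin, hout⟩ := even_cases hv hodd
    have h4 : ∀ p ∈ C, 4 ≤ v p ^ 2 := fun p hp => by
      have := hin p hp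
      rcases (by omega : 2 ≤ v p ∨ v p ≤ -2) with h | h <;> nlinarith
    by_cases hC0 : C = ∅
    · -- four at two places
      obtain ⟨p, hp⟩ : ∃ p, v p ≠ 0 := by
        by_contra h
        push Not at h
        rw [show v = 0 from funext h] at hn
        simp [sqNorm] at hn
      have h4p : v p % 4 = 0 := hout p (by simp [hC0])
      have h16 : v p ^ 2 = 16 := by
        have hle := abs_le_of_sqNorm hn.le p
        have : -5 ≤ v p ∧ v p ≤ 5 := by constructor <;> nlinarith
        rcases (by omega : v p = 4 ∨ v p = -4) with h | h <;> rw [h] <;> norm_num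
      have hd : (8 : ℤ) ∣ -2 * v p := by omega
      refine ⟨v + Pi.single p (-2 * v p),
        add_mem hv (show Pi.single p (-2 * v p) ∈ leechLattice from (axisVec p _ hd).2), ?_, ?_⟩
      · rw [sqNorm_add, sqNorm_single, dotInt_single, hn]; linarith
      · have e : dotInt v (v + Pi.single p (-2 * v p)) = sqNorm v + dotInt v (Pi.single p (-2 * v p)) := by
          simp only [dotInt, sqNorm, ← Finset.sum_add_distrib, Pi.add_apply]
          exact Finset.sum_congr rfl fun q _ => by ring
        rw [e, dotInt_single, hn]; linarith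
    · have h8 := eight_le_card hC (Finset.nonempty_iff_ne_empty.2 hC0)
      have hlo : (C.card : ℤ) * 4 ≤ ∑ p ∈ C, v p ^ 2 := by
        simpa using Finset.card_nsmul_le_sum C (fun p => v p ^ 2) 4 h4
      have hsp := sqNorm_split v C
      have hnn : 0 ≤ ∑ p ∈ Cᶜ, v p ^ 2 := Finset.sum_nonneg fun p _ => sq_nonneg _
      obtain ⟨E, hE, hE4⟩ := Finset.exists_subset_card_eq (s := C) (n := 4) (by omega)
      have hval : ∀ p ∈ E, v p = 2 ∨ v p = -2 := fun p hp => by
        have hpC := hE hp
        have h2 := Finset.add_sum_erase C (fun p => v p ^ 2) hpC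
        have h7 : ((C.erase p).card : ℤ) * 4 ≤ ∑ q ∈ C.erase p, v q ^ 2 := by
          simpa using Finset.card_nsmul_le_sum (C.erase p) (fun q => v q ^ 2) 4
            fun q hq => h4 q (Finset.mem_of_mem_erase hq)
        rw [Finset.card_erase_of_mem hpC] at h7
        have hle : v p ^ 2 ≤ 4 := by omega
        have : -3 ≤ v p ∧ v p ≤ 3 := by constructor <;> nlinarith
        have := hin p hpC
        omega
      let d : GolayPt → ℤ := fun p => if p ∈ E then v p / 2 else 0
      have hd2 : (2 : ℤ) ∣ ∑ p, d p := by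
        simp only [d, Finset.sum_ite_mem, Finset.univ_inter]
        have : ((∑ p ∈ E, v p / 2 : ℤ) : ZMod 2) = (E.card : ZMod 2) := by
          rw [Int.cast_sum, Finset.cast_card]
          refine Finset.sum_congr rfl fun p hp => ?_
          rcases hval p hp with h | h <;> simp [h]
        rw [hE4] at this
        exact (ZMod.intCast_zmod_eq_zero_iff_dvd _ 2).1 (this.trans (by decide))
      refine ⟨v - fun p => 4 * d p, sub_mem hv (four_mul_mem_leech d hd2), ?_, ?_⟩
      · rw [← hn]
        refine Finset.sum_congr rfl fun p _ => ?_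
        simp only [Pi.sub_apply, d]
        by_cases hp : p ∈ E
        · rcases hval p hp with h | h <;> simp [hp, h]
        · simp [hp]
      · have e : ∀ p, v p * (v - fun p => 4 * d p) p = v p ^ 2 - 8 * indi E p := fun p => by
          simp only [Pi.sub_apply, d, indi]
          by_cases hp : p ∈ E
          · rcases hval p hp with h | h <;> simp [hp, h]
          · simp [hp]; ring
        rw [dotInt, Finset.sum_congr rfl fun p _ => e p, Finset.sum_sub_distrib, ← Finset.mul_sum,
          sum_indi, hE4]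
        rw [sqNorm] at hn
        omega

/-- An element of a cross as an element of the standard one after moving. -/
theorem exists_smul_single {x : leechLattice} (hx : sqNorm (x : GolayPt → ℤ) = 64) :
    ∃ g : Co0, ∀ y : leechLattice, sqNorm (y : GolayPt → ℤ) = 64 → x - y ∈ twoMul leechLattice →
      ∃ (p : GolayPt) (t : ℤ), (t = 8 ∨ t = -8) ∧
        ((g • y : leechLattice) : GolayPt → ℤ) = Pi.single p t := by
  obtain ⟨g, hg⟩ := exists_to_std (v := x) (inner_self_of_norm (by rw [hx]; norm_num))
  exact ⟨g, fun y hy hxy => (hg y).1 ⟨inner_self_of_norm (by rw [hy]; norm_num), hxy⟩⟩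

/-- The base minimal vector. -/
def base32 : GolayPt → ℤ := fun p => if p = pt 0 ∨ p = pt 1 then 4 else 0

theorem pair_signs : ∀ b c : Bool, ∃ n ∈ [0, 16777215, 13062145, 4845570],
    n ∈ golayList ∧ n.testBit 0 = b ∧ n.testBit 1 = c := by
  have h : ∀ b c : Bool, ∃ n ∈ [0, 16777215, 13062145, 4845570],
      inCode n = true ∧ n.testBit 0 = b ∧ n.testBit 1 = c := by decide +kernel
  intro b c
  obtain ⟨n, hn, h1, h2⟩ := h b c
  exact ⟨n, hn, mem_golayList_of_inCode h1, h2⟩

/-- Every minimal vector is an image of the base one. -/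
theorem exists_smul_eq_base32 {v : leechLattice} (hv : sqNorm (v : GolayPt → ℤ) = 32) :
    ∃ g : Co0, ((g • v : leechLattice) : GolayPt → ℤ) = base32 := by
  obtain ⟨w, hw, hwn, hwd⟩ := exists_orth32 v.2 hv
  let W : leechLattice := ⟨w, hw⟩
  have hP : sqNorm ((v + W : leechLattice) : GolayPt → ℤ) = 64 := by
    rw [AddSubgroup.coe_add, sqNorm_add, hv, hwn, hwd]; norm_num
  have hM : sqNorm ((v - W : leechLattice) : GolayPt → ℤ) = 64 := by
    rw [AddSubgroup.coe_sub, sqNorm_sub, hv, hwn, hwd]; norm_num
  have hc : (v + W) - (v - W) ∈ twoMul leechLattice := ⟨W, by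
    rw [zsmulAddGroupHom_apply, two_zsmul]; abel⟩
  obtain ⟨g, hg⟩ := exists_smul_single hP
  obtain ⟨p, s, hs, hps⟩ := hg _ hP (by rw [sub_self]; exact zero_mem _)
  obtain ⟨q, t, ht, hqt⟩ := hg _ hM hc
  have hne : p ≠ q := by
    rintro rfl
    have h := dot_smul_co g (v + W) (v - W)
    rw [hps, hqt, dotInt_single, Pi.single_eq_same, AddSubgroup.coe_add, AddSubgroup.coe_sub] at h
    have e : dotInt ((v : GolayPt → ℤ) + w) ((v : GolayPt → ℤ) - w) =
        sqNorm (v : GolayPt → ℤ) - sqNorm w := by
      simp only [dotInt, sqNorm, ← Finset.sum_sub_distrib, Pi.add_apply, Pi.sub_apply]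
      exact Finset.sum_congr rfl fun i _ => by ring
    rw [e, hv, hwn] at h
    rcases hs with rfl | rfl <;> rcases ht with rfl | rfl <;> norm_num at h
  obtain ⟨σ, hσ, hσp, hσq⟩ := M24_map_two hne (c := pt 0) (d := pt 1) (by decide +kernel)
  obtain ⟨n, -, hn, hb, hc'⟩ := pair_signs (decide (s = -8)) (decide (t = -8))
  have hcs : CodeSet (toSet n) := mem_supports.2 ⟨n, hn, rfl⟩
  refine ⟨monoAut σ hσ _ hcs * g, funext fun i => ?_⟩
  have h2 : (g • (v + W)) + g • (v - W) = (2 : ℤ) • (g • v) := by
    rw [← smul_add', ← smul_zsmul']; congr 1; rw [two_zsmul]; abel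
  have h3 := congrFun (congrArg (fun u : leechLattice => (u : GolayPt → ℤ)) h2) (σ.symm i)
  simp only [AddSubgroup.coe_add, hps, hqt, AddSubgroup.coe_zsmul, Pi.add_apply, Pi.smul_apply,
    smul_eq_mul] at h3
  rw [mul_smul, coe_monoAut_smul]
  simp only [signedPerm, base32]
  have hne01 : (pt 0 : GolayPt) ≠ pt 1 := by decide +kernel
  by_cases h0 : i = pt 0
  · subst h0
    have e : σ.symm (pt 0) = p := by rw [← hσp, Equiv.symm_apply_apply]
    rw [e, Pi.single_eq_same, Pi.single_eq_of_ne hne] at h3
    rw [e, if_pos (Or.inl rfl)]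
    have hm : pt 0 ∈ toSet n ↔ s = -8 := by rw [pt_mem_toSet (by omega), hb, decide_eq_true_eq]
    by_cases hh : pt 0 ∈ toSet n
    · rw [if_pos hh]; have := hm.1 hh; omega
    · rw [if_neg hh]; have := mt hm.2 hh; omega
  · by_cases h1 : i = pt 1
    · subst h1
      have e : σ.symm (pt 1) = q := by rw [← hσq, Equiv.symm_apply_apply]
      rw [e, Pi.single_eq_same, Pi.single_eq_of_ne hne.symm] at h3
      rw [e, if_pos (Or.inr rfl)]
      have hm : pt 1 ∈ toSet n ↔ t = -8 := by rw [pt_mem_toSet (by omega), hc', decide_eq_true_eq]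
      by_cases hh : pt 1 ∈ toSet n
      · rw [if_pos hh]; have := hm.1 hh; omega
      · rw [if_neg hh]; have := mt hm.2 hh; omega
    · have n1 : σ.symm i ≠ p := fun h => h0 (by rw [← hσp, ← h, Equiv.apply_symm_apply])
      have n2 : σ.symm i ≠ q := fun h => h1 (by rw [← hσq, ← h, Equiv.apply_symm_apply])
      rw [Pi.single_eq_of_ne n1, Pi.single_eq_of_ne n2] at h3
      rw [if_neg (not_or.2 ⟨h0, h1⟩)]
      split <;> omega

theorem exists_smul_eq32 {v w : leechLattice} (hv : sqNorm (v : GolayPt → ℤ) = 32)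
    (hw : sqNorm (w : GolayPt → ℤ) = 32) : ∃ g : Co0, g • v = w := by
  obtain ⟨a, ha⟩ := exists_smul_eq_base32 hv
  obtain ⟨b, hb⟩ := exists_smul_eq_base32 hw
  exact ⟨b⁻¹ * a, by rw [mul_smul, show a • v = b • w from Subtype.ext (ha.trans hb.symm), inv_smul_smul]⟩

/-- Every vector of squared length 48 has inner product 32 with one of squared length 64. -/
theorem exists_dot32 {v : GolayPt → ℤ} (hv : v ∈ leechLattice) (hn : sqNorm v = 48) :
    ∃ x ∈ leechLattice, sqNorm x = 64 ∧ dotInt v x = 32 := by
  classical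
  have four : ∀ (T : Finset GolayPt) (d : GolayPt → ℤ), T.card = 4 → (∀ p ∈ T, d p = 1 ∨ d p = -1) →
      ∑ p ∈ T, v p * d p = 8 → ∃ x ∈ leechLattice, sqNorm x = 64 ∧ dotInt v x = 32 := by
    intro T d hT hd hdot
    have h2 : (2 : ℤ) ∣ ∑ p, (if p ∈ T then d p else 0) := by
      rw [Finset.sum_ite_mem, Finset.univ_inter]
      have : ((∑ p ∈ T, d p : ℤ) : ZMod 2) = (T.card : ZMod 2) := by
        rw [Int.cast_sum, Finset.cast_card]
        exact Finset.sum_congr rfl fun p hp => by rcases hd p hp with h | h <;> simp [h]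
      rw [hT] at this
      exact (ZMod.intCast_zmod_eq_zero_iff_dvd _ 2).1 (this.trans (by decide))
    refine ⟨_, four_mul_mem_leech _ h2, ?_, ?_⟩
    · have e : ∀ p, (4 * (if p ∈ T then d p else 0)) ^ 2 = 16 * indi T p := fun p => by
        by_cases hp : p ∈ T
        · rcases hd p hp with h | h <;> simp [indi, hp, h]
        · simp [indi, hp]
      rw [sqNorm, Finset.sum_congr rfl fun p _ => e p, ← Finset.mul_sum, sum_indi, hT]; norm_num
    · rw [dotInt, ← Finset.sum_subset (Finset.subset_univ T) (fun p _ hp => by simp [hp]),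
        show (32 : ℤ) = 4 * 8 by norm_num, ← hdot, Finset.mul_sum]
      exact Finset.sum_congr rfl fun p hp => by rw [if_pos hp]; ring
  by_cases hodd : v none % 2 = 1
  · obtain ⟨D, hD, h1⟩ := exists_normal_odd hv hodd
    set u := signFlip D v with hu
    have hun : sqNorm u = 48 := by rw [hu, sqNorm_signFlip, hn]
    have hval : ∀ p, u p = 1 ∨ u p = -3 ∨ u p = 5 := fun p => by
      have h := abs_le_of_sqNorm hun.le p
      have := h1 p
      have : -6 ≤ u p ∧ u p ≤ 6 := by constructor <;> nlinarith
      omega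
    let sg : GolayPt → ℤ := fun p => if p ∈ D then -1 else 1
    have hvu : ∀ p, v p = sg p * u p := fun p => by
      simp only [sg, hu, signFlip_apply]; split <;> ring
    have conv : ∀ (T : Finset GolayPt) (d : GolayPt → ℤ), T.card = 4 →
        (∀ p ∈ T, d p = 1 ∨ d p = -1) → ∑ p ∈ T, u p * d p = 8 →
        ∃ x ∈ leechLattice, sqNorm x = 64 ∧ dotInt v x = 32 := fun T d hT hd hdot =>
      four T (fun p => sg p * d p) hT
        (fun p hp => by rcases hd p hp with h | h <;> simp only [sg] <;> split <;> simp [h])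
        (hdot ▸ Finset.sum_congr rfl fun p _ => by rw [hvu]; simp only [sg]; split <;> ring)
    have hsum := sum_sq_sub_one u
    rw [hun] at hsum
    by_cases h5 : ∃ a, u a = 5
    · obtain ⟨a, ha⟩ := h5
      have hone : ∀ q, q ≠ a → u q = 1 := fun q hq => by
        by_contra hne
        have hle : ∑ r ∈ ({a, q} : Finset GolayPt), (u r ^ 2 - 1) ≤ 24 :=
          (Finset.sum_le_sum_of_subset_of_nonneg (Finset.subset_univ _) fun r _ _ => by
            rcases hval r with h | h | h <;> simp [h]).trans (by rw [hsum]; norm_num)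
        rw [Finset.sum_pair hq.symm, ha] at hle
        rcases hval q with h | h | h
        · exact hne h
        · rw [h] at hle; norm_num at hle
        · rw [h] at hle; norm_num at hle
      obtain ⟨T, hT1, -, hT⟩ := Finset.exists_subsuperset_card_eq (n := 4)
        (Finset.subset_univ ({a} : Finset GolayPt)) (by simp) (by simp [card_golayPt])
      have haT : a ∈ T := hT1 (Finset.mem_singleton_self a)
      refine conv T (fun _ => 1) hT (fun _ _ => Or.inl rfl) ?_
      rw [← Finset.add_sum_erase T _ haT, ha,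
        Finset.sum_congr rfl (g := fun _ => (1 : ℤ)) fun q hq => by rw [hone q (Finset.mem_erase.1 hq).1]; rfl]
      simp [Finset.card_erase_of_mem haT, hT]
    · push Not at h5
      set P := Finset.univ.filter fun p => u p = -3 with hP
      have hs : ∑ p, (u p ^ 2 - 1) = 8 * (P.card : ℤ) := by
        rw [hP, Finset.card_filter, Nat.cast_sum, Finset.mul_sum]
        refine Finset.sum_congr rfl fun p _ => ?_
        rcases hval p with h | h | h
        · simp [h]
        · simp [h]
        · exact absurd h (h5 p)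
      have hP3 : P.card = 3 := by omega
      obtain ⟨a, ha⟩ : ∃ a, a ∉ P := by
        by_contra h
        push Not at h
        rw [Finset.eq_univ_of_forall h, Finset.card_univ, card_golayPt] at hP3
        omega
      have ha1 : u a = 1 := by
        rcases hval a with h | h | h
        · exact h
        · exact absurd (Finset.mem_filter.2 ⟨Finset.mem_univ a, h⟩) ha
        · exact absurd h (h5 a)
      refine conv (insert a P) (fun _ => -1) (by rw [Finset.card_insert_of_notMem ha, hP3])
        (fun _ _ => Or.inr rfl) ?_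
      rw [Finset.sum_insert ha, ha1,
        Finset.sum_congr rfl (g := fun _ => (3 : ℤ)) fun q hq => by rw [(Finset.mem_filter.1 hq).2]; rfl]
      simp [hP3]
  · obtain ⟨C, hC, hin, hout⟩ := even_cases hv hodd
    by_cases h4 : ∃ a, v a = 4 ∨ v a = -4
    · obtain ⟨a, ha⟩ := h4
      refine ⟨Pi.single a (2 * v a), (axisVec a _ (by omega)).2, ?_, ?_⟩
      · rw [sqNorm_single]; rcases ha with h | h <;> rw [h] <;> norm_num
      · rw [dotInt_single]; rcases ha with h | h <;> rw [h] <;> norm_num
    · push Not at h4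
      have hzero : ∀ p ∉ C, v p = 0 := fun p hp => by
        have := hout p hp
        have h := abs_le_of_sqNorm hn.le p
        have : -6 ≤ v p ∧ v p ≤ 6 := by constructor <;> nlinarith
        have := h4 p
        omega
      have hCn : ∑ p ∈ C, v p ^ 2 = 48 := by
        rw [← hn]
        exact Finset.sum_subset (Finset.subset_univ C) fun p _ hp => by rw [hzero p hp]; norm_num
      have hne : C.Nonempty := by
        by_contra h
        rw [Finset.not_nonempty_iff_eq_empty.1 h] at hCn
        simp at hCn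
      have h8 := eight_le_card hC hne
      have hval : ∀ p ∈ C, v p = 2 ∨ v p = -2 := fun p hp => by
        have := hin p hp
        have hlo : ((C.erase p).card : ℤ) * 4 ≤ ∑ q ∈ C.erase p, v q ^ 2 := by
          simpa using Finset.card_nsmul_le_sum (C.erase p) (fun q => v q ^ 2) 4 fun q hq => by
            have := hin q (Finset.mem_of_mem_erase hq)
            rcases (by omega : 2 ≤ v q ∨ v q ≤ -2) with h | h <;> nlinarith
        have h2 := Finset.add_sum_erase C (fun q => v q ^ 2) hp
        rw [Finset.card_erase_of_mem hp] at hlo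
        have hle : v p ^ 2 ≤ 20 := by omega
        have : -4 ≤ v p ∧ v p ≤ 4 := by constructor <;> nlinarith
        omega
      obtain ⟨T, hT, hT4⟩ := Finset.exists_subset_card_eq (s := C) (n := 4) (by omega)
      refine four T (fun p => v p / 2) hT4
        (fun p hp => by rcases hval p (hT hp) with h | h <;> simp [h]) ?_
      rw [Finset.sum_congr rfl (g := fun _ => (2 : ℤ)) fun p hp => by
        rcases hval p (hT hp) with h | h <;> simp [h]]
      simp [hT4]

/-- The base vector of squared length 48. -/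
def base48 : GolayPt → ℤ := fun p =>
  if p = pt 5 then 4 else if p = pt 0 then -2 else if baseOctad.testBit (ptEquiv p).val then 2 else 0

theorem exists_map_octad_point {o : Finset GolayPt} (ho : o ∈ octads) {a : GolayPt} (ha : a ∉ o) :
    ∃ g ∈ M24, g • toSet baseOctad = o ∧ g (pt 5) = a := by
  obtain ⟨g, hg, rfl⟩ := octads_transitive ho
  have hreps : RepsMem ptEquiv M24 [lastLevel] :=
    chainCheck_reps _ _ lastLevel_check m24ChainGens_mem
  obtain ⟨hT, himg, -⟩ := level_facts ptEquiv M24 (chainCheck_ok lastLevel_check) hreps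
  obtain ⟨hb, himgs, -⟩ := lastLevel_facts
  have h5 : (ptEquiv (pt 5)).val = lastLevel.base := by rw [hb, ptEquiv_pt (by omega)]
  have hout : (ptEquiv (g⁻¹ a)).val ∈ lastLevel.imgs := by
    refine himgs _ (ptEquiv _).isLt ?_
    rw [Bool.eq_false_iff]
    intro h
    refine ha ?_
    have := Finset.smul_mem_smul_finset (a := g) (mem_toSet.2 h)
    simpa using this
  rw [← himg (pt 5) h5] at hout
  obtain ⟨t, ht, hte⟩ := List.mem_map.1 hout
  have htp : t (pt 5) = g⁻¹ a := ptEquiv.injective (Fin.ext hte)
  refine ⟨g * t, mul_mem hg (hT t ht).1, ?_, ?_⟩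
  · rw [mul_smul, invOn_baseOctad M24 le_rfl t (hT t ht).1 fun q hq => (hT t ht).2 q (by
      simp only [List.mem_cons, List.not_mem_nil, or_false] at hq ⊢; omega)]
  · rw [Equiv.Perm.mul_apply, htp]; simp

/-- The code induces all sign changes that are even on the base octad. -/
theorem exists_code_restrict (E : Finset GolayPt) (hE : E ⊆ insert (pt 5) (toSet baseOctad))
    (hev : 2 ∣ (E ∩ toSet baseOctad).card) :
    ∃ c, CodeSet c ∧ c ∩ insert (pt 5) (toSet baseOctad) = E := by
  classical
  set U := insert (pt 5) (toSet baseOctad) with hU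
  have hwit : (∀ x ∈ toSet baseOctad, x ≠ pt 0 →
      ∃ n ∈ [9347075, 1302533, 11100169, 6053905, 14254209, 7767041, 13062145],
        inCode n = true ∧ toSet n ∩ U = {pt 0, x}) ∧
      inCode 11952160 = true ∧ toSet 11952160 ∩ U = {pt 5} := by
    rw [hU]; decide +kernel
  have h5 : pt 5 ∉ toSet baseOctad := by decide +kernel
  have code : ∀ n, inCode n = true → CodeSet (toSet n) := fun n h =>
    mem_supports.2 ⟨n, mem_golayList_of_inCode h, rfl⟩
  let R : Finset GolayPt → Prop := fun S => ∃ c, CodeSet c ∧ c ∩ U = S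
  have hadd : ∀ {S T}, R S → R T → R (S ∆ T) := by
    rintro S T ⟨c, hc, rfl⟩ ⟨c', hc', rfl⟩
    exact ⟨c ∆ c', codeSet_symmDiff hc hc', inf_symmDiff_distrib_right c c' U⟩
  have hzero : R ∅ := ⟨∅, codeSet_empty, Finset.empty_inter _⟩
  have hpair : ∀ x ∈ toSet baseOctad, ∀ y ∈ toSet baseOctad, x ≠ y → R {x, y} := by
    intro x hx y hy hxy
    have one : ∀ z ∈ toSet baseOctad, z ≠ pt 0 → R {pt 0, z} := fun z hz hz0 => by
      obtain ⟨n, -, hn, he⟩ := hwit.1 z hz hz0
      exact ⟨_, code n hn, he⟩
    rcases eq_or_ne x (pt 0) with rfl | hx0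
    · exact one y hy hxy.symm
    rcases eq_or_ne y (pt 0) with rfl | hy0
    · rw [Finset.pair_comm]; exact one x hx hx0
    convert hadd (one x hx hx0) (one y hy hy0) using 1
    ext z
    simp only [Finset.mem_insert, Finset.mem_singleton, Finset.mem_symmDiff]
    constructor
    · rintro (rfl | rfl)
      · exact Or.inl ⟨Or.inr rfl, not_or.2 ⟨hx0, hxy⟩⟩
      · exact Or.inr ⟨Or.inr rfl, not_or.2 ⟨hy0, hxy.symm⟩⟩
    · rintro (⟨h1, h2⟩ | ⟨h1, h2⟩) <;> push Not at h2 <;> tauto
  have hbase : ∀ n, ∀ S : Finset GolayPt, S.card = 2 * n → S ⊆ toSet baseOctad → R S := by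
    intro n
    induction n with
    | zero => intro S hS _; rwa [Finset.card_eq_zero.1 (by omega : S.card = 0)]
    | succ n ih =>
      intro S hS hsub
      obtain ⟨x, hx⟩ := Finset.card_pos.1 (by omega : 0 < S.card)
      obtain ⟨y, hy⟩ := Finset.card_pos.1 (by rw [Finset.card_erase_of_mem hx]; omega : 0 < (S.erase x).card)
      have hrec := ih ((S.erase x).erase y)
        (by rw [Finset.card_erase_of_mem hy, Finset.card_erase_of_mem hx]; omega)
        (((Finset.erase_subset _ _).trans (Finset.erase_subset _ _)).trans hsub)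
      have hyS := Finset.mem_of_mem_erase hy
      convert hadd (hpair x (hsub hx) y (hsub hyS) (Finset.mem_erase.1 hy).1.symm) hrec using 1
      ext z
      simp only [Finset.mem_symmDiff, Finset.mem_insert, Finset.mem_singleton, Finset.mem_erase]
      by_cases hzx : z = x
      · subst hzx; simp [hx]
      · by_cases hzy : z = y
        · subst hzy; simp [hyS]
        · simp [hzx, hzy]
  obtain ⟨k, hk⟩ := hev
  have h1 := hbase k _ hk Finset.inter_subset_right
  by_cases ha : pt 5 ∈ E
  · obtain ⟨c, hc, hcU⟩ := hadd h1 ⟨_, code _ hwit.2.1, hwit.2.2⟩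
    refine ⟨c, hc, hcU.trans ?_⟩
    ext z
    simp only [Finset.mem_symmDiff, Finset.mem_inter, Finset.mem_singleton]
    constructor
    · rintro (⟨⟨h, -⟩, -⟩ | ⟨rfl, -⟩) <;> assumption
    · intro hz
      by_cases hz5 : z = pt 5
      · exact Or.inr ⟨hz5, fun h => h5 (hz5 ▸ h.2)⟩
      · exact Or.inl ⟨⟨hz, (Finset.mem_insert.1 (hE hz)).resolve_left hz5⟩, hz5⟩
  · obtain ⟨c, hc, hcU⟩ := h1
    refine ⟨c, hc, hcU.trans (Finset.inter_eq_left.2 fun z hz => ?_)⟩
    exact (Finset.mem_insert.1 (hE hz)).resolve_left fun h => ha (h ▸ hz)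

/-- Every vector of squared length 48 is an image of the base one. -/
theorem exists_smul_eq_base48 {v : leechLattice} (hv : sqNorm (v : GolayPt → ℤ) = 48) :
    ∃ g : Co0, ((g • v : leechLattice) : GolayPt → ℤ) = base48 := by
  classical
  obtain ⟨x, hx, hxn, hxd⟩ := exists_dot32 v.2 hv
  obtain ⟨g, hg⟩ := exists_smul_single (x := ⟨x, hx⟩) hxn
  obtain ⟨a, t, ht, hat⟩ := hg _ hxn (by rw [sub_self]; exact zero_mem _)
  set u := ((g • v : leechLattice) : GolayPt → ℤ) with hu
  have hun : sqNorm u = 48 := by rw [hu, sqNorm_smul_co, hv]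
  have hua : u a = 4 ∨ u a = -4 := by
    have h := dot_smul_co g v ⟨x, hx⟩
    rw [hat, ← hu, dotInt_single] at h
    change u a * t = dotInt (v : GolayPt → ℤ) x at h
    rw [hxd] at h
    rcases ht with rfl | rfl <;> omega
  have hua2 : u a ^ 2 = 16 := by rcases hua with h | h <;> rw [h] <;> norm_num
  obtain ⟨m, hpar, hsum, -⟩ := mem_leechLattice_iff.1 (g • v).2
  have hev : ¬ u none % 2 = 1 := by
    have h1 := hpar a
    have h2 := hpar none
    rw [← hu] at h1 h2
    simp only [Int.ModEq] at h1 h2
    omega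
  have hm : m % 2 = 0 := by
    have h1 := hpar a
    rw [← hu] at h1
    simp only [Int.ModEq] at h1
    omega
  obtain ⟨C, hC, hin, hout⟩ := even_cases (g • v).2 hev
  rw [← hu] at hin hout hsum
  have haC : a ∉ C := fun h => by have := hin a h; omega
  have hsp := sqNorm_split u C
  rw [hun, ← Finset.add_sum_erase Cᶜ (fun p => u p ^ 2) (Finset.mem_compl.2 haC)] at hsp
  have hnn : 0 ≤ ∑ p ∈ (Cᶜ : Finset GolayPt).erase a, u p ^ 2 := Finset.sum_nonneg fun p _ => sq_nonneg _
  have h4 : ∀ p ∈ C, 4 ≤ u p ^ 2 := fun p hp => by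
    have := hin p hp
    rcases (by omega : 2 ≤ u p ∨ u p ≤ -2) with h | h <;> nlinarith
  have hlo : (C.card : ℤ) * 4 ≤ ∑ p ∈ C, u p ^ 2 := by
    simpa using Finset.card_nsmul_le_sum C (fun p => u p ^ 2) 4 h4
  have hne : C.Nonempty := by
    -- otherwise there would be three coordinates ±4
    by_contra h
    rw [Finset.not_nonempty_iff_eq_empty] at h
    subst h
    have hz : ∀ p, ∃ z, u p = 4 * z ∧ (z = -1 ∨ z = 0 ∨ z = 1) := fun p => by
      have := hout p (Finset.notMem_empty p)
      have h := abs_le_of_sqNorm hun.le p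
      have : -6 ≤ u p ∧ u p ≤ 6 := by constructor <;> nlinarith
      exact ⟨u p / 4, by omega, by omega⟩
    choose z hz hz1 using hz
    have e1 : ∑ p, u p = 4 * ∑ p, z p := by
      rw [Finset.mul_sum]; exact Finset.sum_congr rfl fun p _ => hz p
    have e2 : sqNorm u = 16 * ∑ p, z p ^ 2 := by
      rw [Finset.mul_sum]; exact Finset.sum_congr rfl fun p _ => by rw [hz p]; ring
    have e3 : ((∑ p, z p ^ 2 : ℤ) : ZMod 2) = ((∑ p, z p : ℤ) : ZMod 2) := by
      push_cast
      refine Finset.sum_congr rfl fun p _ => ?_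
      rcases hz1 p with h | h | h <;> simp [h]
    rw [(ZMod.intCast_zmod_eq_zero_iff_dvd (∑ p, z p) 2).2 (by
      rw [e1] at hsum; simp only [Int.ModEq] at hsum; omega),
      ZMod.intCast_zmod_eq_zero_iff_dvd] at e3
    omega
  have h8 := eight_le_card hC hne
  have hC8 : C.card = 8 := by omega
  have hrest : ∀ p ∉ C, p ≠ a → u p = 0 := fun p hp hpa => by
    have := (Finset.sum_eq_zero_iff_of_nonneg fun q _ => sq_nonneg (u q)).1 (by omega :
      ∑ q ∈ (Cᶜ : Finset GolayPt).erase a, u q ^ 2 = 0) p
      (Finset.mem_erase.2 ⟨hpa, Finset.mem_compl.2 hp⟩)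
    simpa using this
  have hval : ∀ p ∈ C, u p = 2 ∨ u p = -2 := fun p hp => by
    have h2 := Finset.add_sum_erase C (fun q => u q ^ 2) hp
    have h7 : ((C.erase p).card : ℤ) * 4 ≤ ∑ q ∈ C.erase p, u q ^ 2 := by
      simpa using Finset.card_nsmul_le_sum (C.erase p) (fun q => u q ^ 2) 4
        fun q hq => h4 q (Finset.mem_of_mem_erase hq)
    rw [Finset.card_erase_of_mem hp, hC8] at h7
    have hle : u p ^ 2 ≤ 4 := by omega
    have : -3 ≤ u p ∧ u p ≤ 3 := by constructor <;> nlinarith
    have := hin p hp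
    omega
  obtain ⟨τ, hτ, hτC, hτ5⟩ := exists_map_octad_point (o := C) ⟨hC, hC8⟩ haC
  -- the vector read through `τ`
  set r : GolayPt → ℤ := fun q => u (τ q) with hr
  have hmem : ∀ q, τ q ∈ C ↔ q ∈ toSet baseOctad := fun q => by
    rw [← hτC, ← Equiv.Perm.smul_def, Finset.smul_mem_smul_finset_iff]
  have hr5 : r (pt 5) = 4 ∨ r (pt 5) = -4 := by rw [hr]; simp only [hτ5]; exact hua
  set N := Finset.univ.filter fun q => r q < 0 with hN
  have hp5 : pt 5 ∉ toSet baseOctad := by decide +kernel
  have hp0 : pt 0 ∈ toSet baseOctad := by decide +kernel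
  have hNsub : N ⊆ insert (pt 5) (toSet baseOctad) := fun q hq => by
    by_contra hno
    rw [Finset.mem_insert, not_or] at hno
    have h0 := hrest (τ q) (fun h => hno.2 ((hmem q).1 h)) (fun h => hno.1 (τ.injective (h.trans hτ5.symm)))
    simp [hN, hr, h0] at hq
  have hparity : ((N ∩ toSet baseOctad).card : ℤ) % 2 = 1 := by
    have hs : ∑ q, r q = r (pt 5) + ∑ q ∈ toSet baseOctad, r q := by
      rw [← Finset.sum_insert hp5]
      refine (Finset.sum_subset (Finset.subset_univ _) fun q _ hq => ?_).symm
      rw [Finset.mem_insert, not_or] at hq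
      exact hrest _ (fun h => hq.2 ((hmem q).1 h)) fun h => hq.1 (τ.injective (h.trans hτ5.symm))
    have hs' : ∑ q ∈ toSet baseOctad, r q = 16 - 4 * ((N ∩ toSet baseOctad).card : ℤ) := by
      rw [Finset.inter_comm, ← Finset.filter_mem_eq_inter, Finset.card_filter, Nat.cast_sum,
        Finset.mul_sum, show (16 : ℤ) = ∑ _q ∈ toSet baseOctad, (2 : ℤ) by
          rw [Finset.sum_const, card_toSet, show bitCount baseOctad = 8 by decide +kernel]; rfl,
        ← Finset.sum_sub_distrib]
      refine Finset.sum_congr rfl fun q hq => ?_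
      rcases hval (τ q) ((hmem q).2 hq) with h | h <;> simp [hN, hr, h]
    have hst : ∑ q, r q = ∑ p, u p := Equiv.sum_comp τ u
    simp only [Int.ModEq] at hsum
    omega
  obtain ⟨c, hc, hcU⟩ := exists_code_restrict (N ∆ {pt 0}) (by
      intro q hq
      rcases Finset.mem_symmDiff.1 hq with ⟨h, -⟩ | ⟨h, -⟩
      · exact hNsub h
      · rw [Finset.mem_singleton] at h; subst h; exact Finset.mem_insert_of_mem hp0) (by
      have e : (N ∆ {pt 0}) ∩ toSet baseOctad = (N ∩ toSet baseOctad) ∆ {pt 0} := by
        ext q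
        simp only [Finset.mem_inter, Finset.mem_symmDiff, Finset.mem_singleton]
        by_cases hq : q = pt 0
        · subst hq; simp [hp0]
        · simp [hq]
      rw [e]
      have := card_symmDiff_add (N ∩ toSet baseOctad) {pt 0}
      have hle : ((N ∩ toSet baseOctad) ∩ {pt 0}).card ≤ 1 :=
        (Finset.card_le_card Finset.inter_subset_right).trans (by simp)
      rw [Finset.card_singleton] at this
      omega)
  refine ⟨monoAut τ⁻¹ (inv_mem hτ) c hc * g, funext fun q => ?_⟩
  rw [mul_smul, coe_monoAut_smul, ← hu]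
  show (if q ∈ c then -r q else r q) = base48 q
  have hqU : q ∈ insert (pt 5) (toSet baseOctad) → (q ∈ c ↔ q ∈ N ∆ {pt 0}) := fun hq => by
    rw [← hcU, Finset.mem_inter]; simp [hq]
  by_cases h5 : q = pt 5
  · subst h5
    have h := hqU (Finset.mem_insert_self _ _)
    have hne0 : ¬ pt 5 = pt 0 := fun h => hp5 (h ▸ hp0)
    simp only [Finset.mem_symmDiff, Finset.mem_singleton, hne0, not_false_eq_true, and_true,
      false_and, or_false, hN, Finset.mem_filter, Finset.mem_univ, true_and] at h
    simp only [base48, if_true]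
    rcases hr5 with h' | h'
    · rw [if_neg (by rw [h, h']; norm_num), h']
    · rw [if_pos (by rw [h, h']; norm_num), h']; norm_num
  · by_cases hO : q ∈ toSet baseOctad
    · have h := hqU (Finset.mem_insert_of_mem hO)
      simp only [Finset.mem_symmDiff, Finset.mem_singleton, hN, Finset.mem_filter, Finset.mem_univ,
        true_and] at h
      simp only [base48, h5, if_false, mem_toSet.1 hO, if_true]
      by_cases h0 : q = pt 0
      · simp only [h0, if_true] at h ⊢
        rcases hval (τ q) ((hmem q).2 hO) with h' | h' <;>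
          (have hrq : r (pt 0) = _ := h0 ▸ h'
           by_cases hc' : pt 0 ∈ c <;> simp [hc', hrq] at h ⊢)
      · simp only [h0, if_false, not_false_eq_true, and_true, false_and, or_false] at h ⊢
        rcases hval (τ q) ((hmem q).2 hO) with h' | h' <;>
          (have hrq : r q = _ := h'
           by_cases hc' : q ∈ c <;> simp [hc', hrq] at h ⊢)
    · have h0 : r q = 0 := hrest _ (fun h => hO ((hmem q).1 h))
        fun h => h5 (τ.injective (h.trans hτ5.symm))
      have hq0 : q ≠ pt 0 := fun h => hO (h ▸ hp0)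
      simp only [base48, h5, if_false, hq0]
      rw [if_neg (show ¬ baseOctad.testBit (ptEquiv q).val = true from fun h => hO (mem_toSet.2 h)), h0]
      simp

theorem exists_smul_eq48 {v w : leechLattice} (hv : sqNorm (v : GolayPt → ℤ) = 48)
    (hw : sqNorm (w : GolayPt → ℤ) = 48) : ∃ g : Co0, g • v = w := by
  obtain ⟨a, ha⟩ := exists_smul_eq_base48 hv
  obtain ⟨b, hb⟩ := exists_smul_eq_base48 hw
  exact ⟨b⁻¹ * a, by rw [mul_smul, show a • v = b • w from Subtype.ext (ha.trans hb.symm), inv_smul_smul]⟩

/-- The lattice is generated by its minimal vectors. -/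
theorem closure_min :
    AddSubgroup.closure {x : GolayPt → ℤ | x ∈ leechLattice ∧ sqNorm x = 32} = leechLattice := by
  classical
  refine le_antisymm ((AddSubgroup.closure_le _).2 fun x hx => hx.1) fun x hx => ?_
  set H := AddSubgroup.closure {x : GolayPt → ℤ | x ∈ leechLattice ∧ sqNorm x = 32}
  have h4 : ∀ p q : GolayPt, p ≠ q → ∀ s, (s = 4 ∨ s = -4) → Pi.single p 4 + Pi.single q s ∈ H := by
    intro p q hpq s hs
    refine AddSubgroup.subset_closure ⟨?_, ?_⟩
    · refine mem_leechLattice_iff_form.2 ⟨⟨0, ∅, Pi.single p 1 + Pi.single q (s / 4), codeSet_empty,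
        fun i => ?_, ?_⟩⟩
      · simp only [indi, Finset.notMem_empty, if_false, Pi.add_apply, Pi.single_apply]
        split_ifs <;> omega
      · simp only [Pi.add_apply, Finset.sum_add_distrib, Finset.sum_pi_single', Finset.mem_univ, if_true]
        simp only [Int.ModEq]; omega
    · rw [sqNorm_add, sqNorm_single, sqNorm_single, dotInt_single, Pi.single_eq_of_ne hpq.symm]
      rcases hs with rfl | rfl <;> norm_num
  have h8 : ∀ p : GolayPt, Pi.single p (8 : ℤ) ∈ H := by
    intro p
    obtain ⟨q, hq⟩ : ∃ q, p ≠ q := by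
      rcases p with - | a
      · exact ⟨some 0, by simp⟩
      · exact ⟨none, by simp⟩
    convert add_mem (h4 p q hq 4 (Or.inl rfl)) (h4 p q hq (-4) (Or.inr rfl)) using 1
    funext i
    simp only [Pi.add_apply, Pi.single_apply]
    split_ifs <;> rfl
  have hmul : ∀ d : GolayPt → ℤ, (2 : ℤ) ∣ ∑ p, d p → (fun p => 4 * d p) ∈ H := by
    intro d hd
    obtain ⟨k, hk⟩ := hd
    have e : (fun p => 4 * d p) =
        ∑ p ∈ Finset.univ.erase none, d p • (Pi.single p (4 : ℤ) + Pi.single none 4) +
          (k - ∑ p ∈ Finset.univ.erase none, d p) • Pi.single (none : GolayPt) (8 : ℤ) := by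
      funext j
      simp only [Pi.add_apply, Finset.sum_apply, Pi.smul_apply, smul_eq_mul, Pi.single_apply]
      by_cases hj : j = none
      · subst hj
        have h0 := Finset.add_sum_erase Finset.univ d (Finset.mem_univ (none : GolayPt))
        have hs : ∑ x ∈ Finset.univ.erase (none : GolayPt),
            d x * ((if (none : GolayPt) = x then 4 else 0) + if (none : GolayPt) = none then 4 else 0) =
            4 * ∑ x ∈ Finset.univ.erase (none : GolayPt), d x := by
          rw [Finset.mul_sum]
          refine Finset.sum_congr rfl fun x hx => ?_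
          rw [if_neg (Finset.mem_erase.1 hx).1.symm, if_pos rfl]; ring
        rw [hs, if_pos rfl]
        linarith
      · rw [Finset.sum_eq_single j]
        · simp [hj]; ring
        · intro x _ hx
          rw [if_neg (Ne.symm hx), if_neg hj]; ring
        · intro h; simp [hj] at h
    rw [e]
    refine add_mem (sum_mem fun i hi => zsmul_mem (h4 i none (Finset.mem_erase.1 hi).1 4 (Or.inl rfl)) _) ?_
    exact zsmul_mem (h8 none) _
  have hcode : ∀ n ∈ golayList, ∃ y ∈ H, y ∈ leechLattice ∧ ∃ d : GolayPt → ℤ,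
      ∀ p, y p = 2 * indi (toSet n) p + 4 * d p := by
    refine spanList_induction (bs := golayBasis) (P := fun n => ∃ y ∈ H, y ∈ leechLattice ∧
      ∃ d : GolayPt → ℤ, ∀ p, y p = 2 * indi (toSet n) p + 4 * d p) ?_ ?_
    · exact ⟨0, zero_mem H, zero_mem _, 0, fun p => by simp [indi, mem_toSet]⟩
    · rintro b hb n ⟨y, hy, hyL, d, hd⟩
      have hb8 : (toSet b).card = 8 := by rw [card_toSet]; exact golayBasis_weight b hb
      have hC : CodeSet (toSet b) := mem_supports.2 ⟨b, mem_spanList_self hb, rfl⟩
      have hw := two_code_mem_leech hC 0 (by simp)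
      refine ⟨(fun p => 2 * indi (toSet b) p + 4 * (0 : GolayPt → ℤ) p) + y,
        add_mem (AddSubgroup.subset_closure ⟨hw, ?_⟩) hy, add_mem hw hyL,
        fun p => d p + indi (toSet b ∩ toSet n) p, fun p => ?_⟩
      · rw [sqNorm, show (32 : ℤ) = 4 * ((toSet b).card : ℤ) by rw [hb8]; norm_num, ← sum_indi,
          Finset.mul_sum]
        refine Finset.sum_congr rfl fun p _ => ?_
        simp only [indi, Pi.zero_apply]; split <;> ring
      · have := indi_symmDiff (toSet b) (toSet n) p
        simp only [Pi.add_apply, Pi.zero_apply, hd p, toSet_xor]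
        linarith
  have heven : ∀ z ∈ leechLattice, z none % 2 ≠ 1 → z ∈ H := by
    intro z hz hz2
    obtain ⟨C, hC, hin, hout⟩ := even_cases hz hz2
    obtain ⟨n, hn, rfl⟩ := mem_supports.1 hC
    obtain ⟨y, hy, hyL, d, hd⟩ := hcode n hn
    have hdiv : ∀ p, (4 : ℤ) ∣ (z - y) p := fun p => by
      simp only [Pi.sub_apply, hd p, indi]
      by_cases hp : p ∈ toSet n
      · have := hin p hp; rw [if_pos hp]; omega
      · have := hout p hp; rw [if_neg hp]; omega
    choose e he using hdiv
    have hzy : z - y = fun p => 4 * e p := funext he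
    have h2 : (2 : ℤ) ∣ ∑ p, e p := by
      obtain ⟨m, hpar, hsum, -⟩ := mem_leechLattice_iff.1 (sub_mem hz hyL)
      rw [hzy] at hpar hsum
      have := hpar none
      simp only [Int.ModEq, ← Finset.mul_sum] at this hsum
      omega
    have := add_mem (hmul e h2) hy
    rwa [← hzy, sub_add_cancel] at this
  by_cases h1 : x none % 2 = 1
  · let o : GolayPt → ℤ := fun p => if p = none then -3 else 1
    have hoL : o ∈ leechLattice := by
      refine mem_leechLattice_iff_form.2 ⟨⟨1, ∅, fun p => if p = none then -1 else 0, codeSet_empty,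
        fun i => ?_, ?_⟩⟩
      · simp only [o, indi, Finset.notMem_empty, if_false]; split <;> omega
      · have : ∑ p, o p = 20 := by
          rw [← Finset.add_sum_erase _ _ (Finset.mem_univ none)]
          simp only [o, if_true]
          rw [Finset.sum_congr rfl (g := fun _ => (1 : ℤ)) fun p hp => if_neg (Finset.mem_erase.1 hp).1]
          simp
        rw [this]; decide
    have hoH : o ∈ H := AddSubgroup.subset_closure ⟨hoL, by
      rw [sqNorm, ← Finset.add_sum_erase _ _ (Finset.mem_univ none)]
      simp only [o, if_true]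
      rw [Finset.sum_congr rfl (g := fun _ => (1 : ℤ)) fun p hp => by
        rw [if_neg (Finset.mem_erase.1 hp).1]; norm_num]
      simp⟩
    have := add_mem (heven (x - o) (sub_mem hx hoL) (by simp only [Pi.sub_apply, o, if_true]; omega)) hoH
    rwa [sub_add_cancel] at this
  · exact heven x hx h1

theorem exists_code_separate (p q : GolayPt) (h : p ≠ q) :
    ∃ C, CodeSet C ∧ p ∈ C ∧ q ∉ C := by
  obtain ⟨g, hg, h0, h1⟩ := M24_map_two (a := pt 0) (b := pt 1) (by decide +kernel) h
  have hc : CodeSet (toSet 13062145) :=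
    mem_supports.2 ⟨_, mem_golayList_of_inCode (by decide +kernel), rfl⟩
  refine ⟨g • toSet 13062145, supports_smul hg hc, ?_, ?_⟩
  · rw [← h0, ← Equiv.Perm.smul_def, Finset.smul_mem_smul_finset_iff]; decide +kernel
  · rw [← h1, ← Equiv.Perm.smul_def, Finset.smul_mem_smul_finset_iff]; decide +kernel

/-- The centre of the automorphism group is `{1, -1}`. -/
theorem card_center_co0 : Nat.card (Subgroup.center Co0) = 2 := by
  classical
  have hneg : negAut ∈ Subgroup.center Co0 := by
    rw [Subgroup.mem_center_iff]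
    refine fun g => co_ext fun v => ?_
    have hn : ∀ w : leechLattice, negAut • w = -w := fun w => Subtype.ext (coe_negAut_smul w)
    rw [mul_smul, mul_smul, hn, hn, smul_neg']
  have hne : negAut ≠ 1 := fun h => by
    have := congrFun (congrArg (fun g : Co0 => ((g • baseVec : leechLattice) : GolayPt → ℤ)) h) none
    simp [coe_negAut_smul, baseVec, coe_axisVec] at this
  rw [Nat.card_eq_two_iff]
  refine ⟨⟨1, one_mem _⟩, ⟨negAut, hneg⟩, fun h => hne (congrArg Subtype.val h).symm, ?_⟩
  rw [Set.eq_univ_iff_forall]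
  rintro ⟨z, hz⟩
  have hcomm := Subgroup.mem_center_iff.1 hz
  have hfix : ∀ p, ∃ t : ℤ, (t = 8 ∨ t = -8) ∧
      ((z • axisVec p 8 dvd_rfl : leechLattice) : GolayPt → ℤ) = Pi.single p t := by
    intro p
    set u := ((z • axisVec p 8 dvd_rfl : leechLattice) : GolayPt → ℤ) with hu
    have h0 : ∀ q, q ≠ p → u q = 0 := fun q hq => by
      obtain ⟨C, hC, hqC, hpC⟩ := exists_code_separate q p hq
      have hs : signAut C hC • axisVec p 8 dvd_rfl = axisVec p 8 dvd_rfl := Subtype.ext (funext fun i => by
        rw [coe_signAut_smul, signFlip_apply, coe_axisVec]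
        by_cases hi : i ∈ C
        · rw [if_pos hi, Pi.single_eq_of_ne (fun h : i = p => hpC (h ▸ hi)), neg_zero]
        · rw [if_neg hi])
      have h := congrArg (fun g : Co0 => ((g • axisVec p 8 dvd_rfl : leechLattice) : GolayPt → ℤ))
        (hcomm (signAut C hC))
      simp only [mul_smul, hs, coe_signAut_smul] at h
      have := congrFun h q
      rw [signFlip_apply, if_pos hqC, ← hu] at this
      omega
    have hup : u = Pi.single p (u p) := funext fun q => by
      rcases eq_or_ne q p with rfl | hq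
      · simp
      · rw [Pi.single_eq_of_ne hq, h0 q hq]
    refine ⟨u p, ?_, hup⟩
    have hn : sqNorm u = 8 ^ 2 := by rw [hu, sqNorm_smul_co, coe_axisVec, sqNorm_single]
    rw [hup, sqNorm_single] at hn
    exact sq_eq_sq_iff_eq_or_eq_neg.1 hn
  have hzH : z ∈ crossStab := by
    rw [mem_crossStab_iff]
    rintro v ⟨p, t, ht, hv⟩
    obtain ⟨s, hs, hps⟩ := hfix p
    have e : v = (t / 8) • axisVec p 8 dvd_rfl := Subtype.ext (by
      rw [AddSubgroup.coe_zsmul, coe_axisVec, hv]
      funext i
      simp only [Pi.smul_apply, Pi.single_apply, smul_eq_mul]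
      split <;> omega)
    refine ⟨p, t / 8 * s, ?_, ?_⟩
    · rcases ht with rfl | rfl <;> rcases hs with rfl | rfl <;> norm_num
    · rw [e, smul_zsmul', AddSubgroup.coe_zsmul, hps]
      funext i
      simp only [Pi.smul_apply, Pi.single_apply, smul_eq_mul]
      split <;> simp
  obtain ⟨σ, hσ, c, hc, rfl⟩ := exists_monoAut_of_mem hzH
  have hσ1 : σ = 1 := Equiv.ext fun p => by
    obtain ⟨s, hs, hps⟩ := hfix p
    rw [coe_monoAut_smul, coe_axisVec, signedPerm_single] at hps
    by_contra hne'
    have := congrFun hps (σ p)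
    rw [Pi.single_eq_same, Pi.single_eq_of_ne (show σ p ≠ p from hne')] at this
    split at this <;> omega
  subst hσ1
  have hall : ∀ i j, i ∈ c → j ∈ c := by
    intro i j hi
    rcases eq_or_ne i j with rfl | hij
    · exact hi
    obtain ⟨g, hg, hgi, -⟩ := M24_map_two hij hij.symm
    have h := congrArg (fun a : Co0 => ((a • axisVec i 8 dvd_rfl : leechLattice) : GolayPt → ℤ))
      (hcomm (permAut g hg))
    simp only [mul_smul, coe_permAut_smul, coe_monoAut_smul, coe_axisVec, signedPerm_single,
      Equiv.Perm.one_apply] at h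
    have := congrFun h j
    have e : g.symm j = i := by rw [← hgi, Equiv.symm_apply_apply]
    simp only [permCoord, AddEquiv.coe_mk, Equiv.coe_fn_mk, signedPerm, Equiv.Perm.one_def,
      Equiv.refl_symm, Equiv.refl_apply] at this
    rw [e] at this
    by_contra hj
    simp [hj, hi] at this
  rcases c.eq_empty_or_nonempty with rfl | ⟨i, hi⟩
  · refine Or.inl (Subtype.ext (co_ext fun v => Subtype.ext (funext fun q => ?_)))
    rw [coe_monoAut_smul, one_smul]
    simp [signedPerm, Equiv.Perm.one_def]
  · refine Or.inr (Subtype.ext (co_ext fun v => Subtype.ext (funext fun q => ?_)))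
    rw [coe_monoAut_smul, coe_negAut_smul]
    simp [signedPerm, Equiv.Perm.one_def, hall i q hi]

end CfsgLib.Leech
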