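import Cfsg.Agent.Lib.Leech.Count

/-!
# A faster evaluation of sums over the code

The pattern of a code word is packed into one number with digits to base 32, and the histogram of
these numbers is built along the binary recursion over the basis, so that the kernel has to look
at each code word once.
-/

set_option autoImplicit false

namespace CfsgLib.Leech.Count

open Cfsg CfsgLib.Golay

/-- The sum of the weights of the bits that are set. -/
def wsum : List ℕ → ℕ → ℕ
  | [], _ => 0
  | w :: ws, n => n % 2 * w + wsum ws (n / 2)

theorem wsum_eq : ∀ (ws : List ℕ) (n : ℕ),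
    wsum ws n = ∑ i ∈ Finset.range ws.length, if n.testBit i then ws.getD i 0 else 0
  | [], n => by simp [wsum]
  | w :: ws, n => by
    rw [wsum, wsum_eq ws, List.length_cons, Finset.sum_range_succ', add_comm]
    congr 1
    · refine Finset.sum_congr rfl fun i _ => ?_
      rw [Nat.testBit_succ, List.getD_cons_succ]
    · rcases Nat.mod_two_eq_zero_or_one n with h | h <;> simp [Nat.testBit_zero, h]

/-- The digits of a packed pattern. -/
def unpack (J c : ℕ) : List ℕ := (List.range J).map fun j => c / 32 ^ j % 32

theorem digit_eq : ∀ (J : ℕ) (d : ℕ → ℕ), (∀ j, d j < 32) → ∀ k < J,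
    (∑ j ∈ Finset.range J, d j * 32 ^ j) / 32 ^ k % 32 = d k
  | 0, _, _, _, hk => absurd hk (Nat.not_lt_zero _)
  | J + 1, d, hd, k, hk => by
    have e : ∑ j ∈ Finset.range (J + 1), d j * 32 ^ j =
        d 0 + 32 * ∑ j ∈ Finset.range J, d (j + 1) * 32 ^ j := by
      rw [Finset.sum_range_succ', add_comm, Finset.mul_sum]
      simp only [pow_zero, mul_one]
      congr 1
      exact Finset.sum_congr rfl fun j _ => by ring
    rw [e]
    cases k with
    | zero => rw [pow_zero, Nat.div_one, Nat.add_mul_mod_self_left, Nat.mod_eq_of_lt (hd 0)]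
    | succ k =>
      rw [pow_succ', ← Nat.div_div_eq_div_mul, Nat.add_mul_div_left _ _ (by norm_num),
        Nat.div_eq_of_lt (hd 0), zero_add]
      exact digit_eq J (fun j => d (j + 1)) (fun j => hd _) k (by omega)

variable {J : ℕ} {masks : ℕ → ℕ}

theorem bitCount_le (n : ℕ) : bitCount n ≤ 24 :=
  (List.length_filter_le _ _).trans (by simp)

theorem unpack_wsum (hP : IsPartition J masks) (hC : Covers J masks) (n : ℕ) :
    unpack J (wsum ((List.range 24).map fun i => 32 ^ clsOf J masks i) n) = pattern J masks n := by
  have hd : ∀ j, bitCount (n &&& masks j) < 32 := fun j => lt_of_le_of_lt (bitCount_le _) (by norm_num)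
  have e : wsum ((List.range 24).map fun i => 32 ^ clsOf J masks i) n =
      ∑ j ∈ Finset.range J, bitCount (n &&& masks j) * 32 ^ j := by
    have hb : ∀ j, bitCount (n &&& masks j) =
        ∑ i ∈ Finset.range 24, if (n &&& masks j).testBit i then 1 else 0 := by
      intro j
      rw [Finset.sum_boole]
      simp only [bitCount, Nat.cast_id]
      rw [← List.toFinset_card_of_nodup (List.Nodup.filter _ List.nodup_range)]
      congr 1
      ext i
      simp
    simp only [hb, Finset.sum_mul]
    rw [Finset.sum_comm, wsum_eq, List.length_map, List.length_range]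
    refine Finset.sum_congr rfl fun i hi => ?_
    have hi' := Finset.mem_range.1 hi
    rw [List.getD_eq_getElem?_getD, List.getElem?_map, List.getElem?_range hi', Option.map_some,
      Option.getD_some, Finset.sum_eq_single (clsOf J masks i)]
    · rw [Nat.testBit_and, hP i hi' _ (hC i hi'), decide_eq_true rfl, Bool.and_true]
      split <;> simp
    · intro j hj hne
      rw [Nat.testBit_and, hP i hi' j (Finset.mem_range.1 hj), decide_eq_false hne.symm, Bool.and_false]
      simp
    · exact fun h => absurd (Finset.mem_range.2 (hC i hi')) h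
  rw [e]
  exact List.map_congr_left fun j hj => digit_eq J _ hd j (List.mem_range.1 hj)

/-- The union of two weighted lists. -/
def unite (l l' : List (ℕ × ℕ)) : List (ℕ × ℕ) := l'.foldl (fun acc kc => ins kc.1 kc.2 acc) l

theorem tot_unite (f : ℕ → ℕ) : ∀ (l' l : List (ℕ × ℕ)), tot (unite l l') f = tot l f + tot l' f
  | [], l => by simp [unite, tot]
  | kc :: l', l => by
    rw [show unite l (kc :: l') = unite (ins kc.1 kc.2 l) l' from rfl, tot_unite f l', tot_ins,
      tot_cons]
    ring

/-- The histogram of a function on the sums of sublists, shifted by `acc`. -/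
def histSpan (g : ℕ → ℕ) : List ℕ → ℕ → List (ℕ × ℕ)
  | [], acc => [(g acc, 1)]
  | b :: bs, acc => unite (histSpan g bs acc) (histSpan g bs (b ^^^ acc))

theorem tot_histSpan (g : ℕ → ℕ) (f : ℕ → ℕ) : ∀ (bs : List ℕ) (acc : ℕ),
    tot (histSpan g bs acc) f = ((spanList bs).map fun n => f (g (n ^^^ acc))).sum
  | [], acc => by simp [histSpan, spanList, tot]
  | b :: bs, acc => by
    rw [histSpan, tot_unite, tot_histSpan g f bs, tot_histSpan g f bs, spanList, List.map_append,
      List.sum_append, List.map_map]
    congr 2
    refine List.map_congr_left fun n _ => ?_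
    simp [Function.comp, Nat.xor_comm b n, Nat.xor_assoc]

/-- The total over the code, given the list of weights. -/
def shellTotal {K : Type} [AddCommMonoid K] [DecidableEq K] (N J : ℕ) (masks : ℕ → ℕ)
    (φ : ℕ → ℤ → K) (P : K → Bool) (ws : List ℕ) : ℕ :=
  tot (histSpan (wsum ws) golayBasis 0) fun c =>
    cell N φ P 0 (coords J masks (unpack J c)) + cell N φ P 1 (coords J masks (unpack J c))

theorem shell_ncard_total {K : Type} [AddCommMonoid K] [DecidableEq K] (hP : IsPartition J masks)
    (hC : Covers J masks) {N : ℕ} (hN : N < 81) (φ : ℕ → ℤ → K) (P : K → Bool) {ws : List ℕ}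
    (hws : ((List.range 24).map fun i => 32 ^ clsOf J masks i) = ws) :
    (shell N (fun p => φ (clsOf J masks (ptEquiv p).val)) P).ncard = shellTotal N J masks φ P ws := by
  subst hws
  rw [shell_ncard hP hC hN, shellTotal, tot_histSpan]
  simp only [Nat.xor_zero, unpack_wsum hP hC]
  rfl

end CfsgLib.Leech.Count
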