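import Cfsg.Agent.Lib.Leech.Pairs
import Cfsg.Agent.Lib.Leech.Hist

/-!
# Minimal vectors with given inner products with one or two vectors
-/

set_option autoImplicit false

namespace CfsgLib.Leech

open Cfsg CfsgLib.Golay CfsgLib.Leech.Count

/-- The entries of a list of masks. -/
def maskOf (l : List ℕ) (j : ℕ) : ℕ := l.getD j 0

theorem ncard_sect_one {J : ℕ} {masks : ℕ → ℕ} (hP : IsPartition J masks) (hC : Covers J masks)
    (c : ℕ → ℤ) {a : GolayPt → ℤ} (ha : ∀ p, a p = c (clsOf J masks (ptEquiv p).val)) (t : ℤ)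
    {ws : List ℕ} (hws : ((List.range 24).map fun i => 32 ^ clsOf J masks i) = ws) :
    {x : GolayPt → ℤ | x ∈ leechLattice ∧ sqNorm x = 32 ∧ dotInt a x = t}.ncard =
      shellTotal 32 J masks (fun j v => c j * v) (fun k => decide (k = t)) ws := by
  rw [← shell_ncard_total hP hC (N := 32) (by omega) _ _ hws]
  congr 1
  ext x
  simp [shell, dotInt, ha]

theorem ncard_sect_two {J : ℕ} {masks : ℕ → ℕ} (hP : IsPartition J masks) (hC : Covers J masks)
    (c d : ℕ → ℤ) {a b : GolayPt → ℤ} (ha : ∀ p, a p = c (clsOf J masks (ptEquiv p).val))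
    (hb : ∀ p, b p = d (clsOf J masks (ptEquiv p).val)) (s t : ℤ)
    {ws : List ℕ} (hws : ((List.range 24).map fun i => 32 ^ clsOf J masks i) = ws) :
    {x : GolayPt → ℤ | x ∈ leechLattice ∧ sqNorm x = 32 ∧ dotInt a x = s ∧ dotInt b x = t}.ncard =
      shellTotal 32 J masks (fun j v => (c j * v, d j * v)) (fun k => decide (k = (s, t))) ws := by
  rw [← shell_ncard_total hP hC (N := 32) (by omega) _ _ hws]
  congr 1
  ext x
  simp [shell, dotInt, ha, hb, Prod.ext_iff, Prod.fst_sum, Prod.snd_sum]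

/-- Passing from subsets of the lattice to sets of coordinate vectors. -/
theorem ncard_subtype (P : (GolayPt → ℤ) → Prop) :
    {x : leechLattice | P x}.ncard = {x : GolayPt → ℤ | x ∈ leechLattice ∧ P x}.ncard := by
  rw [← Set.ncard_image_of_injective _ (Subtype.val_injective (p := (· ∈ leechLattice)))]
  congr 1
  ext y
  exact ⟨fun ⟨x, hx, e⟩ => e ▸ ⟨x.2, hx⟩, fun ⟨hy, hP⟩ => ⟨⟨y, hy⟩, hP, rfl⟩⟩

/-- An automorphism matches two sections. -/
theorem ncard_smul (g : Co0) (P Q : (GolayPt → ℤ) → Prop)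
    (h : ∀ x : leechLattice, P x ↔ Q (g • x : leechLattice)) :
    {x : leechLattice | P x}.ncard = {x : leechLattice | Q x}.ncard := by
  rw [← Set.ncard_image_of_injective _ (MulAction.injective g)]
  congr 1
  ext y
  exact ⟨fun ⟨x, hx, e⟩ => e ▸ (h x).1 hx,
    fun hy => ⟨g⁻¹ • y, (h _).2 (by simpa using hy), smul_inv_smul g y⟩⟩

/-- The count for one vector of the lattice. -/
theorem ncard_dot_one {u : leechLattice} {a : GolayPt → ℤ} (g : Co0)
    (hg : ((g • u : leechLattice) : GolayPt → ℤ) = a) (t : ℤ) :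
    {x : leechLattice | sqNorm (x : GolayPt → ℤ) = 32 ∧ dotInt (u : GolayPt → ℤ) x = t}.ncard =
      {x : GolayPt → ℤ | x ∈ leechLattice ∧ sqNorm x = 32 ∧ dotInt a x = t}.ncard := by
  rw [ncard_smul g (fun x => sqNorm x = 32 ∧ dotInt (u : GolayPt → ℤ) x = t)
    (fun x => sqNorm x = 32 ∧ dotInt a x = t), ncard_subtype fun x => sqNorm x = 32 ∧ dotInt a x = t]
  intro x
  rw [sqNorm_smul_co, ← hg, dot_smul_co]

/-- The count for two vectors of the lattice. -/
theorem ncard_dot_two {u v : leechLattice} {a b : GolayPt → ℤ} (g : Co0)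
    (hg : ((g • u : leechLattice) : GolayPt → ℤ) = a)
    (hg' : ((g • v : leechLattice) : GolayPt → ℤ) = b) (s t : ℤ) :
    {x : leechLattice | sqNorm (x : GolayPt → ℤ) = 32 ∧ dotInt (u : GolayPt → ℤ) x = s ∧
        dotInt (v : GolayPt → ℤ) x = t}.ncard =
      {x : GolayPt → ℤ | x ∈ leechLattice ∧ sqNorm x = 32 ∧ dotInt a x = s ∧ dotInt b x = t}.ncard := by
  rw [ncard_smul g (fun x => sqNorm x = 32 ∧ dotInt (u : GolayPt → ℤ) x = s ∧ dotInt (v : GolayPt → ℤ) x = t)
    (fun x => sqNorm x = 32 ∧ dotInt a x = s ∧ dotInt b x = t),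
    ncard_subtype fun x => sqNorm x = 32 ∧ dotInt a x = s ∧ dotInt b x = t]
  intro x
  rw [sqNorm_smul_co, ← hg, ← hg', dot_smul_co, dot_smul_co]

/-- The classes of the base minimal vector. -/
def masks32 : ℕ → ℕ := maskOf [3, 16777212]

/-- The values of the base minimal vector on its classes. -/
def coef32 (j : ℕ) : ℤ := [4, 0].getD j 0

theorem ncard_base32 : {x : GolayPt → ℤ | x ∈ leechLattice ∧ sqNorm x = 32 ∧ dotInt base32 x = -16}.ncard = 4600 ∧
    {x : GolayPt → ℤ | x ∈ leechLattice ∧ sqNorm x = 32 ∧ dotInt base32 x = -8}.ncard = 47104 ∧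
    {x : GolayPt → ℤ | x ∈ leechLattice ∧ sqNorm x = 32 ∧ dotInt base32 x = 0}.ncard = 93150 := by
  have h := fun t => ncard_sect_one (J := 2) (masks := masks32) (by decide +kernel) (by decide +kernel)
    coef32 (a := base32) (by decide +kernel) t
    (ws := [1, 1, 32, 32, 32, 32, 32, 32, 32, 32, 32, 32, 32, 32, 32, 32, 32, 32, 32, 32, 32, 32, 32, 32])
    (by decide +kernel)
  refine ⟨(h _).trans ?_, (h _).trans ?_, (h _).trans ?_⟩
  all_goals decide +kernel

/-- The classes of the base vector of squared length 48. -/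
def masks48 : ℕ → ℕ := maskOf [32, 1, 5278, 16771904]

/-- The values of the base vector of squared length 48 on its classes. -/
def coef48 (j : ℕ) : ℤ := [4, -2, 2, 0].getD j 0

theorem ncard_base48 : {x : GolayPt → ℤ | x ∈ leechLattice ∧ sqNorm x = 32 ∧ dotInt base48 x = 24}.ncard = 552 ∧
    {x : GolayPt → ℤ | x ∈ leechLattice ∧ sqNorm x = 32 ∧ dotInt base48 x = -16}.ncard = 11178 := by
  have h := fun t => ncard_sect_one (J := 4) (masks := masks48) (by decide +kernel) (by decide +kernel)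
    coef48 (a := base48) (by decide +kernel) t
    (ws := [32, 1024, 1024, 1024, 1024, 1, 32768, 1024, 32768, 32768, 1024, 32768, 1024, 32768, 32768,
      32768, 32768, 32768, 32768, 32768, 32768, 32768, 32768, 32768])
    (by decide +kernel)
  refine ⟨(h _).trans ?_, (h _).trans ?_⟩
  all_goals decide +kernel

end CfsgLib.Leech
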