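import Cfsg.Agent.Lib.Leech.Orbits

/-!
# Orbits on pairs of short vectors

A minimal vector and an orthogonal one determine a cross; choosing the second one suitably leaves
one monomial orbit for each of the pairs needed for the stabilisers of short vectors.
-/

set_option autoImplicit false

open scoped Pointwise symmDiff

namespace CfsgLib.Leech

open Cfsg CfsgLib.Golay

/-- The minimal vector orthogonal to the base one on the same two points. -/
def base32neg : GolayPt → ℤ := fun p => if p = pt 0 then 4 else if p = pt 1 then -4 else 0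

theorem dotInt_add_right (x y z : GolayPt → ℤ) : dotInt x (y + z) = dotInt x y + dotInt x z := by
  simp [dotInt, mul_add, Finset.sum_add_distrib]

theorem dotInt_neg_right (x y : GolayPt → ℤ) : dotInt x (-y) = -dotInt x y := by
  simp [dotInt]

theorem dotInt_sub_right (x y z : GolayPt → ℤ) : dotInt x (y - z) = dotInt x y - dotInt x z := by
  simp [dotInt, mul_sub, Finset.sum_sub_distrib]

theorem base32_eq : base32 = Pi.single (pt 0) 4 + Pi.single (pt 1) 4 := by decide +kernel

theorem base32neg_eq : base32neg = Pi.single (pt 0) 4 + Pi.single (pt 1) (-4) := by decide +kernel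

theorem dotInt_base32 (w : GolayPt → ℤ) : dotInt w base32 = 4 * (w (pt 0) + w (pt 1)) := by
  rw [base32_eq, dotInt_add_right, dotInt_single, dotInt_single]; ring

theorem dotInt_base32neg (w : GolayPt → ℤ) : dotInt w base32neg = 4 * (w (pt 0) - w (pt 1)) := by
  rw [base32neg_eq, dotInt_add_right, dotInt_single, dotInt_single]; ring

theorem base32_mem : base32 ∈ leechLattice ∧ sqNorm base32 = 32 := by
  refine ⟨?_, by decide +kernel⟩
  have := four_mul_mem_leech (fun p => if p = pt 0 ∨ p = pt 1 then 1 else 0) (by decide +kernel)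
  have e : base32 = fun p => 4 * if p = pt 0 ∨ p = pt 1 then (1 : ℤ) else 0 := by decide +kernel
  rw [e]; exact this

theorem base32neg_mem : base32neg ∈ leechLattice ∧ sqNorm base32neg = 32 := by
  refine ⟨?_, by decide +kernel⟩
  have := four_mul_mem_leech (fun p => if p = pt 0 then 1 else if p = pt 1 then -1 else 0)
    (by decide +kernel)
  have e : base32neg = fun p => 4 * if p = pt 0 then (1 : ℤ) else if p = pt 1 then -1 else 0 := by
    decide +kernel
  rw [e]; exact this

/-- Ordered pairs of orthogonal minimal vectors form one orbit. -/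
theorem exists_smul_orth {v w : leechLattice} (hv : sqNorm (v : GolayPt → ℤ) = 32)
    (hwn : sqNorm (w : GolayPt → ℤ) = 32) (hwd : dotInt (v : GolayPt → ℤ) w = 0) :
    ∃ g : Co0, ((g • v : leechLattice) : GolayPt → ℤ) = base32 ∧
      ((g • w : leechLattice) : GolayPt → ℤ) = base32neg := by
  have hP : sqNorm ((v + w : leechLattice) : GolayPt → ℤ) = 64 := by
    rw [AddSubgroup.coe_add, sqNorm_add, hv, hwn, hwd]; norm_num
  have hM : sqNorm ((v - w : leechLattice) : GolayPt → ℤ) = 64 := by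
    rw [AddSubgroup.coe_sub, sqNorm_sub, hv, hwn, hwd]; norm_num
  have hc : (v + w) - (v - w) ∈ twoMul leechLattice := ⟨w, by
    rw [zsmulAddGroupHom_apply, two_zsmul]; abel⟩
  obtain ⟨g, hg⟩ := exists_smul_single hP
  obtain ⟨p, s, hs, hps⟩ := hg _ hP (by rw [sub_self]; exact zero_mem _)
  obtain ⟨q, t, ht, hqt⟩ := hg _ hM hc
  have hne : p ≠ q := by
    rintro rfl
    have h := dot_smul_co g (v + w) (v - w)
    rw [hps, hqt, dotInt_single, Pi.single_eq_same, AddSubgroup.coe_add, AddSubgroup.coe_sub] at h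
    have e : dotInt ((v : GolayPt → ℤ) + (w : GolayPt → ℤ)) ((v : GolayPt → ℤ) - (w : GolayPt → ℤ)) =
        sqNorm (v : GolayPt → ℤ) - sqNorm (w : GolayPt → ℤ) := by
      simp only [dotInt, sqNorm, ← Finset.sum_sub_distrib, Pi.add_apply, Pi.sub_apply]
      exact Finset.sum_congr rfl fun i _ => by ring
    rw [e, hv, hwn] at h
    rcases hs with rfl | rfl <;> rcases ht with rfl | rfl <;> norm_num at h
  obtain ⟨σ, hσ, hσp, hσq⟩ := M24_map_two hne (c := pt 0) (d := pt 1) (by decide +kernel)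
  obtain ⟨n, -, hn, hb, hc'⟩ := pair_signs (decide (s = -8)) (decide (t = -8))
  have hcs : CodeSet (toSet n) := mem_supports.2 ⟨n, hn, rfl⟩
  let a : Co0 := monoAut σ hσ _ hcs * g
  have hA : ((a • (v + w) : leechLattice) : GolayPt → ℤ) = Pi.single (pt 0) 8 := by
    rw [mul_smul, coe_monoAut_smul, hps, signedPerm_single, hσp]
    congr 1
    have hm : pt 0 ∈ toSet n ↔ s = -8 := by rw [pt_mem_toSet (by omega), hb, decide_eq_true_eq]
    by_cases hh : pt 0 ∈ toSet n
    · rw [if_pos hh]; have := hm.1 hh; omega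
    · rw [if_neg hh]; have := mt hm.2 hh; omega
  have hB : ((a • (v - w) : leechLattice) : GolayPt → ℤ) = Pi.single (pt 1) 8 := by
    rw [mul_smul, coe_monoAut_smul, hqt, signedPerm_single, hσq]
    congr 1
    have hm : pt 1 ∈ toSet n ↔ t = -8 := by rw [pt_mem_toSet (by omega), hc', decide_eq_true_eq]
    by_cases hh : pt 1 ∈ toSet n
    · rw [if_pos hh]; have := hm.1 hh; omega
    · rw [if_neg hh]; have := mt hm.2 hh; omega
  rw [smul_add', AddSubgroup.coe_add] at hA
  rw [smul_sub', AddSubgroup.coe_sub] at hB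
  refine ⟨a, funext fun i => ?_, funext fun i => ?_⟩ <;>
    · have h1 := congrFun hA i
      have h2 := congrFun hB i
      simp only [base32_eq, base32neg_eq, Pi.add_apply, Pi.sub_apply, Pi.single_apply] at h1 h2 ⊢
      split_ifs at h1 h2 ⊢ <;> omega

/-- Changing the second vector of the cross through the base vector. -/
theorem exists_refine {v : leechLattice} (hv : (v : GolayPt → ℤ) = base32) {z : GolayPt → ℤ}
    (hz : z ∈ leechLattice) (hzn : sqNorm z = 32) (hzd : dotInt z base32 = 0) (w : leechLattice) :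
    ∃ g : Co0, ((g • v : leechLattice) : GolayPt → ℤ) = base32 ∧
      ((g • w : leechLattice) : GolayPt → ℤ) (pt 0) + ((g • w : leechLattice) : GolayPt → ℤ) (pt 1) =
        (w : GolayPt → ℤ) (pt 0) + (w : GolayPt → ℤ) (pt 1) ∧
      4 * (((g • w : leechLattice) : GolayPt → ℤ) (pt 0) -
        ((g • w : leechLattice) : GolayPt → ℤ) (pt 1)) = dotInt (w : GolayPt → ℤ) z := by
  obtain ⟨g, h1, h2⟩ := exists_smul_orth (v := v) (w := ⟨z, hz⟩) (by rw [hv]; exact base32_mem.2) hzn
    (by rw [dotInt_comm, hv]; exact hzd)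
  refine ⟨g, h1, ?_, ?_⟩
  · have h := dot_smul_co g w v
    rw [h1, hv, dotInt_base32, dotInt_base32] at h
    omega
  · have h := dot_smul_co g w ⟨z, hz⟩
    rw [h2, dotInt_base32neg] at h
    exact h

/-- Two coordinates of the same absolute values outside the first two points. -/
theorem exists_z_pair {w : GolayPt → ℤ} (a b : GolayPt) (hab : a ≠ b) (ha : a ≠ pt 0 ∧ a ≠ pt 1)
    (hb : b ≠ pt 0 ∧ b ≠ pt 1) (s t : ℤ) (hs : s = 4 ∨ s = -4) (ht : t = 4 ∨ t = -4) :
    ∃ z ∈ leechLattice, sqNorm z = 32 ∧ dotInt z base32 = 0 ∧ dotInt w z = w a * s + w b * t := by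
  refine ⟨Pi.single a s + Pi.single b t, ?_, ?_, ?_, ?_⟩
  · refine mem_leechLattice_iff_form.2 ⟨⟨0, ∅, Pi.single a (s / 4) + Pi.single b (t / 4), codeSet_empty,
      fun i => ?_, ?_⟩⟩
    · simp only [indi, Finset.notMem_empty, if_false, Pi.add_apply, Pi.single_apply]
      split_ifs <;> omega
    · simp only [Pi.add_apply, Finset.sum_add_distrib, Finset.sum_pi_single', Finset.mem_univ, if_true]
      simp only [Int.ModEq]; omega
  · rw [sqNorm_add, sqNorm_single, sqNorm_single, dotInt_single, Pi.single_eq_of_ne hab.symm]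
    rcases hs with rfl | rfl <;> rcases ht with rfl | rfl <;> norm_num
  · rw [dotInt_base32]
    simp [Pi.single_eq_of_ne ha.1.symm, Pi.single_eq_of_ne ha.2.symm, Pi.single_eq_of_ne hb.1.symm,
      Pi.single_eq_of_ne hb.2.symm]
  · rw [dotInt_add_right, dotInt_single, dotInt_single]

/-- An octad vector avoiding the first two points, after a sign change. -/
theorem exists_z_octad {w : GolayPt → ℤ} {D : Finset GolayPt} (hD : CodeSet D)
    (h : ∀ p, p ≠ pt 0 → p ≠ pt 1 → signFlip D w p = 1) :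
    ∃ z ∈ leechLattice, sqNorm z = 32 ∧ dotInt z base32 = 0 ∧ dotInt w z = 16 := by
  have hO : inCode 13938692 = true ∧ bitCount 13938692 = 8 ∧ pt 0 ∉ toSet 13938692 ∧
      pt 1 ∉ toSet 13938692 := by decide +kernel
  set O := toSet 13938692
  have hC : CodeSet O := mem_supports.2 ⟨_, mem_golayList_of_inCode hO.1, rfl⟩
  have h8 : O.card = 8 := (card_toSet _).trans hO.2.1
  refine ⟨signFlip D fun p => 2 * indi O p + 4 * (0 : GolayPt → ℤ) p,
    signFlip_mem hD (two_code_mem_leech hC 0 (by simp)), ?_, ?_, ?_⟩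
  · rw [sqNorm_signFlip, sqNorm, show (32 : ℤ) = 4 * (O.card : ℤ) by rw [h8]; norm_num, ← sum_indi,
      Finset.mul_sum]
    refine Finset.sum_congr rfl fun p _ => ?_
    simp only [indi, Pi.zero_apply]; split <;> ring
  · rw [dotInt_base32]
    simp [signFlip_apply, indi, hO.2.2.1, hO.2.2.2]
  · nth_rw 1 [show w = signFlip D (signFlip D w) from (signFlip_involutive D w).symm]
    rw [dotInt_signFlip, dotInt, show (16 : ℤ) = 2 * (O.card : ℤ) by rw [h8]; norm_num, ← sum_indi,
      Finset.mul_sum]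
    refine Finset.sum_congr rfl fun p _ => ?_
    simp only [indi, Pi.zero_apply]
    by_cases hp : p ∈ O
    · rw [if_pos hp, h p (fun e => hO.2.2.1 (e ▸ hp)) (fun e => hO.2.2.2 (e ▸ hp))]; ring
    · rw [if_neg hp]; ring

theorem ne_zero_one_list : ∀ i ∈ [2, 3, 4, 5, 6, 7], pt i ≠ pt 0 ∧ pt i ≠ pt 1 := by decide +kernel

theorem normal_vals {w : GolayPt → ℤ} {N : ℤ} (hn : sqNorm w = N) (hN : N ≤ 48) {D : Finset GolayPt}
    (h1 : ∀ p, signFlip D w p % 4 = 1) (p : GolayPt) :
    signFlip D w p = 1 ∨ signFlip D w p = -3 ∨ signFlip D w p = 5 := by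
  have h := abs_le_of_sqNorm (x := signFlip D w) (N := 48) (by rw [sqNorm_signFlip, hn]; exact hN) p
  have := h1 p
  have : -6 ≤ signFlip D w p ∧ signFlip D w p ≤ 6 := by constructor <;> nlinarith
  omega

theorem normal_sum {w : GolayPt → ℤ} {D : Finset GolayPt} (T : Finset GolayPt)
    (h1 : ∀ p, signFlip D w p % 4 = 1) :
    ∑ p ∈ T, (signFlip D w p ^ 2 - 1) ≤ sqNorm w - 24 := by
  rw [← sqNorm_signFlip D w, ← sum_sq_sub_one]
  refine Finset.sum_le_sum_of_subset_of_nonneg (Finset.subset_univ T) fun p _ _ => ?_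
  have := h1 p
  rcases (by omega : 1 ≤ signFlip D w p ∨ signFlip D w p ≤ -1) with h | h <;> nlinarith

theorem even_vals {w : GolayPt → ℤ} {N : ℤ} (hn : sqNorm w = N) (hN : N ≤ 48) {C : Finset GolayPt}
    (hC : CodeSet C) (hin : ∀ p ∈ C, w p % 4 = 2) (hout : ∀ p ∉ C, w p % 4 = 0) (p : GolayPt) :
    (p ∈ C → w p = 2 ∨ w p = -2) ∧ (p ∉ C → w p = 0 ∨ ((w p = 4 ∨ w p = -4) ∧ (C.card : ℤ) * 4 ≤ N - 16)) := by
  have hb := abs_le_of_sqNorm hn.le p
  have : -6 ≤ w p ∧ w p ≤ 6 := by constructor <;> nlinarith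
  have h4 : ∀ q ∈ C, 4 ≤ w q ^ 2 := fun q hq => by
    have := hin q hq
    rcases (by omega : 2 ≤ w q ∨ w q ≤ -2) with h | h <;> nlinarith
  constructor
  · intro hp
    have := hin p hp
    have h2 := Finset.add_sum_erase C (fun q => w q ^ 2) hp
    have h7 : ((C.erase p).card : ℤ) * 4 ≤ ∑ q ∈ C.erase p, w q ^ 2 := by
      simpa using Finset.card_nsmul_le_sum (C.erase p) (fun q => w q ^ 2) 4
        fun q hq => h4 q (Finset.mem_of_mem_erase hq)
    have h8 := eight_le_card hC ⟨p, hp⟩
    rw [Finset.card_erase_of_mem hp] at h7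
    have hs := Finset.sum_le_sum_of_subset_of_nonneg (f := fun q => w q ^ 2) (Finset.subset_univ C)
      fun q _ _ => sq_nonneg _
    rw [sqNorm] at hn
    have hle : w p ^ 2 ≤ 20 := by omega
    have : -4 ≤ w p ∧ w p ≤ 4 := by constructor <;> nlinarith
    omega
  · intro hp
    have := hout p hp
    by_cases h0 : w p = 0
    · exact Or.inl h0
    refine Or.inr ⟨by omega, ?_⟩
    have h16 : w p ^ 2 = 16 := by
      rcases (by omega : w p = 4 ∨ w p = -4) with h | h <;> rw [h] <;> norm_num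
    have hlo : (C.card : ℤ) * 4 ≤ ∑ q ∈ C, w q ^ 2 := by
      simpa using Finset.card_nsmul_le_sum C (fun q => w q ^ 2) 4 h4
    have hs := Finset.sum_le_sum_of_subset_of_nonneg (f := fun q => w q ^ 2) (Finset.subset_univ (insert p C))
      fun q _ _ => sq_nonneg _
    rw [Finset.sum_insert hp, h16] at hs
    rw [sqNorm] at hn
    omega

/-- Inner product `-16`: moving to coordinates with one vanishing. -/
theorem exists_refine16 {v w : leechLattice} (hv : (v : GolayPt → ℤ) = base32)
    (hwn : sqNorm (w : GolayPt → ℤ) = 32)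
    (hd : (w : GolayPt → ℤ) (pt 0) + (w : GolayPt → ℤ) (pt 1) = -4) :
    ∃ g : Co0, ((g • v : leechLattice) : GolayPt → ℤ) = base32 ∧
      ((g • w : leechLattice) : GolayPt → ℤ) (pt 0) = -4 ∧
      ((g • w : leechLattice) : GolayPt → ℤ) (pt 1) = 0 := by
  classical
  suffices ∃ z ∈ leechLattice, sqNorm z = 32 ∧ dotInt z base32 = 0 ∧
      (dotInt (w : GolayPt → ℤ) z = 16 ∨ dotInt (w : GolayPt → ℤ) z = -16) by
    obtain ⟨z, hz, hzn, hzd, hwz⟩ := this
    rcases hwz with h | h
    · obtain ⟨g, h1, h2, h3⟩ := exists_refine hv (neg_mem hz) (by rw [sqNorm_neg, hzn])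
        (by rw [dotInt_comm, dotInt_neg_right, dotInt_comm, hzd]; rfl) w
      rw [dotInt_neg_right, h] at h3
      exact ⟨g, h1, by omega, by omega⟩
    · obtain ⟨g, h1, h2, h3⟩ := exists_refine hv hz hzn hzd w
      rw [h] at h3
      exact ⟨g, h1, by omega, by omega⟩
  by_cases hodd : (w : GolayPt → ℤ) none % 2 = 1
  · obtain ⟨D, hD, h1⟩ := exists_normal_odd w.2 hodd
    have hone : ∀ p, p ≠ pt 0 → p ≠ pt 1 → signFlip D w p = 1 := by
      intro p hp0 hp1
      by_contra hne
      have hs := normal_sum ({pt 0, pt 1, p} : Finset GolayPt) h1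
      rw [hwn, Finset.sum_insert (by simp [hp0.symm, (show pt 0 ≠ pt 1 by decide +kernel)]),
        Finset.sum_pair hp1.symm] at hs
      have e0 : signFlip D w (pt 0) = (w : GolayPt → ℤ) (pt 0) ∨
          signFlip D w (pt 0) = -(w : GolayPt → ℤ) (pt 0) := by rw [signFlip_apply]; split <;> simp
      have e1 : signFlip D w (pt 1) = (w : GolayPt → ℤ) (pt 1) ∨
          signFlip D w (pt 1) = -(w : GolayPt → ℤ) (pt 1) := by rw [signFlip_apply]; split <;> simp
      rcases (normal_vals hwn (by norm_num) h1 p).resolve_left hne with h | h <;>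
        rcases normal_vals hwn (by norm_num) h1 (pt 0) with h' | h' | h' <;>
          rcases normal_vals hwn (by norm_num) h1 (pt 1) with h'' | h'' | h'' <;>
            rw [h, h', h''] at hs <;> norm_num at hs <;> omega
    obtain ⟨z, hz, hzn, hzd, h⟩ := exists_z_octad hD hone
    exact ⟨z, hz, hzn, hzd, Or.inl h⟩
  · obtain ⟨C, hC, hin, hout⟩ := even_cases w.2 hodd
    by_cases h0 : pt 0 ∈ C
    · obtain ⟨a, ha, b, hb, hab⟩ := Finset.one_lt_card.1 (show 1 < ((C.erase (pt 0)).erase (pt 1)).card by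
        have := eight_le_card hC ⟨_, h0⟩
        have := Finset.pred_card_le_card_erase (s := C) (a := pt 0)
        have := Finset.pred_card_le_card_erase (s := C.erase (pt 0)) (a := pt 1)
        omega)
      simp only [Finset.mem_erase] at ha hb
      have va := (even_vals hwn (by norm_num) hC hin hout a).1 ha.2.2
      have vb := (even_vals hwn (by norm_num) hC hin hout b).1 hb.2.2
      obtain ⟨z, hz, hzn, hzd, h⟩ := exists_z_pair (w := (w : GolayPt → ℤ)) a b hab ⟨ha.2.1, ha.1⟩
        ⟨hb.2.1, hb.1⟩ (2 * (w : GolayPt → ℤ) a) (2 * (w : GolayPt → ℤ) b) (by omega) (by omega)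
      refine ⟨z, hz, hzn, hzd, Or.inl ?_⟩
      rcases va with h' | h' <;> rcases vb with h'' | h'' <;> rw [h, h', h''] <;> norm_num
    · refine ⟨base32neg, base32neg_mem.1, base32neg_mem.2, by rw [dotInt_base32]; decide +kernel, ?_⟩
      rw [dotInt_base32neg]
      rcases (even_vals hwn (by norm_num) hC hin hout (pt 0)).2 h0 with h | h <;>
        by_cases h1 : pt 1 ∈ C
      · have := (even_vals hwn (by norm_num) hC hin hout (pt 1)).1 h1; omega
      · have := (even_vals hwn (by norm_num) hC hin hout (pt 1)).2 h1; omega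
      · have := (even_vals hwn (by norm_num) hC hin hout (pt 1)).1 h1; omega
      · have := (even_vals hwn (by norm_num) hC hin hout (pt 1)).2 h1; omega

/-- Inner product `-8`: moving to coordinates with one vanishing. -/
theorem exists_refine8 {v w : leechLattice} (hv : (v : GolayPt → ℤ) = base32)
    (hwn : sqNorm (w : GolayPt → ℤ) = 32)
    (hd : (w : GolayPt → ℤ) (pt 0) + (w : GolayPt → ℤ) (pt 1) = -2) :
    ∃ g : Co0, ((g • v : leechLattice) : GolayPt → ℤ) = base32 ∧
      ((g • w : leechLattice) : GolayPt → ℤ) (pt 0) = -2 ∧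
      ((g • w : leechLattice) : GolayPt → ℤ) (pt 1) = 0 := by
  classical
  suffices ∃ z ∈ leechLattice, sqNorm z = 32 ∧ dotInt z base32 = 0 ∧
      (dotInt (w : GolayPt → ℤ) z = 8 ∨ dotInt (w : GolayPt → ℤ) z = -8) by
    obtain ⟨z, hz, hzn, hzd, hwz⟩ := this
    rcases hwz with h | h
    · obtain ⟨g, h1, h2, h3⟩ := exists_refine hv (neg_mem hz) (by rw [sqNorm_neg, hzn])
        (by rw [dotInt_comm, dotInt_neg_right, dotInt_comm, hzd]; rfl) w
      rw [dotInt_neg_right, h] at h3
      exact ⟨g, h1, by omega, by omega⟩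
    · obtain ⟨g, h1, h2, h3⟩ := exists_refine hv hz hzn hzd w
      rw [h] at h3
      exact ⟨g, h1, by omega, by omega⟩
  by_cases hodd : (w : GolayPt → ℤ) none % 2 = 1
  · obtain ⟨D, hD, h1⟩ := exists_normal_odd w.2 hodd
    have hsign : ∀ p, (w : GolayPt → ℤ) p = signFlip D w p ∨ (w : GolayPt → ℤ) p = -signFlip D w p :=
      fun p => by rw [signFlip_apply]; split <;> simp
    have hone : ∀ p q, p ≠ q → signFlip D w p = 1 ∨ signFlip D w q = 1 := by
      intro p q hpq
      by_contra hne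
      push Not at hne
      have hs := normal_sum ({p, q} : Finset GolayPt) h1
      rw [hwn, Finset.sum_pair hpq] at hs
      rcases (normal_vals hwn (by norm_num) h1 p).resolve_left hne.1 with h | h <;>
        rcases (normal_vals hwn (by norm_num) h1 q).resolve_left hne.2 with h' | h' <;>
          rw [h, h'] at hs <;> norm_num at hs
    obtain ⟨a, b, hab, ha, hb, hua, hub⟩ : ∃ a b : GolayPt, a ≠ b ∧ (a ≠ pt 0 ∧ a ≠ pt 1) ∧
        (b ≠ pt 0 ∧ b ≠ pt 1) ∧ signFlip D w a = 1 ∧ signFlip D w b = 1 := by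
      have d : pt 2 ≠ pt 3 ∧ pt 2 ≠ pt 4 ∧ pt 3 ≠ pt 4 := by decide +kernel
      have n2 := ne_zero_one_list 2 (by simp)
      have n3 := ne_zero_one_list 3 (by simp)
      have n4 := ne_zero_one_list 4 (by simp)
      rcases hone _ _ d.1 with h | h <;> rcases hone _ _ d.2.1 with h' | h' <;>
        rcases hone _ _ d.2.2 with h'' | h''
      all_goals first
        | exact ⟨_, _, d.1, n2, n3, by assumption, by assumption⟩
        | exact ⟨_, _, d.2.1, n2, n4, by assumption, by assumption⟩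
        | exact ⟨_, _, d.2.2, n3, n4, by assumption, by assumption⟩
    have va : (w : GolayPt → ℤ) a = 1 ∨ (w : GolayPt → ℤ) a = -1 := by
      rcases hsign a with h | h <;> rw [hua] at h <;> simp [h]
    have vb : (w : GolayPt → ℤ) b = 1 ∨ (w : GolayPt → ℤ) b = -1 := by
      rcases hsign b with h | h <;> rw [hub] at h <;> simp [h]
    obtain ⟨z, hz, hzn, hzd, h⟩ := exists_z_pair (w := (w : GolayPt → ℤ)) a b hab ha hb
      (4 * (w : GolayPt → ℤ) a) (4 * (w : GolayPt → ℤ) b) (by omega) (by omega)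
    refine ⟨z, hz, hzn, hzd, Or.inl ?_⟩
    rcases va with h' | h' <;> rcases vb with h'' | h'' <;> rw [h, h', h''] <;> norm_num
  · obtain ⟨C, hC, hin, hout⟩ := even_cases w.2 hodd
    refine ⟨base32neg, base32neg_mem.1, base32neg_mem.2, by rw [dotInt_base32]; decide +kernel, ?_⟩
    rw [dotInt_base32neg]
    by_cases h0 : pt 0 ∈ C <;> by_cases h1 : pt 1 ∈ C
    · have := (even_vals hwn (by norm_num) hC hin hout (pt 0)).1 h0
      have := (even_vals hwn (by norm_num) hC hin hout (pt 1)).1 h1; omega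
    · have := (even_vals hwn (by norm_num) hC hin hout (pt 0)).1 h0
      have h := (even_vals hwn (by norm_num) hC hin hout (pt 1)).2 h1
      have := eight_le_card hC ⟨_, h0⟩; omega
    · have := (even_vals hwn (by norm_num) hC hin hout (pt 1)).1 h1
      have h := (even_vals hwn (by norm_num) hC hin hout (pt 0)).2 h0
      have := eight_le_card hC ⟨_, h1⟩; omega
    · have := (even_vals hwn (by norm_num) hC hin hout (pt 1)).2 h1
      have := (even_vals hwn (by norm_num) hC hin hout (pt 0)).2 h0; omega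

/-- Inner product 16 with a vector of squared length 48. -/
theorem exists_refine48 {x u : leechLattice} (hx : (x : GolayPt → ℤ) = base32)
    (hun : sqNorm (u : GolayPt → ℤ) = 48)
    (hd : (u : GolayPt → ℤ) (pt 0) + (u : GolayPt → ℤ) (pt 1) = 4) :
    ∃ g : Co0, ((g • x : leechLattice) : GolayPt → ℤ) = base32 ∧
      ((g • u : leechLattice) : GolayPt → ℤ) (pt 0) = 4 ∧
      ((g • u : leechLattice) : GolayPt → ℤ) (pt 1) = 0 := by
  classical
  suffices ∃ z ∈ leechLattice, sqNorm z = 32 ∧ dotInt z base32 = 0 ∧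
      (dotInt (u : GolayPt → ℤ) z = 16 ∨ dotInt (u : GolayPt → ℤ) z = -16) by
    obtain ⟨z, hz, hzn, hzd, hwz⟩ := this
    rcases hwz with h | h
    · obtain ⟨g, h1, h2, h3⟩ := exists_refine hx hz hzn hzd u
      rw [h] at h3
      exact ⟨g, h1, by omega, by omega⟩
    · obtain ⟨g, h1, h2, h3⟩ := exists_refine hx (neg_mem hz) (by rw [sqNorm_neg, hzn])
        (by rw [dotInt_comm, dotInt_neg_right, dotInt_comm, hzd]; rfl) u
      rw [dotInt_neg_right, h] at h3
      exact ⟨g, h1, by omega, by omega⟩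
  by_cases hodd : (u : GolayPt → ℤ) none % 2 = 1
  · obtain ⟨D, hD, h1⟩ := exists_normal_odd u.2 hodd
    have hsign : ∀ p, (u : GolayPt → ℤ) p = signFlip D u p ∨ (u : GolayPt → ℤ) p = -signFlip D u p :=
      fun p => by rw [signFlip_apply]; split <;> simp
    have e0 := hsign (pt 0)
    have e1 := hsign (pt 1)
    have h01 : (pt 0 : GolayPt) ≠ pt 1 := by decide +kernel
    by_cases hthree : ∃ a, a ≠ pt 0 ∧ a ≠ pt 1 ∧ signFlip D u a = -3
    · obtain ⟨a, ha0, ha1, hua⟩ := hthree
      obtain ⟨b, hab, hb, hub⟩ : ∃ b, a ≠ b ∧ (b ≠ pt 0 ∧ b ≠ pt 1) ∧ signFlip D u b = 1 := by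
        by_contra hno
        push Not at hno
        have hd' : pt 2 ≠ pt 3 ∧ pt 2 ≠ pt 4 ∧ pt 3 ≠ pt 4 ∧ pt 2 ≠ pt 5 ∧ pt 3 ≠ pt 5 ∧
            pt 4 ≠ pt 5 := by decide +kernel
        have hs := normal_sum ((({pt 2, pt 3, pt 4, pt 5} : Finset GolayPt)).erase a) h1
        have hlow : ∀ p ∈ (({pt 2, pt 3, pt 4, pt 5} : Finset GolayPt)).erase a,
            (8 : ℤ) ≤ signFlip D u p ^ 2 - 1 := by
          intro p hp
          obtain ⟨hpa, hp⟩ := Finset.mem_erase.1 hp
          simp only [Finset.mem_insert, Finset.mem_singleton] at hp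
          have hne := hno p hpa.symm (by rcases hp with rfl | rfl | rfl | rfl <;> exact ne_zero_one_list _ (by simp))
          rcases (normal_vals hun (by norm_num) h1 p).resolve_left hne with h | h <;> rw [h] <;> norm_num
        have h3 : 3 ≤ ((({pt 2, pt 3, pt 4, pt 5} : Finset GolayPt)).erase a).card := by
          have h4 : ({pt 2, pt 3, pt 4, pt 5} : Finset GolayPt).card = 4 := by decide +kernel
          have := Finset.pred_card_le_card_erase (s := ({pt 2, pt 3, pt 4, pt 5} : Finset GolayPt)) (a := a)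
          omega
        have hle := Finset.card_nsmul_le_sum _ (fun p => signFlip D u p ^ 2 - 1) 8 hlow
        rw [nsmul_eq_mul] at hle
        have hs' := normal_sum (insert a ((({pt 2, pt 3, pt 4, pt 5} : Finset GolayPt)).erase a)) h1
        rw [hun, Finset.sum_insert (Finset.notMem_erase a _), hua] at hs'
        have h3' : (3 : ℤ) ≤ ((({pt 2, pt 3, pt 4, pt 5} : Finset GolayPt)).erase a).card := by exact_mod_cast h3
        linarith
      have va : (u : GolayPt → ℤ) a = 3 ∨ (u : GolayPt → ℤ) a = -3 := by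
        rcases hsign a with h | h <;> rw [hua] at h <;> simp [h]
      have vb : (u : GolayPt → ℤ) b = 1 ∨ (u : GolayPt → ℤ) b = -1 := by
        rcases hsign b with h | h <;> rw [hub] at h <;> simp [h]
      obtain ⟨z, hz, hzn, hzd, h⟩ := exists_z_pair (w := (u : GolayPt → ℤ)) a b hab ⟨ha0, ha1⟩ hb
        (if (u : GolayPt → ℤ) a = 3 then 4 else -4) (4 * (u : GolayPt → ℤ) b) (by split <;> omega)
        (by omega)
      refine ⟨z, hz, hzn, hzd, Or.inl ?_⟩
      rcases va with h' | h' <;> rcases vb with h'' | h'' <;> rw [h, h', h''] <;> norm_num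
    · push Not at hthree
      have hone : ∀ p, p ≠ pt 0 → p ≠ pt 1 → signFlip D u p = 1 := by
        intro p hp0 hp1
        by_contra hne
        have h5 : signFlip D u p = 5 :=
          ((normal_vals hun (by norm_num) h1 p).resolve_left hne).resolve_left (hthree p hp0 hp1)
        have hs := normal_sum ({pt 0, pt 1, p} : Finset GolayPt) h1
        rw [hun, Finset.sum_insert (by simp [hp0.symm, h01]), Finset.sum_pair hp1.symm, h5] at hs
        rcases normal_vals hun (by norm_num) h1 (pt 0) with h' | h' | h' <;>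
          rcases normal_vals hun (by norm_num) h1 (pt 1) with h'' | h'' | h'' <;>
            rw [h', h''] at hs <;> norm_num at hs <;> omega
      obtain ⟨z, hz, hzn, hzd, h⟩ := exists_z_octad hD hone
      exact ⟨z, hz, hzn, hzd, Or.inl h⟩
  · obtain ⟨C, hC, hin, hout⟩ := even_cases u.2 hodd
    by_cases h0 : pt 0 ∈ C
    · obtain ⟨a, ha, b, hb, hab⟩ := Finset.one_lt_card.1 (show 1 < ((C.erase (pt 0)).erase (pt 1)).card by
        have := eight_le_card hC ⟨_, h0⟩
        have := Finset.pred_card_le_card_erase (s := C) (a := pt 0)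
        have := Finset.pred_card_le_card_erase (s := C.erase (pt 0)) (a := pt 1)
        omega)
      simp only [Finset.mem_erase] at ha hb
      have va := (even_vals hun (by norm_num) hC hin hout a).1 ha.2.2
      have vb := (even_vals hun (by norm_num) hC hin hout b).1 hb.2.2
      obtain ⟨z, hz, hzn, hzd, h⟩ := exists_z_pair (w := (u : GolayPt → ℤ)) a b hab ⟨ha.2.1, ha.1⟩
        ⟨hb.2.1, hb.1⟩ (2 * (u : GolayPt → ℤ) a) (2 * (u : GolayPt → ℤ) b) (by omega) (by omega)
      refine ⟨z, hz, hzn, hzd, Or.inl ?_⟩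
      rcases va with h' | h' <;> rcases vb with h'' | h'' <;> rw [h, h', h''] <;> norm_num
    · refine ⟨base32neg, base32neg_mem.1, base32neg_mem.2, by rw [dotInt_base32]; decide +kernel, ?_⟩
      rw [dotInt_base32neg]
      by_cases h1 : pt 1 ∈ C
      · have := (even_vals hun (by norm_num) hC hin hout (pt 0)).2 h0
        have := (even_vals hun (by norm_num) hC hin hout (pt 1)).1 h1; omega
      · have := (even_vals hun (by norm_num) hC hin hout (pt 0)).2 h0
        have := (even_vals hun (by norm_num) hC hin hout (pt 1)).2 h1; omega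

/-- Permutations of the code fixing the base octad and the fifth point, one for each further point. -/
def stabPerms : List (List ℕ) :=
  [[0, 1, 2, 3, 4, 5, 6, 7, 8, 9, 10, 11, 12, 13, 14, 15, 16, 17, 18, 19, 20, 21, 22, 23],
    [1, 2, 0, 3, 4, 5, 8, 12, 20, 19, 7, 15, 10, 22, 14, 21, 13, 17, 9, 18, 6, 11, 16, 23],
    [2, 4, 10, 1, 0, 5, 9, 12, 17, 6, 3, 13, 7, 20, 14, 8, 19, 15, 11, 23, 22, 18, 21, 16],
    [0, 12, 4, 3, 2, 5, 11, 7, 9, 8, 10, 6, 1, 14, 13, 22, 19, 18, 17, 16, 20, 21, 15, 23],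
    [4, 12, 1, 0, 3, 5, 13, 10, 20, 19, 2, 8, 7, 9, 22, 16, 18, 14, 17, 15, 6, 23, 21, 11],
    [3, 12, 7, 2, 4, 5, 14, 10, 11, 21, 1, 18, 0, 15, 13, 16, 9, 17, 22, 8, 19, 6, 23, 20],
    [0, 10, 7, 12, 4, 5, 15, 3, 14, 18, 1, 23, 2, 17, 11, 19, 21, 13, 16, 22, 20, 9, 6, 8],
    [2, 0, 4, 10, 3, 5, 16, 1, 14, 20, 7, 19, 12, 8, 11, 17, 9, 6, 15, 22, 18, 13, 21, 23],
    [3, 12, 10, 4, 1, 5, 17, 2, 18, 13, 7, 8, 0, 6, 20, 22, 15, 11, 21, 14, 23, 19, 9, 16],
    [0, 3, 10, 12, 4, 5, 18, 2, 20, 8, 7, 16, 1, 11, 6, 15, 13, 17, 14, 19, 9, 23, 21, 22],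
    [7, 2, 4, 12, 1, 5, 19, 0, 20, 17, 10, 21, 3, 23, 15, 16, 14, 18, 6, 22, 13, 8, 9, 11],
    [0, 4, 2, 1, 10, 5, 20, 7, 16, 6, 12, 14, 3, 15, 19, 22, 13, 9, 11, 23, 21, 17, 8, 18],
    [1, 7, 4, 0, 12, 5, 21, 3, 6, 9, 2, 20, 10, 19, 15, 11, 18, 8, 16, 13, 14, 17, 22, 23],
    [0, 10, 12, 7, 4, 5, 22, 2, 23, 21, 1, 14, 3, 17, 8, 6, 18, 13, 9, 15, 20, 16, 19, 11],
    [2, 4, 1, 7, 3, 5, 23, 10, 18, 11, 0, 14, 12, 20, 6, 21, 16, 22, 13, 8, 15, 19, 9, 17]]

theorem stabPerms_ok : (∀ L ∈ stabPerms, m24Test L = true ∧ imgMask L baseOctad = baseOctad ∧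
      L.getD 5 0 = 5) ∧
    ∀ i < 24, baseOctad.testBit i = false → i ≠ 5 → ∃ L ∈ stabPerms, L.getD 6 0 = i := by
  decide +kernel

theorem exists_map_octad_two {o : Finset GolayPt} (ho : o ∈ octads) {a b : GolayPt} (ha : a ∉ o)
    (hb : b ∉ o) (hab : a ≠ b) :
    ∃ g ∈ M24, g • toSet baseOctad = o ∧ g (pt 5) = a ∧ g (pt 6) = b := by
  obtain ⟨g, hg, hgo, hga⟩ := exists_map_octad_point ho ha
  have hout : baseOctad.testBit (ptEquiv (g⁻¹ b)).val = false := by
    rw [Bool.eq_false_iff]
    intro h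
    refine hb ?_
    have := Finset.smul_mem_smul_finset (a := g) (mem_toSet.2 h)
    rw [hgo] at this
    simpa using this
  have hne : (ptEquiv (g⁻¹ b)).val ≠ 5 := fun h => hab (by
    rw [← hga, show pt 5 = g⁻¹ b by rw [← h, pt_ptEquiv]]; simp)
  obtain ⟨L, hL, hL6⟩ := stabPerms_ok.2 _ (ptEquiv _).isLt hout hne
  obtain ⟨hT, hmask, hfix⟩ := stabPerms_ok.1 L hL
  have hv : validL 24 L = true := by
    simp only [m24Test, Bool.and_eq_true] at hT; exact hT.1
  refine ⟨g * permOf ptEquiv L, mul_mem hg (mem_M24_of_test hT), ?_, ?_, ?_⟩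
  · rw [mul_smul, smul_toSet hv, hmask, hgo]
  · rw [Equiv.Perm.mul_apply, show permOf ptEquiv L (pt 5) = pt 5 from ptEquiv.injective (Fin.ext (by
      rw [permOf_apply ptEquiv hv, ptEquiv_pt (by omega), hfix])), hga]
  · rw [Equiv.Perm.mul_apply, show permOf ptEquiv L (pt 6) = g⁻¹ b from ptEquiv.injective (Fin.ext (by
      rw [permOf_apply ptEquiv hv, ptEquiv_pt (by omega), hL6]))]
    simp

theorem exists_map_octad_in_out {o : Finset GolayPt} (ho : o ∈ octads) {p q : GolayPt} (hp : p ∈ o)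
    (hq : q ∉ o) : ∃ g ∈ M24, g • toSet baseOctad = o ∧ g (pt 0) = p ∧ g (pt 5) = q := by
  classical
  have h8 : o.card = 8 := ho.2
  obtain ⟨T, hT, hT4⟩ := Finset.exists_subset_card_eq (s := o.erase p) (n := 4)
    (by rw [Finset.card_erase_of_mem hp]; omega)
  have hpT : p ∉ T := fun h => (Finset.mem_erase.1 (hT h)).1 rfl
  obtain ⟨g, hg, hgi⟩ := exists_map_five (p :: T.toList) (by simp [hT4])
    (List.nodup_cons.2 ⟨by simpa using hpT, T.nodup_toList⟩)
  have hgo : g • toSet baseOctad = o := by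
    refine octad_unique (octads_smul hg baseOctad_mem) ho ?_
    have h5 : (insert p T).card = 5 := by rw [Finset.card_insert_of_notMem hpT, hT4]
    rw [← h5]
    refine Finset.card_le_card fun x hx => Finset.mem_inter.2 ⟨?_, ?_⟩
    · obtain ⟨i, hi, rfl⟩ := List.mem_iff_getElem.1 (show x ∈ p :: T.toList by simpa using hx)
      have hi5 : i < 5 := by simpa [hT4] using hi
      rw [← hgi i hi5]
      refine Finset.smul_mem_smul_finset ((pt_mem_toSet (by omega)).2 ?_)
      interval_cases i <;> decide +kernel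
    · rcases Finset.mem_insert.1 hx with rfl | h
      · exact hp
      · exact Finset.mem_of_mem_erase (hT h)
  have hgp : g (pt 0) = p := hgi 0 (by omega)
  have hreps : RepsMem ptEquiv M24 [lastLevel] :=
    chainCheck_reps _ _ lastLevel_check m24ChainGens_mem
  obtain ⟨hT', himg, -⟩ := level_facts ptEquiv M24 (chainCheck_ok lastLevel_check) hreps
  obtain ⟨hb, himgs, -⟩ := lastLevel_facts
  have h5 : (ptEquiv (pt 5)).val = lastLevel.base := by rw [hb, ptEquiv_pt (by omega)]
  have hout : (ptEquiv (g⁻¹ q)).val ∈ lastLevel.imgs := by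
    refine himgs _ (ptEquiv _).isLt ?_
    rw [Bool.eq_false_iff]
    intro h
    refine hq ?_
    have := Finset.smul_mem_smul_finset (a := g) (mem_toSet.2 h)
    rw [hgo] at this
    simpa using this
  rw [← himg (pt 5) h5] at hout
  obtain ⟨t, ht, hte⟩ := List.mem_map.1 hout
  have htp : t (pt 5) = g⁻¹ q := ptEquiv.injective (Fin.ext hte)
  refine ⟨g * t, mul_mem hg (hT' t ht).1, ?_, ?_, ?_⟩
  · rw [mul_smul, invOn_baseOctad M24 le_rfl t (hT' t ht).1 fun q hq => (hT' t ht).2 q (by
      simp only [List.mem_cons, List.not_mem_nil, or_false] at hq ⊢; omega), hgo]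
  · rw [Equiv.Perm.mul_apply, (hT' t ht).2 (pt 0) (by rw [ptEquiv_pt (by omega)]; simp), hgp]
  · rw [Equiv.Perm.mul_apply, htp]; simp

/-- Sign changes that are even on the base octad and trivial at the fifth and sixth point. -/
theorem exists_code_even (E : Finset GolayPt) (hE : E ⊆ toSet baseOctad) (hev : 2 ∣ E.card) :
    ∃ c, CodeSet c ∧ (∀ q ∈ toSet baseOctad, q ∈ c ↔ q ∈ E) ∧ pt 5 ∉ c ∧ pt 6 ∉ c := by
  classical
  set U := insert (pt 6) (insert (pt 5) (toSet baseOctad)) with hU
  have hwit : ∀ x ∈ toSet baseOctad, x ≠ pt 0 →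
      ∃ n ∈ [9347075, 1302533, 11100169, 6053905, 14254209, 7767041, 13062145],
        inCode n = true ∧ toSet n ∩ U = {pt 0, x} := by
    rw [hU]; decide +kernel
  have h0 : pt 5 ∉ toSet baseOctad ∧ pt 6 ∉ toSet baseOctad := by decide +kernel
  let R : Finset GolayPt → Prop := fun S => ∃ c, CodeSet c ∧ c ∩ U = S
  have hadd : ∀ {S T}, R S → R T → R (S ∆ T) := by
    rintro S T ⟨c, hc, rfl⟩ ⟨c', hc', rfl⟩
    exact ⟨c ∆ c', codeSet_symmDiff hc hc', inf_symmDiff_distrib_right c c' U⟩
  have hpair : ∀ x ∈ toSet baseOctad, ∀ y ∈ toSet baseOctad, x ≠ y → R {x, y} := by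
    intro x hx y hy hxy
    have one : ∀ z ∈ toSet baseOctad, z ≠ pt 0 → R {pt 0, z} := fun z hz hz0 => by
      obtain ⟨n, -, hn, he⟩ := hwit z hz hz0
      exact ⟨_, mem_supports.2 ⟨n, mem_golayList_of_inCode hn, rfl⟩, he⟩
    rcases eq_or_ne x (pt 0) with rfl | hx0
    · exact one y hy hxy.symm
    rcases eq_or_ne y (pt 0) with rfl | hy0
    · rw [Finset.pair_comm]; exact one x hx hx0
    convert hadd (one x hx hx0) (one y hy hy0) using 1
    ext z
    simp only [Finset.mem_insert, Finset.mem_singleton, Finset.mem_symmDiff]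
    constructor
    · rintro (rfl | rfl)
      · exact Or.inl ⟨Or.inr rfl, not_or.2 ⟨hx0, hxy⟩⟩
      · exact Or.inr ⟨Or.inr rfl, not_or.2 ⟨hy0, hxy.symm⟩⟩
    · rintro (⟨h1, h2⟩ | ⟨h1, h2⟩) <;> push Not at h2 <;> tauto
  have hbase : ∀ n, ∀ S : Finset GolayPt, S.card = 2 * n → S ⊆ toSet baseOctad → R S := by
    intro n
    induction n with
    | zero =>
      intro S hS _
      rw [Finset.card_eq_zero.1 (by omega : S.card = 0)]
      exact ⟨∅, codeSet_empty, Finset.empty_inter _⟩
    | succ n ih =>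
      intro S hS hsub
      obtain ⟨x, hx⟩ := Finset.card_pos.1 (by omega : 0 < S.card)
      obtain ⟨y, hy⟩ := Finset.card_pos.1 (by rw [Finset.card_erase_of_mem hx]; omega : 0 < (S.erase x).card)
      have hrec := ih ((S.erase x).erase y)
        (by rw [Finset.card_erase_of_mem hy, Finset.card_erase_of_mem hx]; omega)
        (((Finset.erase_subset _ _).trans (Finset.erase_subset _ _)).trans hsub)
      have hyS := Finset.mem_of_mem_erase hy
      convert hadd (hpair x (hsub hx) y (hsub hyS) (Finset.mem_erase.1 hy).1.symm) hrec using 1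
      ext z
      simp only [Finset.mem_symmDiff, Finset.mem_insert, Finset.mem_singleton, Finset.mem_erase]
      by_cases hzx : z = x
      · subst hzx; simp [hx]
      · by_cases hzy : z = y
        · subst hzy; simp [hyS]
        · simp [hzx, hzy]
  obtain ⟨k, hk⟩ := hev
  obtain ⟨c, hc, hcU⟩ := hbase k E hk hE
  refine ⟨c, hc, fun q hq => ?_, fun h => h0.1 (hE ?_), fun h => h0.2 (hE ?_)⟩
  · rw [← hcU]; simp [hU, hq]
  · rw [← hcU]; simp [hU, h]
  · rw [← hcU]; simp [hU, h]

/-- The standard form of a pair with inner product `-16`. -/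
def pair16w : GolayPt → ℤ := fun p => if p = pt 0 then -4 else if p = pt 2 then 4 else 0

theorem exists_pair16 {v w : leechLattice} (hv : sqNorm (v : GolayPt → ℤ) = 32)
    (hw : sqNorm (w : GolayPt → ℤ) = 32) (hd : dotInt (v : GolayPt → ℤ) w = -16) :
    ∃ g : Co0, ((g • v : leechLattice) : GolayPt → ℤ) = base32 ∧
      ((g • w : leechLattice) : GolayPt → ℤ) = pair16w := by
  classical
  obtain ⟨g₁, hg₁⟩ := exists_smul_eq_base32 hv
  have hd₁ : ((g₁ • w : leechLattice) : GolayPt → ℤ) (pt 0) +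
      ((g₁ • w : leechLattice) : GolayPt → ℤ) (pt 1) = -4 := by
    have h := dot_smul_co g₁ w v
    rw [hg₁, dotInt_base32, dotInt_comm (w : GolayPt → ℤ), hd] at h
    omega
  obtain ⟨g₂, hv₂, hw0, hw1⟩ := exists_refine16 (w := g₁ • w) hg₁ (by rw [sqNorm_smul_co, hw]) hd₁
  set W := ((g₂ • g₁ • w : leechLattice) : GolayPt → ℤ) with hW
  have hWn : sqNorm W = 32 := by rw [hW, sqNorm_smul_co, sqNorm_smul_co, hw]
  have hodd : ¬ W none % 2 = 1 := by
    obtain ⟨m, hpar, -, -⟩ := mem_leechLattice_iff.1 (g₂ • g₁ • w).2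
    have h1 := hpar (pt 1)
    have h2 := hpar none
    rw [← hW] at h1 h2
    simp only [Int.ModEq] at h1 h2
    omega
  obtain ⟨C, hC, hin, hout⟩ := even_cases (g₂ • g₁ • w).2 hodd
  rw [← hW] at hin hout
  have h01 : (pt 0 : GolayPt) ≠ pt 1 := by decide +kernel
  have hC0 : C = ∅ := by
    by_contra hne
    have h8 := eight_le_card hC (Finset.nonempty_iff_ne_empty.2 hne)
    have h0 : pt 0 ∉ C := fun h => by have := hin _ h; omega
    have := (even_vals hWn (by norm_num) hC hin hout (pt 0)).2 h0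
    omega
  subst hC0
  have hval : ∀ p, W p = 0 ∨ W p = 4 ∨ W p = -4 := fun p => by
    have := (even_vals hWn (by norm_num) hC hin hout p).2 (Finset.notMem_empty p); omega
  obtain ⟨a, ha0, hane⟩ : ∃ a, a ≠ pt 0 ∧ W a ≠ 0 := by
    by_contra h
    push Not at h
    rw [sqNorm, Finset.sum_eq_single (pt 0) (fun p _ hp => by rw [h p hp]; norm_num) (by simp), hw0] at hWn
    norm_num at hWn
  have ha1 : a ≠ pt 1 := fun h => hane (h ▸ hw1)
  have hsq : W a ^ 2 = 16 := by
    rcases (hval a).resolve_left hane with h | h <;> rw [h] <;> norm_num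
  have hrest : ∀ p, p ≠ pt 0 → p ≠ a → W p = 0 := fun p hp0 hpa => by
    by_contra hne
    have hs := Finset.sum_le_sum_of_subset_of_nonneg (f := fun q => W q ^ 2)
      (Finset.subset_univ ({pt 0, a, p} : Finset GolayPt)) fun q _ _ => sq_nonneg _
    rw [Finset.sum_insert (by simp [ha0.symm, hp0.symm]), Finset.sum_pair hpa.symm, hw0, hsq] at hs
    rw [sqNorm] at hWn
    rcases (hval p).resolve_left hne with h | h <;> rw [h] at hs <;> omega
  obtain ⟨σ, hσ, hσ0, hσ1, hσa⟩ := M24_map_three (d := pt 0) (e := pt 1) (f := pt 2) h01 ha0.symm ha1.symm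
    (by decide +kernel) (by decide +kernel) (by decide +kernel)
  have hcs : ∀ n, inCode n = true → CodeSet (toSet n) := fun n h =>
    mem_supports.2 ⟨n, mem_golayList_of_inCode h, rfl⟩
  have hsep : inCode 13938692 = true ∧ pt 0 ∉ toSet 13938692 ∧ pt 1 ∉ toSet 13938692 ∧
      pt 2 ∈ toSet 13938692 := by decide +kernel
  set c : Finset GolayPt := if W a = 4 then ∅ else toSet 13938692 with hcdef
  have hc : CodeSet c := by
    rw [hcdef]; split
    · exact codeSet_empty
    · exact hcs _ hsep.1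
  have hc01 : pt 0 ∉ c ∧ pt 1 ∉ c := by rw [hcdef]; split <;> simp [hsep.2.1, hsep.2.2.1]
  refine ⟨monoAut σ hσ c hc * (g₂ * g₁), funext fun i => ?_, funext fun i => ?_⟩
  · rw [mul_smul, mul_smul, coe_monoAut_smul, hv₂, base32_eq]
    simp only [signedPerm, Pi.add_apply]
    by_cases h0 : i = pt 0
    · subst h0
      rw [show σ.symm (pt 0) = pt 0 from σ.symm_apply_eq.2 hσ0.symm, if_neg hc01.1]
    · by_cases h1 : i = pt 1
      · subst h1
        rw [show σ.symm (pt 1) = pt 1 from σ.symm_apply_eq.2 hσ1.symm, if_neg hc01.2]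
      · have n0 : σ.symm i ≠ pt 0 := fun h => h0 (by rw [← σ.apply_symm_apply i, h, hσ0])
        have n1 : σ.symm i ≠ pt 1 := fun h => h1 (by rw [← σ.apply_symm_apply i, h, hσ1])
        simp [Pi.single_eq_of_ne h0, Pi.single_eq_of_ne h1, Pi.single_eq_of_ne n0, Pi.single_eq_of_ne n1]
  · rw [mul_smul, mul_smul, coe_monoAut_smul, ← hW]
    simp only [signedPerm, pair16w]
    by_cases h0 : i = pt 0
    · subst h0
      rw [show σ.symm (pt 0) = pt 0 from σ.symm_apply_eq.2 hσ0.symm, if_neg hc01.1, hw0, if_pos rfl]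
    · rw [if_neg h0]
      by_cases h2 : i = pt 2
      · subst h2
        rw [show σ.symm (pt 2) = a from σ.symm_apply_eq.2 hσa.symm, if_pos rfl]
        rcases (hval a).resolve_left hane with h | h
        · rw [hcdef, if_pos h, if_neg (Finset.notMem_empty _), h]
        · rw [hcdef, if_neg (show ¬ W a = 4 by omega), if_pos hsep.2.2.2, h]; norm_num
      · rw [if_neg h2, hrest _ (fun h => h0 (by rw [← σ.apply_symm_apply i, h, hσ0]))
          (fun h => h2 (by rw [← σ.apply_symm_apply i, h, hσa]))]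
        simp

/-- The standard form of a pair with inner product `-8`. -/
def pair8v : GolayPt → ℤ := fun p => if p = pt 0 ∨ p = pt 5 then 4 else 0

/-- The second vector of the standard pair with inner product `-8`. -/
def pair8w : GolayPt → ℤ := fun p =>
  if p = pt 0 ∨ p = pt 1 then -2 else if baseOctad.testBit (ptEquiv p).val then 2 else 0

theorem exists_pair8 {v w : leechLattice} (hv : sqNorm (v : GolayPt → ℤ) = 32)
    (hw : sqNorm (w : GolayPt → ℤ) = 32) (hd : dotInt (v : GolayPt → ℤ) w = -8) :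
    ∃ g : Co0, ((g • v : leechLattice) : GolayPt → ℤ) = pair8v ∧
      ((g • w : leechLattice) : GolayPt → ℤ) = pair8w := by
  classical
  obtain ⟨g₁, hg₁⟩ := exists_smul_eq_base32 hv
  have hd₁ : ((g₁ • w : leechLattice) : GolayPt → ℤ) (pt 0) +
      ((g₁ • w : leechLattice) : GolayPt → ℤ) (pt 1) = -2 := by
    have h := dot_smul_co g₁ w v
    rw [hg₁, dotInt_base32, dotInt_comm (w : GolayPt → ℤ), hd] at h
    omega
  obtain ⟨g₂, hv₂, hw0, hw1⟩ := exists_refine8 (w := g₁ • w) hg₁ (by rw [sqNorm_smul_co, hw]) hd₁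
  set W := ((g₂ • g₁ • w : leechLattice) : GolayPt → ℤ) with hW
  have hWn : sqNorm W = 32 := by rw [hW, sqNorm_smul_co, sqNorm_smul_co, hw]
  obtain ⟨m, hpar, hsum, -⟩ := mem_leechLattice_iff.1 (g₂ • g₁ • w).2
  rw [← hW] at hsum
  have hm : m % 2 = 0 := by
    have h1 := hpar (pt 1)
    rw [← hW] at h1
    simp only [Int.ModEq] at h1
    omega
  have hodd : ¬ W none % 2 = 1 := by
    have h2 := hpar none
    rw [← hW] at h2
    simp only [Int.ModEq] at h2
    omega
  obtain ⟨C, hC, hin, hout⟩ := even_cases (g₂ • g₁ • w).2 hodd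
  rw [← hW] at hin hout
  have h0C : pt 0 ∈ C := by by_contra h; have := hout _ h; omega
  have h1C : pt 1 ∉ C := fun h => by have := hin _ h; omega
  have h8 := eight_le_card hC ⟨_, h0C⟩
  have hsplit := sqNorm_split W C
  have hlo : (C.card : ℤ) * 4 ≤ ∑ p ∈ C, W p ^ 2 := by
    simpa using Finset.card_nsmul_le_sum C (fun p => W p ^ 2) 4 fun q hq => by
      rcases (even_vals hWn (by norm_num) hC hin hout q).1 hq with h | h <;> rw [h] <;> norm_num
  have hnn : 0 ≤ ∑ p ∈ Cᶜ, W p ^ 2 := Finset.sum_nonneg fun p _ => sq_nonneg _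
  have hC8 : C.card = 8 := by omega
  have hzero : ∀ p ∉ C, W p = 0 := fun p hp => by
    rcases (even_vals hWn (by norm_num) hC hin hout p).2 hp with h | h
    · exact h
    · omega
  obtain ⟨τ, hτ, hτC, hτ0, hτ5⟩ := exists_map_octad_in_out (o := C) ⟨hC, hC8⟩ h0C h1C
  have hmem : ∀ q, τ q ∈ C ↔ q ∈ toSet baseOctad := fun q => by
    rw [← hτC, ← Equiv.Perm.smul_def, Finset.smul_mem_smul_finset_iff]
  have hb : pt 0 ∈ toSet baseOctad ∧ pt 1 ∈ toSet baseOctad ∧ pt 5 ∉ toSet baseOctad ∧
      pt 0 ≠ pt 1 ∧ pt 0 ≠ pt 5 := by decide +kernel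
  set N := (toSet baseOctad).filter fun q => W (τ q) < 0 with hN
  have hNpar : 2 ∣ N.card := by
    have hs : ∑ q, W (τ q) = 16 - 4 * (N.card : ℤ) := by
      rw [← Finset.sum_subset (Finset.subset_univ (toSet baseOctad))
        (fun q _ hq => hzero _ fun h => hq ((hmem q).1 h)), hN, Finset.card_filter, Nat.cast_sum,
        Finset.mul_sum, show (16 : ℤ) = ∑ _q ∈ toSet baseOctad, (2 : ℤ) by
          rw [Finset.sum_const, card_toSet, show bitCount baseOctad = 8 by decide +kernel]; rfl,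
        ← Finset.sum_sub_distrib]
      refine Finset.sum_congr rfl fun q hq => ?_
      rcases (even_vals hWn (by norm_num) hC hin hout (τ q)).1 ((hmem q).2 hq) with h | h <;> simp [h]
    rw [Equiv.sum_comp τ W] at hs
    simp only [Int.ModEq] at hsum
    omega
  obtain ⟨c, hc, hcq, hc5, -⟩ := exists_code_even (N ∆ {pt 0, pt 1}) (by
      intro q hq
      rcases Finset.mem_symmDiff.1 hq with ⟨h, -⟩ | ⟨h, -⟩
      · exact (Finset.mem_filter.1 h).1
      · simp only [Finset.mem_insert, Finset.mem_singleton] at h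
        rcases h with rfl | rfl
        exacts [hb.1, hb.2.1]) (by
      have := card_symmDiff_add N {pt 0, pt 1}
      rw [Finset.card_pair hb.2.2.2.1] at this
      omega)
  have h0c : pt 0 ∉ c := by
    rw [hcq _ hb.1]
    simp [Finset.mem_symmDiff, hN, hb.1, hτ0, hw0]
  refine ⟨monoAut τ⁻¹ (inv_mem hτ) c hc * (g₂ * g₁), funext fun q => ?_, funext fun q => ?_⟩
  · rw [mul_smul, mul_smul, coe_monoAut_smul, hv₂]
    show (if q ∈ c then -base32 (τ q) else base32 (τ q)) = pair8v q
    simp only [base32, pair8v]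
    have e0 : τ q = pt 0 ↔ q = pt 0 := ⟨fun h => τ.injective (h.trans hτ0.symm), fun h => by rw [h, hτ0]⟩
    have e1 : τ q = pt 1 ↔ q = pt 5 := ⟨fun h => τ.injective (h.trans hτ5.symm), fun h => by rw [h, hτ5]⟩
    simp only [e0, e1]
    by_cases h : q = pt 0 ∨ q = pt 5
    · rcases h with rfl | rfl
      · simp [h0c]
      · simp [hc5]
    · simp [h]
  · rw [mul_smul, mul_smul, coe_monoAut_smul, ← hW]
    show (if q ∈ c then -W (τ q) else W (τ q)) = pair8w q
    by_cases hq : q ∈ toSet baseOctad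
    · rw [pair8w, if_congr (hcq q hq) rfl rfl]
      simp only [Finset.mem_symmDiff, Finset.mem_insert, Finset.mem_singleton, hN, Finset.mem_filter,
        hq, true_and, mem_toSet.1 hq, if_true]
      rcases (even_vals hWn (by norm_num) hC hin hout (τ q)).1 ((hmem q).2 hq) with h | h <;>
        by_cases h01 : q = pt 0 ∨ q = pt 1 <;> simp [h, h01]
    · rw [hzero _ fun h => hq ((hmem q).1 h), pair8w,
        if_neg (show ¬ (q = pt 0 ∨ q = pt 1) from fun h => hq (by rcases h with rfl | rfl; exacts [hb.1, hb.2.1])),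
        if_neg (show ¬ baseOctad.testBit (ptEquiv q).val = true from fun h => hq (mem_toSet.2 h))]
      simp

/-- The minimal vector of the standard pair with a vector of squared length 48. -/
def pair48x : GolayPt → ℤ := fun p => if p = pt 5 ∨ p = pt 6 then 4 else 0

theorem exists_pair48 {u x : leechLattice} (hu : sqNorm (u : GolayPt → ℤ) = 48)
    (hx : sqNorm (x : GolayPt → ℤ) = 32) (hd : dotInt (u : GolayPt → ℤ) x = 16) :
    ∃ g : Co0, ((g • u : leechLattice) : GolayPt → ℤ) = base48 ∧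
      ((g • x : leechLattice) : GolayPt → ℤ) = pair48x := by
  classical
  obtain ⟨g₁, hg₁⟩ := exists_smul_eq_base32 hx
  have hd₁ : ((g₁ • u : leechLattice) : GolayPt → ℤ) (pt 0) +
      ((g₁ • u : leechLattice) : GolayPt → ℤ) (pt 1) = 4 := by
    have h := dot_smul_co g₁ u x
    rw [hg₁, dotInt_base32, hd] at h
    omega
  obtain ⟨g₂, hx₂, hu0, hu1⟩ := exists_refine48 (u := g₁ • u) hg₁ (by rw [sqNorm_smul_co, hu]) hd₁
  set W := ((g₂ • g₁ • u : leechLattice) : GolayPt → ℤ) with hW
  have hWn : sqNorm W = 48 := by rw [hW, sqNorm_smul_co, sqNorm_smul_co, hu]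
  obtain ⟨m, hpar, hsum, -⟩ := mem_leechLattice_iff.1 (g₂ • g₁ • u).2
  rw [← hW] at hsum
  have hm : m % 2 = 0 := by
    have h1 := hpar (pt 1)
    rw [← hW] at h1
    simp only [Int.ModEq] at h1
    omega
  have hodd : ¬ W none % 2 = 1 := by
    have h2 := hpar none
    rw [← hW] at h2
    simp only [Int.ModEq] at h2
    omega
  obtain ⟨C, hC, hin, hout⟩ := even_cases (g₂ • g₁ • u).2 hodd
  rw [← hW] at hin hout
  have h0C : pt 0 ∉ C := fun h => by have := hin _ h; omega
  have h1C : pt 1 ∉ C := fun h => by have := hin _ h; omega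
  have hne : C.Nonempty := by
    -- otherwise three coordinates ±4
    by_contra h
    rw [Finset.not_nonempty_iff_eq_empty] at h
    subst h
    have hz : ∀ p, ∃ z, W p = 4 * z ∧ (z = -1 ∨ z = 0 ∨ z = 1) := fun p => by
      have := (even_vals hWn (by norm_num) hC hin hout p).2 (Finset.notMem_empty p)
      exact ⟨W p / 4, by omega, by omega⟩
    choose z hz hz1 using hz
    have e1 : ∑ p, W p = 4 * ∑ p, z p := by
      rw [Finset.mul_sum]; exact Finset.sum_congr rfl fun p _ => hz p
    have e2 : sqNorm W = 16 * ∑ p, z p ^ 2 := by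
      rw [Finset.mul_sum]; exact Finset.sum_congr rfl fun p _ => by rw [hz p]; ring
    have e3 : ((∑ p, z p ^ 2 : ℤ) : ZMod 2) = ((∑ p, z p : ℤ) : ZMod 2) := by
      push_cast
      refine Finset.sum_congr rfl fun p _ => ?_
      rcases hz1 p with h | h | h <;> simp [h]
    rw [(ZMod.intCast_zmod_eq_zero_iff_dvd (∑ p, z p) 2).2 (by
      rw [e1] at hsum; simp only [Int.ModEq] at hsum; omega),
      ZMod.intCast_zmod_eq_zero_iff_dvd] at e3
    omega
  have h8 := eight_le_card hC hne
  have hsplit := sqNorm_split W C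
  rw [hWn, ← Finset.add_sum_erase Cᶜ (fun p => W p ^ 2) (Finset.mem_compl.2 h0C), hu0] at hsplit
  have hlo : (C.card : ℤ) * 4 ≤ ∑ p ∈ C, W p ^ 2 := by
    simpa using Finset.card_nsmul_le_sum C (fun p => W p ^ 2) 4 fun q hq => by
      rcases (even_vals hWn (by norm_num) hC hin hout q).1 hq with h | h <;> rw [h] <;> norm_num
  have hnn : 0 ≤ ∑ p ∈ (Cᶜ : Finset GolayPt).erase (pt 0), W p ^ 2 :=
    Finset.sum_nonneg fun p _ => sq_nonneg _
  have hC8 : C.card = 8 := by omega
  have hzero : ∀ p ∉ C, p ≠ pt 0 → W p = 0 := fun p hp hp0 => by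
    have := (Finset.sum_eq_zero_iff_of_nonneg fun q _ => sq_nonneg (W q)).1 (by omega :
      ∑ q ∈ (Cᶜ : Finset GolayPt).erase (pt 0), W q ^ 2 = 0) p
      (Finset.mem_erase.2 ⟨hp0, Finset.mem_compl.2 hp⟩)
    simpa using this
  obtain ⟨τ, hτ, hτC, hτ5, hτ6⟩ := exists_map_octad_two (o := C) ⟨hC, hC8⟩ h0C h1C
    (by decide +kernel)
  have hmem : ∀ q, τ q ∈ C ↔ q ∈ toSet baseOctad := fun q => by
    rw [← hτC, ← Equiv.Perm.smul_def, Finset.smul_mem_smul_finset_iff]
  have hb : pt 0 ∈ toSet baseOctad ∧ pt 5 ∉ toSet baseOctad ∧ pt 6 ∉ toSet baseOctad ∧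
      pt 5 ≠ pt 6 := by decide +kernel
  set N := (toSet baseOctad).filter fun q => W (τ q) < 0 with hN
  have hNpar : N.card % 2 = 1 := by
    have hs : ∑ q, W (τ q) = 4 + (16 - 4 * (N.card : ℤ)) := by
      rw [← Finset.sum_subset (Finset.subset_univ (insert (pt 5) (toSet baseOctad)))
        (fun q _ hq => by
          rw [Finset.mem_insert, not_or] at hq
          exact hzero _ (fun h => hq.2 ((hmem q).1 h)) fun h => hq.1 (τ.injective (h.trans hτ5.symm))),
        Finset.sum_insert hb.2.1, hτ5, hu0, hN, Finset.card_filter, Nat.cast_sum,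
        Finset.mul_sum, show (16 : ℤ) = ∑ _q ∈ toSet baseOctad, (2 : ℤ) by
          rw [Finset.sum_const, card_toSet, show bitCount baseOctad = 8 by decide +kernel]; rfl,
        ← Finset.sum_sub_distrib]
      congr 1
      refine Finset.sum_congr rfl fun q hq => ?_
      rcases (even_vals hWn (by norm_num) hC hin hout (τ q)).1 ((hmem q).2 hq) with h | h <;> simp [h]
    rw [Equiv.sum_comp τ W] at hs
    simp only [Int.ModEq] at hsum
    omega
  obtain ⟨c, hc, hcq, hc5, hc6⟩ := exists_code_even (N ∆ {pt 0}) (by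
      intro q hq
      rcases Finset.mem_symmDiff.1 hq with ⟨h, -⟩ | ⟨h, -⟩
      · exact (Finset.mem_filter.1 h).1
      · rw [Finset.mem_singleton] at h; subst h; exact hb.1) (by
      have := card_symmDiff_add N {pt 0}
      rw [Finset.card_singleton] at this
      omega)
  refine ⟨monoAut τ⁻¹ (inv_mem hτ) c hc * (g₂ * g₁), funext fun q => ?_, funext fun q => ?_⟩
  · rw [mul_smul, mul_smul, coe_monoAut_smul, ← hW]
    show (if q ∈ c then -W (τ q) else W (τ q)) = base48 q
    by_cases h5 : q = pt 5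
    · subst h5; rw [if_neg hc5, hτ5, hu0]; simp [base48]
    by_cases hq : q ∈ toSet baseOctad
    · simp only [base48, h5, if_false, mem_toSet.1 hq, if_true]
      rw [if_congr (hcq q hq) rfl rfl]
      simp only [Finset.mem_symmDiff, Finset.mem_singleton, hN, Finset.mem_filter, hq, true_and]
      rcases (even_vals hWn (by norm_num) hC hin hout (τ q)).1 ((hmem q).2 hq) with h | h <;>
        (by_cases h0 : q = pt 0; (· subst h0; simp [h]); simp [h, h0])
    · rw [hzero _ (fun h => hq ((hmem q).1 h)) fun h => h5 (τ.injective (h.trans hτ5.symm))]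
      simp only [base48, h5, if_false]
      rw [if_neg (fun h : q = pt 0 => hq (h ▸ hb.1)),
        if_neg (show ¬ baseOctad.testBit (ptEquiv q).val = true from fun h => hq (mem_toSet.2 h))]
      simp
  · rw [mul_smul, mul_smul, coe_monoAut_smul, hx₂]
    show (if q ∈ c then -base32 (τ q) else base32 (τ q)) = pair48x q
    simp only [base32, pair48x]
    have e0 : τ q = pt 0 ↔ q = pt 5 := ⟨fun h => τ.injective (h.trans hτ5.symm), fun h => by rw [h, hτ5]⟩
    have e1 : τ q = pt 1 ↔ q = pt 6 := ⟨fun h => τ.injective (h.trans hτ6.symm), fun h => by rw [h, hτ6]⟩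
    simp only [e0, e1]
    by_cases h : q = pt 5 ∨ q = pt 6
    · rcases h with rfl | rfl
      · simp [hc5]
      · simp [hc6]
    · simp [h]

/-- Two pairs with the same standard form differ by an automorphism. -/
theorem exists_map_pair {a b a' b' : leechLattice} {x y : GolayPt → ℤ}
    (h : ∃ g : Co0, ((g • a : leechLattice) : GolayPt → ℤ) = x ∧ ((g • b : leechLattice) : GolayPt → ℤ) = y)
    (h' : ∃ g : Co0, ((g • a' : leechLattice) : GolayPt → ℤ) = x ∧
      ((g • b' : leechLattice) : GolayPt → ℤ) = y) :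
    ∃ g : Co0, g • a = a' ∧ g • b = b' := by
  obtain ⟨g, h1, h2⟩ := h
  obtain ⟨g', h1', h2'⟩ := h'
  exact ⟨g'⁻¹ * g, by rw [mul_smul, show g • a = g' • a' from Subtype.ext (h1.trans h1'.symm), inv_smul_smul],
    by rw [mul_smul, show g • b = g' • b' from Subtype.ext (h2.trans h2'.symm), inv_smul_smul]⟩

end CfsgLib.Leech
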