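import Cfsg.Agent.Lib.Leech.Count

/-!
# The numbers of lattice vectors of squared length 32, 48 and 64
-/

set_option autoImplicit false

namespace CfsgLib.Leech

open Cfsg CfsgLib.Golay CfsgLib.Leech.Count

/-- One class holding all points. -/
def oneMask : ℕ → ℕ := fun _ => 16777215

theorem oneMask_partition : IsPartition 1 oneMask := by decide +kernel

theorem oneMask_covers : Covers 1 oneMask := by decide +kernel

/-- The number of points with a property among the coordinates. -/
def indicator (q : ℤ → Bool) (v : ℤ) : ℕ := if q v then 1 else 0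

/-- The number of vectors over the code with the given weight table. -/
def weightCount {K : Type} [AddCommMonoid K] [DecidableEq K] (N : ℕ) (φ : ℤ → K) (P : K → Bool) : ℕ :=
  ([([0], 1), ([8], 759), ([12], 2576), ([16], 759), ([24], 1)].map fun bm : List ℕ × ℕ =>
    bm.2 * (cell N (fun _ => φ) P 0 (coords 1 oneMask bm.1) +
      cell N (fun _ => φ) P 1 (coords 1 oneMask bm.1))).sum

theorem shell_ncard_one {K : Type} [AddCommMonoid K] [DecidableEq K] {N : ℕ} (hN : N < 81)
    (φ : ℤ → K) (P : K → Bool) :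
    (shell N (fun _ => φ) P).ncard = weightCount N φ P := by
  rw [shell_ncard oneMask_partition oneMask_covers hN (fun _ => φ) P]
  exact sum_eq_table (pattern 1 oneMask)
    (fun b => cell N (fun _ => φ) P 0 (coords 1 oneMask b) + cell N (fun _ => φ) P 1 (coords 1 oneMask b))
    _ (by decide) (by decide +kernel) (by decide +kernel)

theorem ncard_norm_eq {N : ℕ} (hN : N < 81) :
    {x : GolayPt → ℤ | x ∈ leechLattice ∧ sqNorm x = (N : ℤ)}.ncard =
      weightCount N (fun _ => (0 : ℕ)) fun _ => true := by
  rw [← shell_ncard_one hN]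
  congr 1
  ext x
  simp [shell]

theorem ncard_norm32 : {x : GolayPt → ℤ | x ∈ leechLattice ∧ sqNorm x = 32}.ncard = 196560 :=
  (ncard_norm_eq (N := 32) (by omega)).trans (by decide +kernel)

theorem ncard_norm48 : {x : GolayPt → ℤ | x ∈ leechLattice ∧ sqNorm x = 48}.ncard = 16773120 :=
  (ncard_norm_eq (N := 48) (by omega)).trans (by decide +kernel)

theorem ncard_norm64 : {x : GolayPt → ℤ | x ∈ leechLattice ∧ sqNorm x = 64}.ncard = 398034000 :=
  (ncard_norm_eq (N := 64) (by omega)).trans (by decide +kernel)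

theorem finite_norm (N : ℤ) : {x : GolayPt → ℤ | x ∈ leechLattice ∧ sqNorm x = N}.Finite := by
  refine Set.Finite.subset (Fintype.piFinset fun _ : GolayPt => Finset.Icc (-N) N).finite_toSet ?_
  rintro x ⟨-, hx⟩
  simp only [Finset.mem_coe, Fintype.mem_piFinset, Finset.mem_Icc]
  intro p
  have h : x p ^ 2 ≤ N :=
    hx ▸ Finset.single_le_sum (fun q _ => sq_nonneg (x q)) (Finset.mem_univ p)
  constructor <;> nlinarith [Int.le_self_sq (x p), Int.le_self_sq (-x p)]

/-- A count of coordinates with a property. -/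
theorem sum_indicator (q : ℤ → Bool) (x : GolayPt → ℤ) :
    ∑ p, indicator q (x p) = (Finset.univ.filter fun p => q (x p) = true).card := by
  rw [Finset.card_filter]
  rfl

theorem shape_census :
    {x : GolayPt → ℤ | x ∈ leechLattice ∧ sqNorm x = 48 ∧ ∀ i, x i = 0 ∨ x i = 2 ∨ x i = -2}.ncard = 5275648 ∧
    {x : GolayPt → ℤ | x ∈ leechLattice ∧ sqNorm x = 48 ∧ ∃ i j k, i ≠ j ∧ j ≠ k ∧ i ≠ k ∧
      |x i| = 3 ∧ |x j| = 3 ∧ |x k| = 3}.ncard = 8290304 ∧
    {x : GolayPt → ℤ | x ∈ leechLattice ∧ sqNorm x = 48 ∧ ∃ i, |x i| = 4}.ncard = 3108864 ∧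
    {x : GolayPt → ℤ | x ∈ leechLattice ∧ sqNorm x = 48 ∧ ∃ i, |x i| = 5}.ncard = 98304 := by
  refine ⟨?_, ?_, ?_, ?_⟩
  · refine Eq.trans ?_ ((shell_ncard_one (N := 48) (by omega)
      (indicator fun v => decide (2 < v.natAbs ∨ v.natAbs = 1)) fun k => k == 0).trans (by decide +kernel))
    refine congrArg Set.ncard (Set.ext fun x => ?_)
    simp only [shell, Set.mem_ofPred_eq, sum_indicator, beq_iff_eq, Finset.card_eq_zero,
      Finset.filter_eq_empty_iff, Finset.mem_univ, forall_true_left, decide_eq_true_eq]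
    refine and_congr_right fun _ => and_congr_right fun _ => forall_congr' fun p => ?_
    omega
  · refine Eq.trans ?_ ((shell_ncard_one (N := 48) (by omega)
      (indicator fun v => decide (v.natAbs = 3)) fun k => decide (3 ≤ k)).trans (by decide +kernel))
    refine congrArg Set.ncard (Set.ext fun x => ?_)
    simp only [shell, Set.mem_ofPred_eq, sum_indicator, decide_eq_true_eq]
    refine and_congr_right fun _ => and_congr_right fun _ => ?_
    have h3 : ∀ p, |x p| = 3 ↔ (x p).natAbs = 3 := fun p => by rw [Int.abs_eq_natAbs]; omega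
    rw [Nat.lt_iff_add_one_le.symm, Finset.two_lt_card]
    simp only [Finset.mem_filter, Finset.mem_univ, true_and, h3]
    exact ⟨fun ⟨i, j, k, hij, hjk, hik, hi, hj, hk⟩ => ⟨i, hi, j, hj, k, hk, hij, hik, hjk⟩,
      fun ⟨i, hi, j, hj, k, hk, hij, hik, hjk⟩ => ⟨i, j, k, hij, hjk, hik, hi, hj, hk⟩⟩
  all_goals
    first
    | refine Eq.trans ?_ ((shell_ncard_one (N := 48) (by omega)
        (indicator fun v => decide (v.natAbs = 4)) fun k => decide (1 ≤ k)).trans (by decide +kernel))
      refine congrArg Set.ncard (Set.ext fun x => ?_)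
      simp only [shell, Set.mem_ofPred_eq, sum_indicator, decide_eq_true_eq]
      refine and_congr_right fun _ => and_congr_right fun _ => ?_
      have h4 : ∀ p, |x p| = 4 ↔ (x p).natAbs = 4 := fun p => by rw [Int.abs_eq_natAbs]; omega
      simp [Finset.one_le_card, Finset.filter_nonempty_iff, h4]
    | refine Eq.trans ?_ ((shell_ncard_one (N := 48) (by omega)
        (indicator fun v => decide (v.natAbs = 5)) fun k => decide (1 ≤ k)).trans (by decide +kernel))
      refine congrArg Set.ncard (Set.ext fun x => ?_)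
      simp only [shell, Set.mem_ofPred_eq, sum_indicator, decide_eq_true_eq]
      refine and_congr_right fun _ => and_congr_right fun _ => ?_
      have h5 : ∀ p, |x p| = 5 ↔ (x p).natAbs = 5 := fun p => by rw [Int.abs_eq_natAbs]; omega
      simp [Finset.one_le_card, Finset.filter_nonempty_iff, h5]

end CfsgLib.Leech
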