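import Cfsg.Agent.Lib.Leech.HSGroup

/-!
# The group HS of the Prelude is the simple group of the hundred-vertex graph
-/

set_option autoImplicit false

namespace CfsgLib.Leech.HSVec

open Cfsg CfsgLib.Golay CfsgLib.Leech

/-- The second vector of norm 48 that goes with the Prelude's pair. -/
def sporW : leechLattice := -(Spor.leechV + Spor.leechU')

theorem spor_dots : sqNorm (Spor.leechV : GolayPt → ℤ) = 48 ∧ sqNorm (sporW : GolayPt → ℤ) = 48 ∧
    dotInt (Spor.leechV : GolayPt → ℤ) (sporW : GolayPt → ℤ) = -32 := by decide +kernel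

theorem sporHS_equiv : Nonempty (Spor.HS ≃* HS.hsGroup) := by
  obtain ⟨e⟩ := stab_equiv_graph spor_dots.1 spor_dots.2.1 spor_dots.2.2
  have hW : ∀ g : Co0, g • Spor.leechV = Spor.leechV → (g • sporW = sporW ↔ g • Spor.leechU' = Spor.leechU') := by
    intro g h
    rw [sporW, smul_neg', neg_inj, smul_add', h, add_right_inj]
  let f : Spor.HS → ↥(MulAction.stabilizer Co0 Spor.leechV ⊓ MulAction.stabilizer Co0 sporW) := fun g =>
    ⟨⟨g.val, g.2.1.1⟩, g.2.1.2, (hW ⟨g.val, g.2.1.1⟩ g.2.1.2).2 g.2.2⟩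
  refine ⟨(MulEquiv.ofBijective (MonoidHom.mk' f fun a b => rfl) ⟨fun a b h => ?_, fun g => ?_⟩).trans e⟩
  · exact Subtype.ext (congrArg (fun z => z.val.val) h)
  · exact ⟨⟨g.val.val, ⟨g.val.2, g.2.1⟩, (hW g.val g.2.1).1 g.2.2⟩, rfl⟩

end CfsgLib.Leech.HSVec
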