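import Cfsg.Agent.Lib.Leech.Basic
import Cfsg.Agent.Lib.Golay.Cosets

/-!
# The index of the lattice among all integer vectors
-/

set_option autoImplicit false

namespace CfsgLib.Leech

open Cfsg CfsgLib.Golay

/-- Reduction of integer vectors modulo two. -/
def redTwo : (GolayPt → ℤ) →+ (GolayPt → ZMod 2) := (Int.castAddHom (ZMod 2)).compLeft GolayPt

theorem redTwo_apply (y : GolayPt → ℤ) (i : GolayPt) : redTwo y i = ((y i : ℤ) : ZMod 2) := rfl

theorem redTwo_surjective : Function.Surjective redTwo := fun w =>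
  ⟨fun i => ((w i).val : ℤ), funext fun i => by simp [redTwo_apply]⟩

/-- The vectors that are code words modulo two. -/
def codeLift : AddSubgroup (GolayPt → ℤ) := golayCode.toAddSubgroup.comap redTwo

theorem card_golayCode : Nat.card ↥golayCode.toAddSubgroup = 4096 := by
  have h : (golayCode.toAddSubgroup : Set (GolayPt → ZMod 2)) = toWord '' (↑golayList.toFinset : Set ℕ) := by
    ext w
    simp only [Submodule.coe_toAddSubgroup, SetLike.mem_coe, mem_golayCode, Set.mem_image, List.coe_toFinset,
      Set.mem_ofPred_eq]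
  show Nat.card (golayCode.toAddSubgroup : Set (GolayPt → ZMod 2)) = 4096
  rw [h, Nat.card_coe_set_eq, Set.InjOn.ncard_image, Set.ncard_coe_finset,
    List.toFinset_card_of_nodup golayList_nodup, golayList_length]
  intro a ha b hb e
  simp only [List.coe_toFinset, Set.mem_ofPred_eq] at ha hb
  exact toSet_injOn a ha b hb (by rw [← support_toWord, ← support_toWord, e])

theorem index_codeLift : codeLift.index = 2 ^ 12 := by
  rw [codeLift, AddSubgroup.index_comap_of_surjective _ redTwo_surjective]
  have h := golayCode.toAddSubgroup.card_mul_index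
  rw [card_golayCode, Nat.card_fun, Nat.card_zmod, Nat.card_eq_fintype_card, card_golayPt] at h
  omega

theorem codeLift_sum {y : GolayPt → ℤ} (hy : y ∈ codeLift) : (2 : ℤ) ∣ ∑ i, y i := by
  obtain ⟨c, hc⟩ := codeSet_card_dvd (s := support₂ (redTwo y)) ⟨_, hy, rfl⟩
  have h : (((∑ i, y i : ℤ)) : ZMod 2) = 0 := by
    push_cast
    rw [show (∑ i, ((y i : ℤ) : ZMod 2)) = ∑ i, redTwo y i from rfl,
      ← Finset.sum_filter_ne_zero (s := Finset.univ) (f := redTwo y),
      Finset.sum_congr rfl (g := fun _ => (1 : ZMod 2)) fun i hi =>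
        (zmod_two_or _).resolve_left (Finset.mem_filter.1 hi).2, Finset.sum_const, nsmul_one]
    rw [show (Finset.univ.filter fun i => redTwo y i ≠ 0).card = (support₂ (redTwo y)).card from rfl, hc]
    push_cast
    rw [show (4 : ZMod 2) = 0 from rfl, zero_mul]
  exact (ZMod.intCast_zmod_eq_zero_iff_dvd _ 2).1 h

/-- The lifted code words with coordinate sum divisible by four. -/
def sumFour : AddSubgroup (GolayPt → ℤ) where
  carrier := {y | y ∈ codeLift ∧ (4 : ℤ) ∣ ∑ i, y i}
  zero_mem' := ⟨zero_mem _, by simp⟩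
  add_mem' := by
    rintro a b ⟨ha, ha'⟩ ⟨hb, hb'⟩
    refine ⟨add_mem ha hb, ?_⟩
    simp only [Pi.add_apply, Finset.sum_add_distrib]
    exact dvd_add ha' hb'
  neg_mem' := by
    rintro a ⟨ha, ha'⟩
    refine ⟨neg_mem ha, ?_⟩
    simp only [Pi.neg_apply, Finset.sum_neg_distrib]
    exact dvd_neg.2 ha'

theorem index_sumFour : sumFour.index = 2 ^ 13 := by
  have hle : sumFour ≤ codeLift := fun y hy => hy.1
  have h2 : sumFour.relIndex codeLift = 2 := by
    refine AddSubgroup.index_eq_two_iff.2 ⟨⟨2 • Pi.single (none : GolayPt) 1, ?_⟩, fun b => ?_⟩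
    · show redTwo (2 • Pi.single (none : GolayPt) (1 : ℤ)) ∈ golayCode
      rw [map_nsmul, two_nsmul, show ∀ v : GolayPt → ZMod 2, v + v = 0 from fun v => funext fun i =>
        CharTwo.add_self_eq_zero _]
      exact zero_mem _
    · have hb2 := codeLift_sum b.2
      simp only [AddSubgroup.mem_addSubgroupOf, AddSubgroup.coe_add]
      have e : ∀ y : GolayPt → ℤ, y ∈ codeLift → (y ∈ sumFour ↔ (4 : ℤ) ∣ ∑ i, y i) := fun y hy =>
        ⟨fun h => h.2, fun h => ⟨hy, h⟩⟩
      rw [e _ (add_mem b.2 (by
        show redTwo (2 • Pi.single (none : GolayPt) (1 : ℤ)) ∈ golayCode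
        rw [map_nsmul, two_nsmul, show ∀ v : GolayPt → ZMod 2, v + v = 0 from fun v => funext fun i =>
          CharTwo.add_self_eq_zero _]
        exact zero_mem _)), e _ b.2]
      have hsum : ∑ i, (2 • Pi.single (none : GolayPt) (1 : ℤ) : GolayPt → ℤ) i = 2 := by
        rw [Finset.sum_eq_single none (fun j _ hj => by simp [hj]) (by simp)]
        simp
      simp only [Pi.add_apply, Finset.sum_add_distrib, xor_iff_iff_not, hsum]
      omega
  rw [← AddSubgroup.relIndex_mul_index hle, h2, index_codeLift]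
  norm_num

theorem map_sumFour : sumFour.map (zsmulAddGroupHom (2 : ℤ)) =
    leechLattice ⊓ (AddMonoidHom.range (zsmulAddGroupHom (2 : ℤ) : (GolayPt → ℤ) →+ (GolayPt → ℤ))) := by
  ext x
  constructor
  · rintro ⟨y, ⟨hy, h4⟩, rfl⟩
    refine ⟨mem_leechLattice_iff_form.2 ⟨⟨0, support₂ (redTwo y), fun i => (y i - indi (support₂ (redTwo y)) i) / 2,
      ⟨_, hy, rfl⟩, fun i => ?_, ?_⟩⟩, ⟨y, rfl⟩⟩
    · show (2 : ℤ) • y i = _
      have h2 : (2 : ℤ) ∣ y i - indi (support₂ (redTwo y)) i := by
        refine (ZMod.intCast_zmod_eq_zero_iff_dvd _ 2).1 ?_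
        rcases zmod_two_or (redTwo y i) with h | h <;>
          · rw [Int.cast_sub, ← redTwo_apply, h]
            simp [indi, support₂, h]
      rw [smul_eq_mul]
      omega
    · simp only [zsmulAddGroupHom_apply, Pi.smul_apply, smul_eq_mul, ← Finset.mul_sum, Int.ModEq]
      omega
  · rintro ⟨hx, y, rfl⟩
    obtain ⟨f⟩ := mem_leechLattice_iff_form.1 hx
    refine ⟨y, ⟨?_, ?_⟩, rfl⟩
    · have he : ∀ i, 2 * y i = f.m + 2 * indi f.C i + 4 * f.y i := fun i => f.eq i
      obtain ⟨m', hm'⟩ : (2 : ℤ) ∣ f.m := by have := he none; omega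
      show redTwo y ∈ golayCode
      rw [mem_golayCode_iff]
      rcases Int.even_or_odd' m' with ⟨k, hk | hk⟩
      · suffices support₂ (redTwo y) = f.C by rw [this]; exact f.code
        ext i
        have := he i
        simp only [support₂, Finset.mem_filter, Finset.mem_univ, true_and, redTwo_apply, ne_eq,
          ZMod.intCast_zmod_eq_zero_iff_dvd, indi] at this ⊢
        split at this <;> rename_i h <;> simp only [h, iff_true, iff_false] <;> omega
      · suffices support₂ (redTwo y) = Finset.univ \ f.C by rw [this]; exact codeSet_compl f.code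
        ext i
        have := he i
        simp only [support₂, Finset.mem_filter, Finset.mem_univ, true_and, redTwo_apply, ne_eq,
          ZMod.intCast_zmod_eq_zero_iff_dvd, indi, Finset.mem_sdiff] at this ⊢
        split at this <;> rename_i h <;> simp only [h, not_true, not_false_eq_true, iff_true, iff_false] <;> omega
    · have h := f.sum
      have h0 : 2 * y none = f.m + 2 * indi f.C none + 4 * f.y none := f.eq none
      simp only [zsmulAddGroupHom_apply, Pi.smul_apply, smul_eq_mul, ← Finset.mul_sum, Int.ModEq] at h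
      omega

theorem index_range_two :
    (AddMonoidHom.range (zsmulAddGroupHom (2 : ℤ) : (GolayPt → ℤ) →+ (GolayPt → ℤ))).index = 2 ^ 24 := by
  have e : AddMonoidHom.range (zsmulAddGroupHom (2 : ℤ) : (GolayPt → ℤ) →+ (GolayPt → ℤ)) = redTwo.ker := by
    ext x
    constructor
    · rintro ⟨y, rfl⟩
      funext i
      simp [redTwo_apply, show (2 : ZMod 2) = 0 from rfl]
    · intro h
      have hd : ∀ i, (2 : ℤ) ∣ x i := fun i => (ZMod.intCast_zmod_eq_zero_iff_dvd _ 2).1 (congrFun h i)
      choose y hy using hd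
      exact ⟨y, funext fun i => by simp [hy]⟩
  rw [e, AddSubgroup.index_ker, AddMonoidHom.range_eq_top_of_surjective _ redTwo_surjective, AddSubgroup.card_top,
    Nat.card_fun, Nat.card_zmod, Nat.card_eq_fintype_card, card_golayPt]

/-- The index of the lattice. -/
theorem index_leechLattice : leechLattice.index = 2 ^ 36 := by
  set R := AddMonoidHom.range (zsmulAddGroupHom (2 : ℤ) : (GolayPt → ℤ) →+ (GolayPt → ℤ)) with hR
  have hinj : Function.Injective (zsmulAddGroupHom (2 : ℤ) : (GolayPt → ℤ) →+ (GolayPt → ℤ)) := fun a b h =>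
    funext fun i => by
      have := congrFun h i
      simp only [zsmulAddGroupHom_apply, Pi.smul_apply, smul_eq_mul] at this
      omega
  have hK : (leechLattice ⊓ R).index = 2 ^ 37 := by
    rw [← map_sumFour, AddSubgroup.index_map_of_injective _ hinj, ← hR, index_range_two, index_sumFour]
    norm_num
  have hodd : (fun i => 1 - 4 * (Pi.single (none : GolayPt) (1 : ℤ) : GolayPt → ℤ) i) ∈ leechLattice :=
    mem_leechLattice_iff_form.2 ⟨⟨1, ∅, fun i => -(Pi.single (none : GolayPt) (1 : ℤ) : GolayPt → ℤ) i, codeSet_empty,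
      fun i => by simp [indi]; ring, by simp [Finset.sum_sub_distrib, ← Finset.mul_sum, card_golayPt, Int.ModEq]⟩⟩
  have hmemR : ∀ x ∈ leechLattice, (x ∈ R ↔ (2 : ℤ) ∣ x none) := by
    intro x hx
    constructor
    · rintro ⟨y, rfl⟩
      exact ⟨y none, by simp⟩
    · intro h
      obtain ⟨f⟩ := mem_leechLattice_iff_form.1 hx
      have hd : ∀ i, (2 : ℤ) ∣ x i := fun i => by
        have := f.eq i
        have := f.eq none
        omega
      choose y hy using hd
      exact ⟨y, funext fun i => by simp [hy]⟩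
  have h2 : (leechLattice ⊓ R).relIndex leechLattice = 2 := by
    refine AddSubgroup.index_eq_two_iff.2 ⟨⟨_, hodd⟩, fun b => ?_⟩
    simp only [AddSubgroup.mem_addSubgroupOf, AddSubgroup.coe_add, AddSubgroup.mem_inf]
    rw [hmemR _ (add_mem b.2 hodd), hmemR _ b.2]
    simp only [b.2, add_mem b.2 hodd, true_and, Pi.add_apply, Pi.single_eq_same, xor_iff_iff_not]
    omega
  have h := AddSubgroup.relIndex_mul_index (inf_le_left : leechLattice ⊓ R ≤ leechLattice)
  rw [h2, hK] at h
  omega

end CfsgLib.Leech
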