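import Mathlib

/-!
# Even lattices of rank 24 with the vector counts of the Leech lattice: classes modulo 2

The vectors of norm 0, 4, 6, 8 already exhaust the `2 ^ 24` classes modulo twice the lattice, and
each class of a norm 8 vector consists of 24 orthogonal pairs of opposite vectors.
-/

set_option autoImplicit false

namespace CfsgLib.Leech

/-- The doubles of the elements of an abelian group. -/
def twoMul (L : Type*) [AddCommGroup L] : AddSubgroup L := (zsmulAddGroupHom (2 : ℤ) : L →+ L).range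

theorem mem_twoMul {L : Type*} [AddCommGroup L] {x : L} :
    x ∈ twoMul L ↔ ∃ z, (2 : ℤ) • z = x := Iff.rfl

/-- An even lattice of rank 24 with no roots and the vector counts of the Leech lattice. -/
structure EvenLat (L : Type*) [AddCommGroup L] where
  b : L →+ L →+ ℤ
  symm : ∀ x y, b x y = b y x
  pos : ∀ x, x ≠ 0 → 0 < b x x
  even : ∀ x, (2 : ℤ) ∣ b x x
  noRoot : ∀ x, b x x ≠ 2
  dep : ∀ f : Fin 25 → L, ∃ a : Fin 25 → ℤ, a ≠ 0 ∧ ∑ i, a i • f i = 0
  card_quot : Nat.card (L ⧸ twoMul L) = 2 ^ 24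
  count4 : {x : L | b x x = 4}.ncard = 196560
  count6 : {x : L | b x x = 6}.ncard = 16773120
  count8 : {x : L | b x x = 8}.ncard = 398034000

namespace EvenLat

variable {L : Type*} [AddCommGroup L] (E : EvenLat L)

theorem four_le {x : L} (h : x ≠ 0) : 4 ≤ E.b x x := by
  have := E.pos x h
  have := E.noRoot x
  obtain ⟨k, hk⟩ := E.even x
  omega

theorem b_sub (x y : L) : E.b (x - y) (x - y) = E.b x x - 2 * E.b x y + E.b y y := by
  simp only [map_sub, AddMonoidHom.sub_apply, E.symm y x]; ring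

theorem b_add (x y : L) : E.b (x + y) (x + y) = E.b x x + 2 * E.b x y + E.b y y := by
  simp only [map_add, AddMonoidHom.add_apply, E.symm y x]; ring

theorem b_two (z : L) : E.b ((2 : ℤ) • z) ((2 : ℤ) • z) = 4 * E.b z z := by
  simp only [map_zsmul, AddMonoidHom.smul_apply, smul_eq_mul]; ring

theorem short_congr {x y : L} (h : x - y ∈ twoMul L) (hx : E.b x x ≤ 8) (hy : E.b y y ≤ 8) :
    x = y ∨ x = -y ∨ (E.b x x = 8 ∧ E.b y y = 8 ∧ E.b x y = 0) := by
  obtain ⟨z, hz⟩ := mem_twoMul.1 h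
  have h' : x + y = (2 : ℤ) • (z + y) := by rw [smul_add, hz, two_zsmul]; abel
  by_cases hz0 : z = 0
  · left
    rw [hz0, smul_zero, eq_comm, sub_eq_zero] at hz
    exact hz
  by_cases hzy : z + y = 0
  · right; left
    rw [hzy, smul_zero] at h'
    exact eq_neg_of_add_eq_zero_left h'
  right; right
  have h1 := E.four_le hz0
  have h2 := E.four_le hzy
  have n1 := E.b_sub x y
  have n2 := E.b_add x y
  rw [← hz, E.b_two] at n1
  rw [h', E.b_two] at n2
  omega

theorem finite8 : {x : L | E.b x x = 8}.Finite :=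
  Set.finite_of_ncard_ne_zero (by rw [E.count8]; norm_num)

theorem finite4 : {x : L | E.b x x = 4}.Finite :=
  Set.finite_of_ncard_ne_zero (by rw [E.count4]; norm_num)

theorem finite6 : {x : L | E.b x x = 6}.Finite :=
  Set.finite_of_ncard_ne_zero (by rw [E.count6]; norm_num)

theorem neg_mem8 {x : L} (h : E.b x x = 8) : E.b (-x) (-x) = 8 := by simpa using h

theorem card_orth_le (T : Finset L) (h8 : ∀ x ∈ T, E.b x x = 8)
    (horth : ∀ x ∈ T, ∀ y ∈ T, x ≠ y → E.b x y = 0) : T.card ≤ 24 := by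
  by_contra hcon
  obtain ⟨S, hST, hS⟩ := Finset.exists_subset_card_eq (s := T) (n := 25) (by omega)
  let e : Fin 25 ≃ S := (finCongr hS.symm).trans S.equivFin.symm
  obtain ⟨a, ha0, ha⟩ := E.dep fun i => (e i : L)
  refine ha0 (funext fun j => ?_)
  have := congrArg (fun v => E.b v (e j : L)) ha
  simp only [map_sum, map_zsmul, AddMonoidHom.finset_sum_apply, AddMonoidHom.smul_apply, map_zero,
    AddMonoidHom.zero_apply] at this
  rw [Finset.sum_eq_single j, h8 _ (hST (e j).2)] at this
  · simp only [smul_eq_mul, mul_eq_zero] at this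
    exact this.resolve_right (by norm_num)
  · intro i _ hij
    rw [horth _ (hST (e i).2) _ (hST (e j).2) fun h => hij (e.injective (Subtype.ext h)), smul_zero]
  · simp

/-- The norm 8 vectors congruent to `x`. -/
def cls8 (x : L) : Set L := {y | E.b y y = 8 ∧ x - y ∈ twoMul L}

theorem finite_cls8 (x : L) : (E.cls8 x).Finite := E.finite8.subset fun _ h => h.1

theorem cls8_neg {x y : L} (h : y ∈ E.cls8 x) : -y ∈ E.cls8 x :=
  ⟨E.neg_mem8 h.1, by
    have : x - -y = (x - y) + (2 : ℤ) • y := by rw [two_zsmul]; abel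
    rw [this]
    exact add_mem h.2 ⟨y, rfl⟩⟩

theorem cls8_cases {x y z : L} (hy : y ∈ E.cls8 x) (hz : z ∈ E.cls8 x) :
    y = z ∨ y = -z ∨ E.b y z = 0 := by
  have h : y - z ∈ twoMul L := by
    have : y - z = (x - z) - (x - y) := by abel
    rw [this]; exact sub_mem hz.2 hy.2
  rcases E.short_congr h hy.1.le hz.1.le with h | h | h
  · exact Or.inl h
  · exact Or.inr (Or.inl h)
  · exact Or.inr (Or.inr h.2.2)

/-- A choice of one vector from each pair of opposite vectors. -/
theorem exists_reps (T : Finset L) :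
    ∃ R : Finset L, R ⊆ T ∧ (∀ x ∈ R, ∀ y ∈ R, x = -y → x = y) ∧
      ∀ x ∈ T, x ∈ R ∨ -x ∈ R := by
  classical
  induction T using Finset.induction_on with
  | empty => exact ⟨∅, by simp, by simp, by simp⟩
  | @insert a T _ ih =>
    obtain ⟨R, hsub, hanti, hcov⟩ := ih
    by_cases ha : a ∈ R ∨ -a ∈ R
    · refine ⟨R, hsub.trans (Finset.subset_insert _ _), hanti, fun x hx => ?_⟩
      rcases Finset.mem_insert.1 hx with rfl | hx
      exacts [ha, hcov x hx]
    · push Not at ha
      refine ⟨insert a R, Finset.insert_subset_insert _ hsub, fun x hx y hy h => ?_, fun x hx => ?_⟩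
      · rcases Finset.mem_insert.1 hx with h1 | h1 <;> rcases Finset.mem_insert.1 hy with h2 | h2
        · rw [h1, h2]
        · subst h1; exact absurd h2 (by rw [show y = -x by rw [h, neg_neg]]; exact ha.2)
        · subst h2; exact absurd (h ▸ h1) ha.2
        · exact hanti x h1 y h2 h
      · rcases Finset.mem_insert.1 hx with rfl | hx
        · exact Or.inl (Finset.mem_insert_self _ _)
        · exact (hcov x hx).imp (Finset.mem_insert_of_mem ·) (Finset.mem_insert_of_mem ·)

/-- Representatives of the pairs in a class. -/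
theorem exists_frame_le (x : L) :
    ∃ R : Finset L, (∀ y ∈ R, y ∈ E.cls8 x) ∧ (∀ y ∈ R, ∀ z ∈ R, y ≠ z → E.b y z = 0) ∧
      (∀ y ∈ E.cls8 x, y ∈ R ∨ -y ∈ R) ∧ R.card ≤ 24 ∧ (E.cls8 x).ncard ≤ 2 * R.card := by
  classical
  obtain ⟨R, hsub, hanti, hcov⟩ := exists_reps (E.finite_cls8 x).toFinset
  have hmem : ∀ y ∈ R, y ∈ E.cls8 x := fun y hy => (E.finite_cls8 x).mem_toFinset.1 (hsub hy)
  have horth : ∀ y ∈ R, ∀ z ∈ R, y ≠ z → E.b y z = 0 := fun y hy z hz hne =>
    ((E.cls8_cases (hmem y hy) (hmem z hz)).resolve_left hne).resolve_left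
      fun h => hne (hanti y hy z hz h)
  refine ⟨R, hmem, horth, fun y hy => hcov y ((E.finite_cls8 x).mem_toFinset.2 hy),
    E.card_orth_le R (fun y hy => (hmem y hy).1) horth, ?_⟩
  rw [Set.ncard_eq_toFinset_card _ (E.finite_cls8 x)]
  calc (E.finite_cls8 x).toFinset.card ≤ (R ∪ R.image Neg.neg).card := by
        refine Finset.card_le_card fun y hy => ?_
        rcases hcov y hy with h | h
        · exact Finset.mem_union_left _ h
        · exact Finset.mem_union_right _ (Finset.mem_image.2 ⟨-y, h, neg_neg y⟩)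
    _ ≤ R.card + (R.image Neg.neg).card := Finset.card_union_le _ _
    _ ≤ 2 * R.card := by have := Finset.card_image_le (s := R) (f := Neg.neg); omega

theorem ncard_cls8_le (x : L) : (E.cls8 x).ncard ≤ 48 := by
  obtain ⟨R, -, -, -, h1, h2⟩ := E.exists_frame_le x
  omega

/-- The main count: all classes are met and those of norm 8 have exactly 48 vectors. -/
theorem classes_main :
    (∀ q : L ⧸ twoMul L, ∃ x : L, E.b x x ≤ 8 ∧ (QuotientAddGroup.mk x : L ⧸ twoMul L) = q) ∧
      ∀ x, E.b x x = 8 → (E.cls8 x).ncard = 48 := by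
  classical
  haveI : Finite (L ⧸ twoMul L) := Nat.finite_of_card_ne_zero (by rw [E.card_quot]; norm_num)
  letI := Fintype.ofFinite (L ⧸ twoMul L)
  let π : L → L ⧸ twoMul L := fun x => QuotientAddGroup.mk x
  have hπ : ∀ {x y : L}, π x = π y → x - y ∈ twoMul L := fun {x y} h => by
    have := neg_mem (QuotientAddGroup.eq.1 h)
    simpa [sub_eq_add_neg, add_comm] using this
  set F4 := E.finite4.toFinset
  set F6 := E.finite6.toFinset
  set F8 := E.finite8.toFinset
  have m4 : ∀ {x}, x ∈ F4 ↔ E.b x x = 4 := fun {x} => E.finite4.mem_toFinset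
  have m6 : ∀ {x}, x ∈ F6 ↔ E.b x x = 6 := fun {x} => E.finite6.mem_toFinset
  have m8 : ∀ {x}, x ∈ F8 ↔ E.b x x = 8 := fun {x} => E.finite8.mem_toFinset
  have c4 : F4.card = 196560 := by rw [← Set.ncard_eq_toFinset_card _ E.finite4]; exact E.count4
  have c6 : F6.card = 16773120 := by rw [← Set.ncard_eq_toFinset_card _ E.finite6]; exact E.count6
  have c8 : F8.card = 398034000 := by rw [← Set.ncard_eq_toFinset_card _ E.finite8]; exact E.count8
  have two : ∀ (F : Finset L) (n : ℤ), (∀ x ∈ F, E.b x x = n) → n < 8 →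
      F.card ≤ 2 * (F.image π).card := by
    intro F n hF hn
    refine Finset.card_le_mul_card_image F 2 fun q hq => ?_
    obtain ⟨x, hx, rfl⟩ := Finset.mem_image.1 hq
    refine le_trans (Finset.card_le_card (t := {x, -x}) fun y hy => ?_) Finset.card_le_two
    obtain ⟨hy1, hy2⟩ := Finset.mem_filter.1 hy
    rcases E.short_congr (hπ hy2) (by rw [hF y hy1]; omega) (by rw [hF x hx]; omega) with h | h | h
    · simp [h]
    · simp [h]
    · rw [hF y hy1] at h; omega
  have h4 := two F4 4 (fun x hx => m4.1 hx) (by omega)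
  have h6 := two F6 6 (fun x hx => m6.1 hx) (by omega)
  have hfib : ∀ x ∈ F8, (F8.filter fun y => π y = π x).card = (E.cls8 x).ncard := fun x _ => by
    rw [← Set.ncard_coe_finset]
    congr 1
    ext y
    simp only [Finset.coe_filter, Set.mem_ofPred_eq, m8, cls8]
    refine and_congr_right fun _ => ⟨fun h => hπ h.symm, fun h => ?_⟩
    exact (QuotientAddGroup.eq.2 (by simpa [sub_eq_neg_add] using h) : π y = π x)
  have h8 : F8.card ≤ 48 * (F8.image π).card := by
    refine Finset.card_le_mul_card_image F8 48 fun q hq => ?_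
    obtain ⟨x, hx, rfl⟩ := Finset.mem_image.1 hq
    rw [hfib x hx]
    exact E.ncard_cls8_le x
  have clash : ∀ (x y : L) (m n : ℤ), E.b x x = m → E.b y y = n → m ≤ 8 → n ≤ 8 → m ≠ n → π x ≠ π y := by
    intro x y m n hx hy hm hn hne h
    rcases E.short_congr (hπ h) (hx ▸ hm) (hy ▸ hn) with h' | h' | h'
    · exact hne (by rw [← hx, ← hy, h'])
    · exact hne (by rw [← hx, ← hy, h']; simp)
    · omega
  have hd : ∀ (F G : Finset L) (m n : ℤ), (∀ x ∈ F, E.b x x = m) → (∀ x ∈ G, E.b x x = n) → m ≤ 8 →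
      n ≤ 8 → m ≠ n → Disjoint (F.image π) (G.image π) := by
    intro F G m n hF hG hm hn hne
    rw [Finset.disjoint_left]
    intro q hq hq'
    obtain ⟨x, hx, rfl⟩ := Finset.mem_image.1 hq
    obtain ⟨y, hy, he⟩ := Finset.mem_image.1 hq'
    exact clash x y m n (hF x hx) (hG y hy) hm hn hne he.symm
  have z0 : ∀ x ∈ ({0} : Finset L), E.b x x = 0 := by simp
  have a4 : ∀ x ∈ F4, E.b x x = 4 := fun x h => m4.1 h
  have a6 : ∀ x ∈ F6, E.b x x = 6 := fun x h => m6.1 h
  have a8 : ∀ x ∈ F8, E.b x x = 8 := fun x h => m8.1 h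
  set U := ({0} : Finset L).image π ∪ F4.image π ∪ F6.image π ∪ F8.image π with hU
  have hUcard : U.card = 1 + (F4.image π).card + (F6.image π).card + (F8.image π).card := by
    rw [hU, Finset.card_union_of_disjoint, Finset.card_union_of_disjoint,
      Finset.card_union_of_disjoint (hd _ _ 0 4 z0 a4 (by omega) (by omega) (by omega)),
      Finset.image_singleton, Finset.card_singleton]
    · simp only [Finset.disjoint_union_left]
      exact ⟨hd _ _ 0 6 z0 a6 (by omega) (by omega) (by omega),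
        hd _ _ 4 6 a4 a6 (by omega) (by omega) (by omega)⟩
    · simp only [Finset.disjoint_union_left]
      exact ⟨⟨hd _ _ 0 8 z0 a8 (by omega) (by omega) (by omega),
        hd _ _ 4 8 a4 a8 (by omega) (by omega) (by omega)⟩,
        hd _ _ 6 8 a6 a8 (by omega) (by omega) (by omega)⟩
  have hQ : Fintype.card (L ⧸ twoMul L) = 16777216 := by
    rw [← Nat.card_eq_fintype_card, E.card_quot]; norm_num
  have hle := Finset.card_le_univ U
  rw [hQ, hUcard] at hle
  rw [c4] at h4
  rw [c6] at h6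
  rw [c8] at h8
  refine ⟨fun q => ?_, fun x hx => ?_⟩
  · have hq : q ∈ U := by
      rw [Finset.eq_univ_of_card U (by rw [hQ, hUcard]; omega)]
      exact Finset.mem_univ q
    simp only [hU, Finset.mem_union, Finset.mem_image] at hq
    rcases hq with ((⟨y, hy, h⟩ | ⟨y, hy, h⟩) | ⟨y, hy, h⟩) | ⟨y, hy, h⟩
    · exact ⟨y, by rw [z0 y hy]; omega, h⟩
    · exact ⟨y, by rw [a4 y hy]; omega, h⟩
    · exact ⟨y, by rw [a6 y hy]; omega, h⟩
    · exact ⟨y, by rw [a8 y hy], h⟩
  · have hsum := Finset.card_eq_sum_card_image π F8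
    rw [c8] at hsum
    have hall : ∀ q ∈ F8.image π, (F8.filter fun y => π y = q).card = 48 := by
      refine (Finset.sum_eq_sum_iff_of_le fun q hq => ?_).1 ?_
      · obtain ⟨z, hz, rfl⟩ := Finset.mem_image.1 hq
        rw [hfib z hz]
        exact E.ncard_cls8_le z
      · rw [← hsum, Finset.sum_const, smul_eq_mul]
        omega
    rw [← hfib x (m8.2 hx)]
    exact hall _ (Finset.mem_image_of_mem π (m8.2 hx))

theorem ncard_cls8 {x : L} (hx : E.b x x = 8) : (E.cls8 x).ncard = 48 := E.classes_main.2 x hx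

theorem exists_short (x : L) : ∃ y, E.b y y ≤ 8 ∧ x - y ∈ twoMul L := by
  obtain ⟨y, hy, hq⟩ := E.classes_main.1 (QuotientAddGroup.mk x)
  refine ⟨y, hy, ?_⟩
  simpa [sub_eq_neg_add] using (QuotientAddGroup.eq.1 hq : -y + x ∈ twoMul L)

/-- A frame through a norm 8 vector. -/
theorem exists_frame {x : L} (hx : E.b x x = 8) :
    ∃ e : Fin 24 → L, (∀ i, E.b (e i) (e i) = 8) ∧ (∀ i j, i ≠ j → E.b (e i) (e j) = 0) ∧
      ∀ y, y ∈ E.cls8 x ↔ ∃ i, y = e i ∨ y = -e i := by
  classical
  obtain ⟨R, hmem, horth, hcov, hle, hcard⟩ := E.exists_frame_le x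
  rw [E.ncard_cls8 hx] at hcard
  have h24 : R.card = 24 := by omega
  let f : Fin 24 ≃ R := (finCongr h24.symm).trans R.equivFin.symm
  refine ⟨fun i => f i, fun i => (hmem _ (f i).2).1, fun i j hij => horth _ (f i).2 _ (f j).2
    fun h => hij (f.injective (Subtype.ext h)), fun y => ⟨fun hy => ?_, ?_⟩⟩
  · rcases hcov y hy with h | h
    · exact ⟨f.symm ⟨y, h⟩, Or.inl (by simp)⟩
    · exact ⟨f.symm ⟨-y, h⟩, Or.inr (by simp)⟩
  · rintro ⟨i, rfl | rfl⟩
    · exact hmem _ (f i).2
    · exact E.cls8_neg (hmem _ (f i).2)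

end EvenLat

end CfsgLib.Leech
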