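import Cfsg.Agent.Lib.Leech.Basic

/-!
# Counting lattice vectors with prescribed additive statistics

For a code word and a parity the coordinates of a vector range over residue classes modulo 4
independently, so the number of vectors with a given value of an additive statistic is a
coefficient of a product over the coordinates; this product is evaluated by dynamic programming
on lists of (value, multiplicity).
-/

set_option autoImplicit false

namespace CfsgLib.Leech.Count

open Cfsg CfsgLib.Golay

section Engine

variable {K : Type*}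

/-- The value of a weighted list on a function. -/
def tot (l : List (K × ℕ)) (f : K → ℕ) : ℕ := (l.map fun kc => kc.2 * f kc.1).sum

/-- Insertion into a weighted list. -/
def ins [DecidableEq K] (k : K) (c : ℕ) : List (K × ℕ) → List (K × ℕ)
  | [] => [(k, c)]
  | (k', c') :: l => if k' = k then (k', c' + c) :: l else (k', c') :: ins k c l

theorem tot_cons (kc : K × ℕ) (l : List (K × ℕ)) (f : K → ℕ) :
    tot (kc :: l) f = kc.2 * f kc.1 + tot l f := by simp [tot]

theorem tot_ins [DecidableEq K] (k : K) (c : ℕ) (f : K → ℕ) :
    ∀ l : List (K × ℕ), tot (ins k c l) f = tot l f + c * f k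
  | [] => by simp [ins, tot]
  | (k', c') :: l => by
    by_cases h : k' = k
    · rw [ins, if_pos h, tot_cons, tot_cons, h]; ring
    · rw [ins, if_neg h, tot_cons, tot_cons, tot_ins k c f l]; ring

variable [AddCommMonoid K]

/-- Adding the possible values of one coordinate. -/
def step [DecidableEq K] (keep : K → Bool) (vals : List K) (s : List (K × ℕ)) : List (K × ℕ) :=
  s.foldl (fun acc kc =>
    vals.foldl (fun acc v => if keep (kc.1 + v) then ins (kc.1 + v) kc.2 acc else acc) acc) []

/-- Running over all coordinates. -/
def run [DecidableEq K] (keep : K → Bool) : List (List K) → List (K × ℕ) → List (K × ℕ)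
  | [], s => s
  | vals :: cs, s => run keep cs (step keep vals s)

/-- The sum over all choices. -/
def paths : List (List K) → (K → ℕ) → K → ℕ
  | [], f, k => f k
  | vals :: cs, f, k => (vals.map fun v => paths cs f (k + v)).sum

theorem tot_foldl_vals [DecidableEq K] (keep : K → Bool) (f : K → ℕ) (k : K) (c : ℕ) :
    ∀ (vals : List K) (acc : List (K × ℕ)),
      tot (vals.foldl (fun acc v => if keep (k + v) then ins (k + v) c acc else acc) acc) f =
        tot acc f + c * (vals.map fun v => if keep (k + v) then f (k + v) else 0).sum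
  | [], acc => by simp
  | v :: vals, acc => by
    rw [List.foldl_cons, tot_foldl_vals keep f k c vals, List.map_cons, List.sum_cons]
    by_cases h : keep (k + v)
    · rw [if_pos h, if_pos h, tot_ins]; ring
    · rw [if_neg h, if_neg h]; ring

theorem tot_step [DecidableEq K] (keep : K → Bool) (f : K → ℕ) (vals : List K) (s : List (K × ℕ)) :
    tot (step keep vals s) f =
      tot s fun k => (vals.map fun v => if keep (k + v) then f (k + v) else 0).sum := by
  have : ∀ (s : List (K × ℕ)) (acc : List (K × ℕ)),
      tot (s.foldl (fun acc kc =>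
        vals.foldl (fun acc v => if keep (kc.1 + v) then ins (kc.1 + v) kc.2 acc else acc) acc) acc) f =
      tot acc f + tot s fun k => (vals.map fun v => if keep (k + v) then f (k + v) else 0).sum := by
    intro s
    induction s with
    | nil => intro acc; simp [tot]
    | cons kc s ih => intro acc; rw [List.foldl_cons, ih, tot_foldl_vals, tot_cons]; ring
  rw [step, this]
  simp [tot]

theorem paths_zero_of_not_keep (keep : K → Bool) (f : K → ℕ) :
    ∀ (cs : List (List K)),
      (∀ vals ∈ cs, ∀ v ∈ vals, ∀ k, keep (k + v) → keep k) → (∀ k, ¬ keep k → f k = 0) →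
      ∀ k, ¬ keep k → paths cs f k = 0
  | [], _, hf, k, hk => hf k hk
  | vals :: cs, hm, hf, k, hk => by
    refine List.sum_eq_zero fun x hx => ?_
    obtain ⟨v, hv, rfl⟩ := List.mem_map.1 hx
    exact paths_zero_of_not_keep keep f cs (fun w hw => hm w (List.mem_cons_of_mem _ hw)) hf _
      fun h => hk (hm vals List.mem_cons_self v hv k h)

theorem tot_run [DecidableEq K] (keep : K → Bool) (f : K → ℕ) :
    ∀ (cs : List (List K)) (s : List (K × ℕ)),
      (∀ vals ∈ cs, ∀ v ∈ vals, ∀ k, keep (k + v) → keep k) → (∀ k, ¬ keep k → f k = 0) →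
      tot (run keep cs s) f = tot s (paths cs f)
  | [], s, _, _ => rfl
  | vals :: cs, s, hm, hf => by
    have hm' : ∀ w ∈ cs, ∀ v ∈ w, ∀ k, keep (k + v) → keep k :=
      fun w hw => hm w (List.mem_cons_of_mem _ hw)
    rw [run, tot_run keep f cs _ hm' hf, tot_step]
    refine congrArg (tot s) (funext fun k => congrArg List.sum (List.map_congr_left fun v _ => ?_))
    by_cases h : keep (k + v)
    · rw [if_pos h]
    · rw [if_neg h, paths_zero_of_not_keep keep f cs hm' hf _ h]

theorem sum_comm_list {α β : Type*} (g : α → β → ℕ) (l' : List β) :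
    ∀ l : List α, (l.map fun a => (l'.map fun b => g a b).sum).sum =
      (l'.map fun b => (l.map fun a => g a b).sum).sum
  | [] => by simp
  | a :: l => by
    simp only [List.map_cons, List.sum_cons, sum_comm_list g l' l, List.sum_map_add]

theorem paths_perm {cs cs' : List (List K)} (h : cs.Perm cs') (f : K → ℕ) :
    paths cs f = paths cs' f := by
  induction h with
  | nil => rfl
  | cons _ _ ih => funext k; simp only [paths, ih]
  | swap a b l =>
    funext k
    simp only [paths]
    rw [sum_comm_list]
    simp only [add_right_comm]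
  | trans _ _ ih₁ ih₂ => exact ih₁.trans ih₂

theorem paths_ofFn : ∀ {n : ℕ} (vals : Fin n → List ℤ) (_ : ∀ i, (vals i).Nodup) (φ : Fin n → ℤ → K)
    (f : K → ℕ) (k : K),
    paths (List.ofFn fun i => (vals i).map (φ i)) f k =
      ∑ x ∈ Fintype.piFinset (fun i => (vals i).toFinset), f (k + ∑ i, φ i (x i))
  | 0, vals, _, φ, f, k => by
    simp [paths, Fintype.piFinset_of_isEmpty]
  | n + 1, vals, hnd, φ, f, k => by
    rw [List.ofFn_succ, paths, List.map_map, ← List.sum_toFinset _ (hnd 0)]
    simp only [Function.comp_apply, paths_ofFn (fun i => vals i.succ) (fun i => hnd i.succ)]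
    rw [← Finset.sum_product']
    refine Finset.sum_bij' (fun p _ => Fin.cons p.1 p.2) (fun x _ => (x 0, Fin.tail x)) ?_ ?_ ?_ ?_ ?_
    · rintro ⟨a, b⟩ hp
      simp only [Finset.mem_product, Fintype.mem_piFinset] at hp
      simp only [Fintype.mem_piFinset]
      exact Fin.cases (by simpa using hp.1) fun i => by simpa using hp.2 i
    · intro x hx
      simp only [Fintype.mem_piFinset] at hx
      simp only [Finset.mem_product, Fintype.mem_piFinset]
      exact ⟨hx 0, fun i => hx i.succ⟩
    · rintro ⟨a, b⟩ _; simp
    · intro x _; exact Fin.cons_self_tail x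
    · rintro ⟨a, b⟩ _
      simp [Fin.sum_univ_succ, add_assoc]

end Engine

/-- The allowed values of a coordinate congruent to `r` modulo 4 in a vector of norm at most `N`. -/
def valsMod (N r : ℕ) : List ℤ :=
  ((List.range 17).map fun i : ℕ => (i : ℤ) - 8).filter fun v =>
    decide (v % 4 = (r : ℤ)) && decide (v * v ≤ (N : ℤ))

theorem nodup_valsMod (N r : ℕ) : (valsMod N r).Nodup := by
  unfold valsMod
  exact List.Nodup.filter _ (List.nodup_range.map fun a b h => by simpa using h)

theorem mem_valsMod {N r : ℕ} (hN : N < 81) (v : ℤ) :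
    v ∈ valsMod N r ↔ v % 4 = (r : ℤ) ∧ v * v ≤ (N : ℤ) := by
  simp only [valsMod, List.mem_filter, List.mem_map, List.mem_range, Bool.and_eq_true,
    decide_eq_true_eq, and_iff_right_iff_imp, and_imp]
  intro _ h
  have : -8 ≤ v ∧ v ≤ 8 := by constructor <;> nlinarith
  exact ⟨(v + 8).toNat, by omega, by omega⟩

variable {K : Type} [AddCommMonoid K]

/-- The statistic of one coordinate: square, residue of the value modulo 8, and the given one. -/
def stat (φ : ℕ → ℤ → K) (j : ℕ) (v : ℤ) : ℕ × ZMod 8 × K :=
  (v.natAbs * v.natAbs, (v : ZMod 8), φ j v)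

/-- The residue class of a coordinate. -/
def res (m : ℕ) (b : Bool) : ℕ := if b then m + 2 else m

/-- Pruning by the norm. -/
def keep (N : ℕ) (k : ℕ × ZMod 8 × K) : Bool := decide (k.1 ≤ N)

/-- The indicator of the target statistics. -/
def target (N : ℕ) (m : ℕ) (P : K → Bool) (k : ℕ × ZMod 8 × K) : ℕ :=
  if k.1 = N ∧ k.2.1 = ((4 * m : ℕ) : ZMod 8) ∧ P k.2.2 then 1 else 0

/-- The coordinates of a code word, sorted by class and membership. -/
def coords (J : ℕ) (masks : ℕ → ℕ) (pat : List ℕ) : List (ℕ × Bool) :=
  (List.range J).flatMap fun j =>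
    List.replicate (pat.getD j 0) (j, true) ++
      List.replicate (bitCount (masks j) - pat.getD j 0) (j, false)

/-- The number of vectors of one parity over one code word. -/
def cell [DecidableEq K] (N : ℕ) (φ : ℕ → ℤ → K) (P : K → Bool) (m : ℕ) (cds : List (ℕ × Bool)) :
    ℕ :=
  tot (run (keep N) (cds.map fun jb => (valsMod N (res m jb.2)).map (stat φ jb.1)) [(0, 1)])
    (target N m P)

/-- The numbers of points of a code word in the classes. -/
def pattern (J : ℕ) (masks : ℕ → ℕ) (n : ℕ) : List ℕ :=
  (List.range J).map fun j => bitCount (n &&& masks j)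

/-- The classes of a list of masks. -/
def clsOf (J : ℕ) (masks : ℕ → ℕ) (i : ℕ) : ℕ := (List.range J).findIdx fun j => (masks j).testBit i

/-- The masks form a partition. -/
def IsPartition (J : ℕ) (masks : ℕ → ℕ) : Prop :=
  ∀ i < 24, ∀ j < J, (masks j).testBit i = decide (clsOf J masks i = j)

instance (J : ℕ) (masks : ℕ → ℕ) : Decidable (IsPartition J masks) := by
  unfold IsPartition; infer_instance

/-- The classes cover the points. -/
def Covers (J : ℕ) (masks : ℕ → ℕ) : Prop := ∀ i < 24, clsOf J masks i < J

instance (J : ℕ) (masks : ℕ → ℕ) : Decidable (Covers J masks) := by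
  unfold Covers; infer_instance

variable {J : ℕ} {masks : ℕ → ℕ}

theorem bitCount_eq_countP (n : ℕ) :
    bitCount n = (List.range 24).countP fun i => n.testBit i := by
  rw [bitCount, List.countP_eq_length_filter]

theorem coords_perm (hP : IsPartition J masks) (hC : Covers J masks) (n : ℕ) :
    (coords J masks (pattern J masks n)).Perm
      ((List.range 24).map fun i => (clsOf J masks i, n.testBit i)) := by
  rw [List.perm_iff_count]
  rintro ⟨j, b⟩
  rw [List.count_eq_countP (l := List.map _ _), List.countP_map, coords, List.count_flatMap]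
  have hj : ∀ j' ∈ List.range J, j' ≠ j →
      (List.count (j, b) ∘ fun j => List.replicate ((pattern J masks n).getD j 0) (j, true) ++
        List.replicate (bitCount (masks j) - (pattern J masks n).getD j 0) (j, false)) j' = 0 := by
    intro j' _ hne
    simp [List.count_replicate, hne]
  by_cases hjJ : j < J
  · rw [List.sum_map_eq_nsmul_single j _ fun a hne ha => hj a ha hne,
      List.count_eq_one_of_mem List.nodup_range (List.mem_range.2 hjJ), one_smul]
    have hg : (pattern J masks n).getD j 0 = bitCount (n &&& masks j) := by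
      simp [pattern, List.getD_eq_getElem?_getD, hjJ]
    simp only [Function.comp_apply, List.count_append, List.count_replicate, hg, bitCount_eq_countP]
    have hm : ∀ i ∈ List.range 24, (masks j).testBit i = decide (clsOf J masks i = j) :=
      fun i hi => hP i (List.mem_range.1 hi) j hjJ
    have hle : (List.range 24).countP (fun i => (n &&& masks j).testBit i) ≤
        (List.range 24).countP fun i => (masks j).testBit i :=
      List.countP_mono_left fun i _ h => by simp [Nat.testBit_and] at h; exact h.2
    cases b
    · have h2 : ((List.range 24).countP fun i => (n &&& masks j).testBit i) +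
          (List.range 24).countP (fun i => (clsOf J masks i, n.testBit i) == (j, false)) =
          (List.range 24).countP fun i => (masks j).testBit i := by
        have : ∀ l : List ℕ, (∀ i ∈ l, (masks j).testBit i = decide (clsOf J masks i = j)) →
            (l.countP fun i => (n &&& masks j).testBit i) +
              l.countP (fun i => (clsOf J masks i, n.testBit i) == (j, false)) =
              l.countP fun i => (masks j).testBit i := by
          intro l
          induction l with
          | nil => simp
          | cons i l ih =>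
            intro h
            have h' := ih fun x hx => h x (List.mem_cons_of_mem _ hx)
            simp only [List.countP_cons, Nat.testBit_and, h i List.mem_cons_self] at h' ⊢
            by_cases hc : clsOf J masks i = j <;> cases n.testBit i <;> simp [hc] at h' ⊢ <;> omega
        exact this _ hm
      simp only [Function.comp_def] at h2 ⊢
      simp [Nat.testBit_and] at h2 hle ⊢
      omega
    · simp only [Function.comp_def]
      simp
      refine List.countP_congr fun i hi => ?_
      simp [hm i hi, and_comm]
  · rw [List.sum_eq_zero fun x hx => by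
      obtain ⟨a, ha, rfl⟩ := List.mem_map.1 hx
      exact hj a ha (fun h => hjJ (h ▸ List.mem_range.1 ha))]
    refine (List.countP_eq_zero.2 fun i hi h => ?_).symm
    simp only [Function.comp_apply, beq_iff_eq, Prod.mk.injEq] at h
    exact hjJ (h.1 ▸ hC i (List.mem_range.1 hi))

theorem map_range_eq_ofFn {α : Type*} (g : ℕ → α) (n : ℕ) :
    (List.range n).map g = List.ofFn fun i : Fin n => g i.val :=
  List.ext_getElem (by simp) (by simp)

theorem cell_eq [DecidableEq K] (hP : IsPartition J masks) (hC : Covers J masks) {N : ℕ}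
    (φ : ℕ → ℤ → K) (P : K → Bool) (m n : ℕ) :
    cell N φ P m (coords J masks (pattern J masks n)) =
      ((Fintype.piFinset fun p : GolayPt =>
          (valsMod N (res m (n.testBit (ptEquiv p).val))).toFinset).filter fun x : GolayPt → ℤ =>
        (∑ p, (x p).natAbs * (x p).natAbs) = N ∧ (∑ p, (x p : ZMod 8)) = ((4 * m : ℕ) : ZMod 8) ∧
          P (∑ p, φ (clsOf J masks (ptEquiv p).val) (x p)) = true).card := by
  rw [cell, tot_run (keep N) (target N m P)]
  · rw [tot_cons, tot, List.map_nil, List.sum_nil, add_zero, one_mul,
      paths_perm ((coords_perm hP hC n).map _), List.map_map, map_range_eq_ofFn]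
    simp only [Function.comp_def]
    rw [paths_ofFn (fun i : Fin 24 => valsMod N (res m (n.testBit i.val))) (fun i => nodup_valsMod _ _)
        (fun i v => stat φ (clsOf J masks i.val) v), Finset.card_filter]
    refine Finset.sum_bij' (fun x _ => fun p => x (ptEquiv p)) (fun y _ => fun i => y (ptEquiv.symm i))
      ?_ ?_ ?_ ?_ ?_
    · intro x hx
      simp only [Fintype.mem_piFinset] at hx ⊢
      exact fun p => hx (ptEquiv p)
    · intro y hy
      simp only [Fintype.mem_piFinset] at hy ⊢
      exact fun i => by simpa using hy (ptEquiv.symm i)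
    · intro x _; funext i; simp
    · intro y _; funext p; simp
    · intro x _
      simp only [target, stat, zero_add, Prod.fst_sum, Prod.snd_sum]
      rw [← Equiv.sum_comp ptEquiv, ← Equiv.sum_comp ptEquiv fun i => ((x i : ℤ) : ZMod 8),
        ← Equiv.sum_comp ptEquiv fun i : Fin 24 => φ (clsOf J masks i.val) (x i)]
  · intro vals hvals v hv k hk
    simp only [keep, decide_eq_true_eq, Prod.fst_add] at hk ⊢
    omega
  · intro k hk
    simp only [keep, decide_eq_true_eq] at hk
    simp only [target, if_neg (fun h : k.1 = N ∧ _ => hk h.1.le)]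

theorem even_iff {x : GolayPt → ℤ} :
    x ∈ leechLattice ↔ ∃ m : ℕ, m ≤ 1 ∧ ∃ n ∈ golayList,
      (∀ p, x p % 4 = (res m (n.testBit (ptEquiv p).val) : ℤ)) ∧
        (∑ p, (x p : ZMod 8)) = ((4 * m : ℕ) : ZMod 8) := by
  have hmod : ∀ (m : ℕ), (∑ p, (x p : ZMod 8)) = ((4 * m : ℕ) : ZMod 8) ↔
      ∑ p, x p ≡ 4 * (m : ℤ) [ZMOD 8] := by
    intro m
    rw [← Int.cast_sum, show ((4 * m : ℕ) : ZMod 8) = ((4 * (m : ℤ) : ℤ) : ZMod 8) by push_cast; ring,
      ZMod.intCast_eq_intCast_iff]
    rfl
  constructor
  · intro hx
    obtain ⟨m, hpar, hsum, hcode⟩ := mem_leechLattice_iff.1 hx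
    refine ⟨(m % 2).toNat, by omega, ?_⟩
    obtain ⟨n, hn, hns⟩ := mem_supports.1 (hcode (m % 2 + 2))
    refine ⟨n, hn, fun p => ?_, ?_⟩
    · have h2 : x p % 2 = m % 2 := hpar p
      have hp := Finset.ext_iff.1 hns p
      simp only [mem_toSet, Finset.mem_filter, Finset.mem_univ, true_and] at hp
      simp only [Int.ModEq] at hp
      by_cases hb : n.testBit (ptEquiv p).val = true
      · have := hp.1 hb
        simp only [res, hb, if_true]; omega
      · have := mt hp.2 hb
        simp only [res, hb]; simp; omega
    · rw [hmod]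
      simp only [Int.ModEq] at hsum ⊢
      omega
  · rintro ⟨m, hm, n, hn, hres, hsum⟩
    rw [hmod] at hsum
    refine mem_leechLattice_iff_form.2 ⟨⟨(m : ℤ), toSet n, fun p =>
      (x p - (m : ℤ) - 2 * indi (toSet n) p) / 4, mem_supports.2 ⟨n, hn, rfl⟩, fun p => ?_, hsum⟩⟩
    have hr := hres p
    simp only [indi, mem_toSet]
    by_cases hb : n.testBit (ptEquiv p).val = true <;> simp only [res, hb] at hr ⊢ <;> simp at hr ⊢ <;>
      omega

/-- The set counted. -/
def shell (N : ℕ) (φ : GolayPt → ℤ → K) (P : K → Bool) : Set (GolayPt → ℤ) :=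
  {x | x ∈ leechLattice ∧ sqNorm x = (N : ℤ) ∧ P (∑ p, φ p (x p)) = true}

theorem shell_ncard [DecidableEq K] (hP : IsPartition J masks) (hC : Covers J masks) {N : ℕ}
    (hN : N < 81) (φ : ℕ → ℤ → K) (P : K → Bool) :
    (shell N (fun p => φ (clsOf J masks (ptEquiv p).val)) P).ncard =
      (golayList.map fun n => cell N φ P 0 (coords J masks (pattern J masks n)) +
        cell N φ P 1 (coords J masks (pattern J masks n))).sum := by
  classical
  simp only [cell_eq hP hC φ P]
  set S : ℕ → ℕ → Finset (GolayPt → ℤ) := fun m n =>
    (Fintype.piFinset fun p : GolayPt =>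
        (valsMod N (res m (n.testBit (ptEquiv p).val))).toFinset).filter fun x : GolayPt → ℤ =>
      (∑ p, (x p).natAbs * (x p).natAbs) = N ∧ (∑ p, (x p : ZMod 8)) = ((4 * m : ℕ) : ZMod 8) ∧
        P (∑ p, φ (clsOf J masks (ptEquiv p).val) (x p)) = true with hS
  have hnorm : ∀ x : GolayPt → ℤ, ((∑ p, (x p).natAbs * (x p).natAbs : ℕ) : ℤ) = sqNorm x := fun x => by
    rw [sqNorm, Nat.cast_sum]
    exact Finset.sum_congr rfl fun p _ => by rw [Int.natAbs_mul_self, pow_two]
  have hmem : ∀ m n x, x ∈ S m n → ∀ p, x p % 4 = (res m (n.testBit (ptEquiv p).val) : ℤ) := by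
    intro m n x hx p
    simp only [hS, Finset.mem_filter, Fintype.mem_piFinset, List.mem_toFinset] at hx
    exact ((mem_valsMod hN _).1 (hx.1 p)).1
  have hdis : ∀ m m' n n', n ∈ golayList → n' ∈ golayList → m ≤ 1 → m' ≤ 1 → ∀ x, x ∈ S m n →
      x ∈ S m' n' → m = m' ∧ n = n' := by
    intro m m' n n' hn hn' hm hm' x hx hx'
    have key : ∀ p, res m (n.testBit (ptEquiv p).val) = res m' (n'.testBit (ptEquiv p).val) := fun p => by
      have h1 := hmem m n x hx p
      have h2 := hmem m' n' x hx' p
      omega
    have hmm : m = m' := by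
      have := key (pt 0)
      simp only [res] at this
      split at this <;> split at this <;> omega
    subst hmm
    refine ⟨rfl, Nat.eq_of_testBit_eq fun i => ?_⟩
    by_cases hi : i < 24
    · have h' := key (pt i)
      rw [ptEquiv_pt hi] at h'
      simp only [res] at h'
      cases h1 : n.testBit i <;> cases h2 : n'.testBit i <;> simp [h1, h2] at h' ⊢
    · have h2 : 2 ^ 24 ≤ 2 ^ i := Nat.pow_le_pow_right (by omega) (by omega)
      rw [Nat.testBit_eq_false_of_lt ((golayList_lt n hn).trans_le h2),
        Nat.testBit_eq_false_of_lt ((golayList_lt n' hn').trans_le h2)]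
  have hset : shell N (fun p => φ (clsOf J masks (ptEquiv p).val)) P =
      ((golayList.toFinset.biUnion fun n => S 0 n ∪ S 1 n : Finset (GolayPt → ℤ)) : Set _) := by
    ext x
    simp only [shell, Set.mem_ofPred_eq, Finset.coe_biUnion, Set.mem_iUnion, Finset.mem_coe,
      Finset.mem_union, List.mem_toFinset]
    constructor
    · rintro ⟨hx, hn2, hPx⟩
      obtain ⟨m, hm, n, hn, hres, hsum⟩ := even_iff.1 hx
      have hxS : x ∈ S m n := by
        simp only [hS, Finset.mem_filter, Fintype.mem_piFinset, List.mem_toFinset]
        refine ⟨fun p => (mem_valsMod hN _).2 ⟨hres p, ?_⟩, ?_, hsum, hPx⟩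
        · rw [← hn2, ← pow_two]
          exact Finset.single_le_sum (fun q _ => sq_nonneg (x q)) (Finset.mem_univ p)
        · exact_mod_cast (hnorm x).trans hn2
      refine ⟨n, hn, ?_⟩
      interval_cases m
      · exact Or.inl hxS
      · exact Or.inr hxS
    · rintro ⟨n, hn, h⟩
      have go : ∀ m ≤ 1, x ∈ S m n → x ∈ leechLattice ∧ sqNorm x = (N : ℤ) ∧
          P (∑ p, φ (clsOf J masks (ptEquiv p).val) (x p)) = true := fun m hm hxS => by
        have hres := hmem m n x hxS
        simp only [hS, Finset.mem_filter] at hxS
        exact ⟨even_iff.2 ⟨m, hm, n, hn, hres, hxS.2.2.1⟩,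
          (hnorm x).symm.trans (by exact_mod_cast hxS.2.1), hxS.2.2.2⟩
      rcases h with h | h
      · exact go 0 (by omega) h
      · exact go 1 le_rfl h
  rw [hset, Set.ncard_coe_finset, Finset.card_biUnion, ← List.sum_toFinset _ golayList_nodup]
  · refine Finset.sum_congr rfl fun n hn => Finset.card_union_of_disjoint ?_
    rw [Finset.disjoint_left]
    intro x hx hx'
    rw [List.mem_toFinset] at hn
    exact absurd (hdis 0 1 n n hn hn (by omega) le_rfl x hx hx').1 (by omega)
  · intro n hn n' hn' hne
    rw [Function.onFun, Finset.disjoint_left]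
    intro x hx hx'
    rw [Finset.mem_coe, List.mem_toFinset] at hn hn'
    rcases Finset.mem_union.1 hx with h | h <;> rcases Finset.mem_union.1 hx' with h' | h' <;>
      exact hne (hdis _ _ n n' hn hn' (by omega) (by omega) x h h').2

/-- Evaluation of a sum over the code by a table of patterns with multiplicities. -/
theorem sum_eq_table {β : Type} [DecidableEq β] (g : ℕ → β) (F : β → ℕ) (table : List (β × ℕ))
    (hnd : (table.map (·.1)).Nodup)
    (hall : allSpan (fun n => decide (g n ∈ table.map (·.1))) golayBasis 0 = true)
    (hcnt : ∀ bm ∈ table, countSpan (fun n => decide (g n = bm.1)) golayBasis 0 = bm.2) :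
    (golayList.map fun n => F (g n)).sum = (table.map fun bm => bm.2 * F bm.1).sum := by
  have key : ∀ l : List ℕ, (∀ n ∈ l, g n ∈ table.map (·.1)) →
      (l.map fun n => F (g n)).sum =
        (table.map fun bm => l.countP (fun n => decide (g n = bm.1)) * F bm.1).sum := by
    intro l
    induction l with
    | nil => simp
    | cons n l ih =>
      intro h
      simp only [List.map_cons, List.sum_cons, List.countP_cons, add_mul, List.sum_map_add,
        decide_eq_true_eq]
      rw [ih fun x hx => h x (List.mem_cons_of_mem _ hx), add_comm]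
      congr 1
      obtain ⟨bm, hbm, hbg⟩ := List.mem_map.1 (h n List.mem_cons_self)
      rw [← List.sum_toFinset _ (List.Nodup.of_map _ hnd), Finset.sum_eq_single bm
        (fun bm' hmem hne => ?_) (fun hn' => absurd (List.mem_toFinset.2 hbm) hn'), if_pos hbg.symm,
        one_mul, hbg]
      rw [if_neg fun he => hne (List.inj_on_of_nodup_map hnd (List.mem_toFinset.1 hmem) hbm
        (he.symm.trans hbg.symm)), zero_mul]
  rw [key golayList fun n hn => of_decide_eq_true (forall_golayList hall n hn)]
  refine congrArg List.sum (List.map_congr_left fun bm hbm => ?_)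
  rw [countP_golayList, hcnt bm hbm]

end CfsgLib.Leech.Count
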