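import Cfsg.Agent.Lib.Leech.Lat
import Cfsg.Prelude.Def_SporadicCombinatorics
import Cfsg.Agent.Lib.Golay.M24

/-!
# Crosses, their transitivity and the stabiliser of the standard cross
-/

set_option autoImplicit false

open scoped Pointwise symmDiff

namespace CfsgLib.Leech

open Cfsg CfsgLib.Golay

/-- The automorphism given by an additive isometry of the lattice. -/
def coOf (f : leechLattice ≃+ leechLattice)
    (hf : ∀ v, sqNorm (f v : GolayPt → ℤ) = sqNorm (v : GolayPt → ℤ)) : Co0 :=
  ⟨f.toEquiv, fun v w => map_add f v w, hf⟩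

theorem coOf_smul (f : leechLattice ≃+ leechLattice) (hf) (v : leechLattice) :
    coOf f hf • v = f v := rfl

theorem smul_add' (g : Co0) (v w : leechLattice) : g • (v + w) = g • v + g • w := g.2.1 v w

/-- An automorphism as an additive map. -/
def actHom (g : Co0) : leechLattice →+ leechLattice := AddMonoidHom.mk' (fun v => g • v) (smul_add' g)

theorem actHom_apply (g : Co0) (v : leechLattice) : actHom g v = g • v := rfl

theorem smul_neg' (g : Co0) (v : leechLattice) : g • (-v) = -(g • v) := map_neg (actHom g) v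

theorem smul_sub' (g : Co0) (v w : leechLattice) : g • (v - w) = g • v - g • w := map_sub (actHom g) v w

theorem smul_zsmul' (g : Co0) (k : ℤ) (v : leechLattice) : g • (k • v) = k • (g • v) :=
  map_zsmul (actHom g) k v

theorem sqNorm_smul_co (g : Co0) (v : leechLattice) :
    sqNorm ((g • v : leechLattice) : GolayPt → ℤ) = sqNorm (v : GolayPt → ℤ) := g.2.2 v

theorem co_ext {g h : Co0} (H : ∀ v : leechLattice, g • v = h • v) : g = h :=
  Subtype.ext (Equiv.ext H)

theorem dot_smul_co (g : Co0) (v w : leechLattice) :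
    dotInt ((g • v : leechLattice) : GolayPt → ℤ) ((g • w : leechLattice) : GolayPt → ℤ) =
      dotInt (v : GolayPt → ℤ) (w : GolayPt → ℤ) := by
  have h := sqNorm_smul_co g (v + w)
  rw [smul_add', AddSubgroup.coe_add, AddSubgroup.coe_add, sqNorm_add, sqNorm_add, sqNorm_smul_co,
    sqNorm_smul_co] at h
  omega

theorem smul_mem_twoMul (g : Co0) {v : leechLattice} (h : v ∈ twoMul leechLattice) :
    g • v ∈ twoMul leechLattice := by
  obtain ⟨z, rfl⟩ := h
  exact ⟨g • z, (smul_zsmul' g 2 z).symm⟩

theorem mem_twoMul_leech {v : leechLattice} :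
    v ∈ twoMul leechLattice ↔ ∃ z ∈ leechLattice, (v : GolayPt → ℤ) = 2 • z := by
  constructor
  · rintro ⟨z, rfl⟩
    exact ⟨z, z.2, funext fun i => by simp⟩
  · rintro ⟨z, hz, h⟩
    exact ⟨⟨z, hz⟩, Subtype.ext (funext fun i => by simp [h])⟩

/-- The vector with one coordinate `t`, a multiple of 8. -/
def axisVec (p : GolayPt) (t : ℤ) (ht : (8 : ℤ) ∣ t) : leechLattice :=
  ⟨Pi.single p t, mem_leechLattice_iff_form.2 ⟨⟨0, ∅, fun i => (Pi.single p t : GolayPt → ℤ) i / 4,
    codeSet_empty, fun i => by
      rcases eq_or_ne i p with rfl | h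
      · simp [indi]; omega
      · simp [indi, Pi.single_eq_of_ne h], by
      rw [Finset.sum_pi_single']
      simp [Int.ModEq]; omega⟩⟩⟩

theorem coe_axisVec (p : GolayPt) (t : ℤ) (ht : (8 : ℤ) ∣ t) :
    ((axisVec p t ht : leechLattice) : GolayPt → ℤ) = Pi.single p t := rfl

theorem sqNorm_single (p : GolayPt) (t : ℤ) : sqNorm (Pi.single p t) = t ^ 2 := by
  rw [sqNorm, Finset.sum_eq_single p (fun b _ hb => by simp [Pi.single_eq_of_ne hb]) (by simp)]
  simp

/-- The chosen vector of the standard cross. -/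
def baseVec : leechLattice := axisVec none 8 dvd_rfl

/-- The standard cross inside the lattice. -/
def stdSet : Set leechLattice := {v | (v : GolayPt → ℤ) ∈ stdCross}

theorem mem_stdSet {v : leechLattice} :
    v ∈ stdSet ↔ ∃ (p : GolayPt) (t : ℤ), (t = 8 ∨ t = -8) ∧ (v : GolayPt → ℤ) = Pi.single p t :=
  Iff.rfl

theorem inner_self_of_norm {v : leechLattice} {n : ℤ} (h : sqNorm (v : GolayPt → ℤ) = 8 * n) :
    leechEven.b v v = n := by
  have := eight_mul_inner_self v
  show innerL v v = n
  omega

theorem baseVec_eight : leechEven.b baseVec baseVec = 8 :=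
  inner_self_of_norm (by rw [baseVec, coe_axisVec, sqNorm_single]; norm_num)

theorem ncard_stdSet : stdSet.ncard = 48 := by
  have e : stdSet = Set.range fun pb : GolayPt × Bool =>
      if pb.2 then axisVec pb.1 8 dvd_rfl else axisVec pb.1 (-8) ⟨-1, by norm_num⟩ := by
    ext v
    constructor
    · rintro ⟨p, t, rfl | rfl, hv⟩
      · exact ⟨(p, true), Subtype.ext hv.symm⟩
      · exact ⟨(p, false), Subtype.ext hv.symm⟩
    · rintro ⟨⟨p, b⟩, rfl⟩
      cases b
      · exact ⟨p, -8, Or.inr rfl, rfl⟩
      · exact ⟨p, 8, Or.inl rfl, rfl⟩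
  rw [e, Set.ncard_range_of_injective]
  · simp [Nat.card_eq_fintype_card]
  · rintro ⟨p, b⟩ ⟨q, c⟩ h
    have h' : (Pi.single p (if b then (8 : ℤ) else -8) : GolayPt → ℤ) =
        Pi.single q (if c then 8 else -8) := by
      have := congrArg (fun v : leechLattice => (v : GolayPt → ℤ)) h
      cases b <;> cases c <;>
        simp only [Bool.false_eq_true, if_false, if_true, coe_axisVec] at this ⊢ <;> exact this
    have hpq : p = q := by
      by_contra hne
      have := congrFun h' p
      rw [Pi.single_eq_same, Pi.single_eq_of_ne hne] at this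
      split at this <;> omega
    subst hpq
    have := congrFun h' p
    simp only [Pi.single_eq_same] at this
    cases b <;> cases c <;> simp at this ⊢

theorem stdSet_eq_cls8 : stdSet = leechEven.cls8 baseVec := by
  refine Set.eq_of_subset_of_ncard_le ?_ ?_ (leechEven.finite_cls8 _)
  · rintro v ⟨p, t, ht, hv⟩
    have h8 : (8 : ℤ) ∣ t := by rcases ht with rfl | rfl <;> norm_num
    refine ⟨inner_self_of_norm (by rw [hv, sqNorm_single]; rcases ht with rfl | rfl <;> norm_num), ?_⟩
    rw [mem_twoMul_leech]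
    refine ⟨Pi.single none 4 - Pi.single p (t / 2), ?_, ?_⟩
    · refine mem_leechLattice_iff_form.2 ⟨⟨0, ∅, Pi.single none 1 - Pi.single p (t / 8),
        codeSet_empty, fun i => ?_, ?_⟩⟩
      · simp only [indi, Finset.notMem_empty, if_false, Pi.sub_apply, Pi.single_apply]
        split_ifs <;> omega
      · simp only [Pi.sub_apply, Finset.sum_sub_distrib, Finset.sum_pi_single', Finset.mem_univ, if_true]
        simp only [Int.ModEq]; omega
    · rw [AddSubgroup.coe_sub, baseVec, coe_axisVec, hv]
      funext i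
      simp only [Pi.sub_apply, Pi.smul_apply, Pi.single_apply, nsmul_eq_mul]
      push_cast
      split_ifs <;> omega
  · rw [leechEven.ncard_cls8 baseVec_eight, ncard_stdSet]

/-- An automorphism taking the class of a norm 8 vector to the standard cross. -/
theorem exists_to_std {v : leechLattice} (hv : leechEven.b v v = 8) :
    ∃ g : Co0, ∀ y, y ∈ leechEven.cls8 v ↔ g • y ∈ stdSet := by
  obtain ⟨f, hf, hcls⟩ := leechEven.exists_iso_frame hv
  exact ⟨coOf f fun w => by rw [hf]; exact eight_mul_inner_self w, fun y => hcls y⟩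

theorem self_mem_cls8 {v : leechLattice} (hv : leechEven.b v v = 8) : v ∈ leechEven.cls8 v :=
  ⟨hv, by rw [sub_self]; exact zero_mem _⟩

/-- Transitivity on the classes of norm 8 vectors. -/
theorem exists_congr_smul {v w : leechLattice} (hv : leechEven.b v v = 8) (hw : leechEven.b w w = 8) :
    ∃ g : Co0, g • v - w ∈ twoMul leechLattice := by
  obtain ⟨a, ha⟩ := exists_to_std hv
  obtain ⟨b, hb⟩ := exists_to_std hw
  have h1 : a • v ∈ leechEven.cls8 baseVec := stdSet_eq_cls8 ▸ (ha v).1 (self_mem_cls8 hv)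
  have h2 : b • w ∈ leechEven.cls8 baseVec := stdSet_eq_cls8 ▸ (hb w).1 (self_mem_cls8 hw)
  refine ⟨b⁻¹ * a, ?_⟩
  have h3 : a • v - b • w ∈ twoMul leechLattice := by
    have := sub_mem h2.2 h1.2
    simpa using this
  have h4 := smul_mem_twoMul b⁻¹ h3
  rwa [smul_sub', inv_smul_smul, smul_smul] at h4

theorem smul_cls8 (g : Co0) (v : leechLattice) :
    g • leechEven.cls8 v = leechEven.cls8 (g • v) := by
  ext y
  rw [Set.mem_smul_set_iff_inv_smul_mem]
  have hn : leechEven.b (g⁻¹ • y) (g⁻¹ • y) = leechEven.b y y :=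
    inner_self_of_norm (by rw [sqNorm_smul_co]; exact (eight_mul_inner_self y).symm)
  simp only [EvenLat.cls8, Set.mem_ofPred_eq, hn]
  refine and_congr_right fun _ => ⟨fun h => ?_, fun h => ?_⟩
  · have := smul_mem_twoMul g h
    rwa [smul_sub', smul_inv_smul] at this
  · have := smul_mem_twoMul g⁻¹ h
    rwa [smul_sub', inv_smul_smul] at this

/-- The stabiliser of the standard cross. -/
def crossStab : Subgroup Co0 := MulAction.stabilizer Co0 stdSet

theorem mem_crossStab_iff (g : Co0) :
    g ∈ crossStab ↔ ∀ v : leechLattice, (v : GolayPt → ℤ) ∈ stdCross →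
      ((g • v : leechLattice) : GolayPt → ℤ) ∈ stdCross := by
  have hfin : stdSet.Finite := Set.finite_of_ncard_ne_zero (by rw [ncard_stdSet]; norm_num)
  rw [crossStab, MulAction.mem_stabilizer_iff]
  constructor
  · intro h v hv
    have : g • v ∈ g • stdSet := Set.smul_mem_smul_set hv
    rwa [h] at this
  · intro h
    refine Set.eq_of_subset_of_ncard_le ?_ (by rw [Set.ncard_smul_set]) hfin
    rintro _ ⟨v, hv, rfl⟩
    exact h v hv

/-- The monomial automorphism of a code permutation and a code set. -/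
def monoAut (σ : Equiv.Perm GolayPt) (hσ : σ ∈ M24) (c : Finset GolayPt) (hc : CodeSet c) : Co0 :=
  signAut c hc * permAut σ hσ

theorem coe_monoAut_smul (σ : Equiv.Perm GolayPt) (hσ : σ ∈ M24) (c : Finset GolayPt) (hc : CodeSet c)
    (v : leechLattice) :
    ((monoAut σ hσ c hc • v : leechLattice) : GolayPt → ℤ) = signedPerm σ c v := by
  rw [monoAut, mul_smul, coe_signAut_smul, coe_permAut_smul]
  rfl

theorem signedPerm_single (σ : Equiv.Perm GolayPt) (c : Finset GolayPt) (p : GolayPt) (t : ℤ) :
    signedPerm σ c (Pi.single p t) = Pi.single (σ p) (if σ p ∈ c then -t else t) := by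
  funext i
  rcases eq_or_ne i (σ p) with rfl | h
  · simp [signedPerm]
  · have : σ.symm i ≠ p := fun h' => h (by rw [← h', Equiv.apply_symm_apply])
    simp [signedPerm, Pi.single_eq_of_ne h, Pi.single_eq_of_ne this]

theorem monoAut_mem (σ : Equiv.Perm GolayPt) (hσ : σ ∈ M24) (c : Finset GolayPt) (hc : CodeSet c) :
    monoAut σ hσ c hc ∈ crossStab := by
  rw [mem_crossStab_iff]
  rintro v ⟨p, t, ht, hv⟩
  rw [coe_monoAut_smul, hv, signedPerm_single]
  exact ⟨σ p, _, by split <;> omega, rfl⟩

/-- The elements of the stabiliser of the standard cross are monomial. -/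
theorem exists_monoAut_of_mem {g : Co0} (hg : g ∈ crossStab) :
    ∃ (σ : Equiv.Perm GolayPt) (hσ : σ ∈ M24) (c : Finset GolayPt) (hc : CodeSet c),
      g = monoAut σ hσ c hc := by
  classical
  have him : ∀ p, ∃ (q : GolayPt) (t : ℤ), (t = 8 ∨ t = -8) ∧
      ((g • axisVec p 8 dvd_rfl : leechLattice) : GolayPt → ℤ) = Pi.single q t := fun p =>
    (mem_crossStab_iff g).1 hg _ ⟨p, 8, Or.inl rfl, rfl⟩
  choose q t ht hqt using him
  have hinj : Function.Injective q := by
    intro a b hab
    by_contra hne
    have h := dot_smul_co g (axisVec a 8 dvd_rfl) (axisVec b 8 dvd_rfl)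
    rw [hqt, hqt, hab, coe_axisVec, coe_axisVec, dotInt, dotInt,
      Finset.sum_eq_single (q b) (fun i _ hi => by simp [Pi.single_eq_of_ne hi]) (by simp),
      Finset.sum_eq_zero (fun i _ => by
        rcases eq_or_ne i a with rfl | hi
        · simp [Pi.single_eq_of_ne hne]
        · simp [Pi.single_eq_of_ne hi])] at h
    simp only [Pi.single_eq_same, mul_eq_zero] at h
    have := ht a; have := ht b; omega
  let σ : Equiv.Perm GolayPt := Equiv.ofBijective q (Finite.injective_iff_bijective.1 hinj)
  let c : Finset GolayPt := Finset.univ.filter fun i => t (σ.symm i) = -8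
  have haxis : ∀ p, ((g • axisVec p 8 dvd_rfl : leechLattice) : GolayPt → ℤ) =
      signedPerm σ c (Pi.single p 8) := fun p => by
    rw [hqt, signedPerm_single]
    show _ = Pi.single (q p) _
    congr 1
    have hm : σ p ∈ c ↔ t p = -8 := by simp [c]
    rcases ht p with h | h
    · rw [if_neg (by rw [hm]; omega), h]
    · rw [if_pos (hm.2 h), h]
  have hall : ∀ v : leechLattice,
      ((g • v : leechLattice) : GolayPt → ℤ) = signedPerm σ c v := by
    intro v
    have e : (8 : ℤ) • v = ∑ p, (v : GolayPt → ℤ) p • axisVec p 8 dvd_rfl := by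
      refine Subtype.ext (funext fun i => ?_)
      simp only [AddSubgroup.coe_zsmul, AddSubgroup.val_finsetSum, coe_axisVec, Pi.smul_apply,
        Finset.sum_apply, smul_eq_mul]
      rw [Finset.sum_eq_single i (fun b _ hb => by simp [Pi.single_eq_of_ne hb.symm]) (by simp)]
      simp [mul_comm]
    have h := congrArg (fun w => ((actHom g w : leechLattice) : GolayPt → ℤ)) e
    simp only [map_zsmul, map_sum, AddSubgroup.coe_zsmul, AddSubgroup.val_finsetSum, actHom_apply] at h
    funext i
    have hi := congrFun h i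
    simp only [Pi.smul_apply, Finset.sum_apply, smul_eq_mul, haxis] at hi
    rw [Finset.sum_eq_single (σ.symm i) (fun b _ hb => by
        simp [signedPerm, Pi.single_eq_of_ne hb.symm]) (by simp)] at hi
    simp only [signedPerm, Pi.single_eq_same] at hi ⊢
    split at hi
    · rename_i h'; rw [if_pos h']; linarith
    · rename_i h'; rw [if_neg h']; linarith
  have hσ : σ ∈ M24 := by
    refine mem_M24_of_basis σ fun b hb => ?_
    have hC : CodeSet (toSet b) := mem_supports.2 ⟨b, mem_spanList_self hb, rfl⟩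
    let v : leechLattice := ⟨fun p => 2 * indi (toSet b) p, mem_leechLattice_iff_form.2
      ⟨⟨0, toSet b, 0, hC, fun i => by simp, by
        rw [← Finset.mul_sum, sum_indi]
        obtain ⟨k, hk⟩ := codeSet_card_dvd hC
        simp only [Int.ModEq]; omega⟩⟩⟩
    have hm := (mem_leechLattice_iff.1 (g • v).2)
    rw [hall v] at hm
    obtain ⟨m, -, -, hcode⟩ := hm
    convert hcode 2 using 1
    ext i
    rw [← Finset.inv_smul_mem_iff, Finset.mem_filter]
    simp only [Finset.mem_univ, true_and, Equiv.Perm.smul_def, Equiv.Perm.inv_def]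
    show _ ↔ signedPerm σ c (fun p => 2 * indi (toSet b) p) i ≡ 2 [ZMOD 4]
    simp only [signedPerm, indi, Int.ModEq]
    by_cases h : σ.symm i ∈ toSet b <;> simp [h] <;> split <;> omega
  have hc : CodeSet c := by
    let v : leechLattice := ⟨fun p => if p = none then -3 else 1, mem_leechLattice_iff_form.2
      ⟨⟨1, ∅, fun p => if p = none then -1 else 0, codeSet_empty, fun i => by
        simp only [indi, Finset.notMem_empty, if_false]; split <;> omega, by
        have : ∑ p : GolayPt, (if p = none then (-3 : ℤ) else 1) = 20 := by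
          rw [← Finset.add_sum_erase _ _ (Finset.mem_univ none), if_pos rfl,
            Finset.sum_congr rfl (g := fun _ => (1 : ℤ)) fun p hp => if_neg (Finset.mem_erase.1 hp).1]
          simp
        rw [this]; decide⟩⟩⟩
    have hm := (mem_leechLattice_iff.1 (g • v).2)
    rw [hall v] at hm
    obtain ⟨m, -, -, hcode⟩ := hm
    show c ∈ supports _
    convert hcode 3 using 1
    ext i
    refine Iff.trans ?_ (Finset.mem_filter.trans (and_iff_right (Finset.mem_univ _))).symm
    show _ ↔ signedPerm σ c (fun p => if p = none then -3 else 1) i ≡ 3 [ZMOD 4]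
    simp only [signedPerm, Int.ModEq]
    by_cases h : i ∈ c <;> simp [h] <;> split <;> omega
  exact ⟨σ, hσ, c, hc, co_ext fun v => Subtype.ext (by rw [hall, coe_monoAut_smul])⟩

theorem monoAut_injective {σ σ' : Equiv.Perm GolayPt} {hσ : σ ∈ M24} {hσ' : σ' ∈ M24}
    {c c' : Finset GolayPt} {hc : CodeSet c} {hc' : CodeSet c'}
    (h : monoAut σ hσ c hc = monoAut σ' hσ' c' hc') : σ = σ' ∧ c = c' := by
  have key : ∀ p, (Pi.single (σ p) (if σ p ∈ c then -8 else 8) : GolayPt → ℤ) =
      Pi.single (σ' p) (if σ' p ∈ c' then -8 else 8) := fun p => by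
    rw [← signedPerm_single, ← signedPerm_single, ← coe_axisVec p 8 dvd_rfl,
      ← coe_monoAut_smul σ hσ c hc, ← coe_monoAut_smul σ' hσ' c' hc', h]
  have hs : σ = σ' := Equiv.ext fun p => by
    by_contra hne
    have := congrFun (key p) (σ p)
    rw [Pi.single_eq_same, Pi.single_eq_of_ne hne] at this
    split at this <;> omega
  subst hs
  refine ⟨rfl, Finset.ext fun i => ?_⟩
  have := congrFun (key (σ.symm i)) i
  simp only [Equiv.apply_symm_apply, Pi.single_eq_same] at this
  by_cases h1 : i ∈ c <;> by_cases h2 : i ∈ c' <;> simp [h1, h2] at this ⊢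

theorem ncard_supports : (supports (golayCode : Set (GolayPt → ZMod 2))).ncard = 4096 := by
  have e : supports (golayCode : Set (GolayPt → ZMod 2)) = ↑(golayList.toFinset.image toSet) := by
    ext s
    simp [mem_supports]
  rw [e, Set.ncard_coe_finset, Finset.card_image_of_injOn, List.toFinset_card_of_nodup golayList_nodup,
    golayList_length]
  intro a ha b hb hab
  rw [Finset.mem_coe, List.mem_toFinset] at ha hb
  refine Nat.eq_of_testBit_eq fun i => ?_
  by_cases hi : i < 24
  · exact Bool.eq_iff_iff.2 (by rw [← pt_mem_toSet hi, ← pt_mem_toSet hi, hab])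
  · have h2 : 2 ^ 24 ≤ 2 ^ i := Nat.pow_le_pow_right (by omega) (by omega)
    rw [Nat.testBit_eq_false_of_lt ((golayList_lt a ha).trans_le h2),
      Nat.testBit_eq_false_of_lt ((golayList_lt b hb).trans_le h2)]

theorem card_crossStab : Nat.card crossStab = 4096 * 244823040 := by
  let φ : supports (golayCode : Set (GolayPt → ZMod 2)) × M24 → crossStab := fun cs =>
    ⟨monoAut cs.2.1 cs.2.2 cs.1.1 cs.1.2, monoAut_mem _ _ _ _⟩
  have hφ : Function.Bijective φ := by
    refine ⟨fun a b h => ?_, fun g => ?_⟩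
    · obtain ⟨h1, h2⟩ := monoAut_injective (congrArg Subtype.val h)
      exact Prod.ext (Subtype.ext h2) (Subtype.ext h1)
    · obtain ⟨σ, hσ, c, hc, h⟩ := exists_monoAut_of_mem g.2
      exact ⟨(⟨c, hc⟩, ⟨σ, hσ⟩), Subtype.ext h.symm⟩
  rw [← Nat.card_eq_of_bijective φ hφ, Nat.card_prod, Nat.card_coe_set_eq, ncard_supports, card_M24]

theorem cls8_eq {v w : leechLattice} (h : w ∈ leechEven.cls8 v) :
    leechEven.cls8 w = leechEven.cls8 v := by
  ext y
  refine and_congr_right fun _ => ⟨fun hy => ?_, fun hy => ?_⟩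
  · have := add_mem h.2 hy; simpa using this
  · have := sub_mem hy h.2; simpa using this

theorem ncard_orbit_stdSet : (MulAction.orbit Co0 stdSet).ncard = 8292375 := by
  classical
  have horb : MulAction.orbit Co0 stdSet =
      (fun v => leechEven.cls8 v) '' {v : leechLattice | leechEven.b v v = 8} := by
    ext S
    constructor
    · rintro ⟨g, rfl⟩
      refine ⟨g • baseVec, inner_self_of_norm ?_, ?_⟩
      · rw [sqNorm_smul_co, baseVec, coe_axisVec, sqNorm_single]; norm_num
      · show _ = g • stdSet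
        rw [stdSet_eq_cls8, smul_cls8]
    · rintro ⟨v, hv, rfl⟩
      obtain ⟨g, hg⟩ := exists_to_std hv
      refine ⟨g⁻¹, ?_⟩
      show g⁻¹ • stdSet = leechEven.cls8 v
      ext y
      rw [Set.mem_smul_set_iff_inv_smul_mem, inv_inv]
      exact (hg y).symm
  rw [horb]
  have hfin := leechEven.finite8
  set F := hfin.toFinset
  have hF : ∀ {x}, x ∈ F ↔ leechEven.b x x = 8 := fun {x} => hfin.mem_toFinset
  have hcoe : ((F.image fun v => leechEven.cls8 v : Finset _) : Set (Set leechLattice)) =
      (fun v => leechEven.cls8 v) '' {v : leechLattice | leechEven.b v v = 8} := by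
    rw [Finset.coe_image, Set.Finite.coe_toFinset]
  rw [← hcoe, Set.ncard_coe_finset]
  have hfib : ∀ S ∈ F.image (fun v => leechEven.cls8 v),
      (F.filter fun v => leechEven.cls8 v = S).card = 48 := by
    intro S hS
    obtain ⟨x, hx, rfl⟩ := Finset.mem_image.1 hS
    rw [← Set.ncard_coe_finset, ← leechEven.ncard_cls8 (hF.1 hx)]
    congr 1
    ext y
    simp only [Finset.coe_filter, Set.mem_ofPred_eq, hF]
    refine ⟨fun h => ?_, fun h => ⟨h.1, cls8_eq h⟩⟩
    rw [← h.2]; exact self_mem_cls8 h.1
  have hsum := Finset.card_eq_sum_card_image (fun v => leechEven.cls8 v) F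
  rw [Finset.sum_congr rfl hfib, Finset.sum_const, smul_eq_mul,
    ← Set.ncard_eq_toFinset_card _ hfin, leechEven.count8] at hsum
  omega

theorem card_co0 : Nat.card Co0 = 8315553613086720000 := by
  rw [← (crossStab).card_mul_index, card_crossStab, crossStab, MulAction.index_stabilizer,
    ncard_orbit_stdSet]

end CfsgLib.Leech
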