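import Cfsg.Agent.Lib.Leech.CrossShapes

/-!
# The orbits on the neighbours of a short vector, and the numbers of vectors of each shape
-/

set_option autoImplicit false

open scoped Pointwise symmDiff

namespace CfsgLib.Leech

open Cfsg CfsgLib.Golay CfsgLib.Leech.Count

theorem monoAut_fix_base32 (σ : Equiv.Perm GolayPt) (hσ : σ ∈ M24) (c : Finset GolayPt) (hc : CodeSet c)
    (hσ01 : σ (pt 0) = pt 0 ∧ σ (pt 1) = pt 1 ∨ σ (pt 0) = pt 1 ∧ σ (pt 1) = pt 0)
    (h0 : pt 0 ∉ c) (h1 : pt 1 ∉ c) {v : leechLattice} (hv : (v : GolayPt → ℤ) = base32) :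
    monoAut σ hσ c hc • v = v := by
  refine Subtype.ext (funext fun i => ?_)
  rw [coe_monoAut_smul, hv]
  simp only [signedPerm, base32]
  have key : (σ.symm i = pt 0 ∨ σ.symm i = pt 1) ↔ (i = pt 0 ∨ i = pt 1) := by
    rw [Equiv.symm_apply_eq, Equiv.symm_apply_eq]
    rcases hσ01 with ⟨e, e'⟩ | ⟨e, e'⟩ <;> rw [e, e']
    exact or_comm
  by_cases hi : i = pt 0 ∨ i = pt 1
  · rw [if_neg (by rcases hi with rfl | rfl <;> assumption), if_pos (key.2 hi), if_pos hi]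
  · rw [if_neg (mt key.1 hi), if_neg hi]
    simp

/-- The first canonical neighbour. -/
def nbrFour : GolayPt → ℤ := fun p => if p = pt 0 then -4 else if p = pt 2 then 4 else 0

theorem nbr_four_to {v x : leechLattice} (hv : (v : GolayPt → ℤ) = base32)
    (hn : sqNorm (x : GolayPt → ℤ) = 32)
    (hd : (x : GolayPt → ℤ) (pt 0) + (x : GolayPt → ℤ) (pt 1) = -4)
    (hm : |(x : GolayPt → ℤ) (pt 0) - (x : GolayPt → ℤ) (pt 1)| = 4) :
    ∃ g ∈ crossStab, g • v = v ∧ ((g • x : leechLattice) : GolayPt → ℤ) = nbrFour := by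
  classical
  have hev : ¬ (x : GolayPt → ℤ) none % 2 = 1 := by
    intro hodd
    obtain ⟨D, p, -, h⟩ := odd_normal hn hodd
    have hb : ∀ i, |(x : GolayPt → ℤ) i| = if i = p then 3 else 1 := fun i => by
      rw [← signFlip_abs D, h]; split <;> rfl
    have e0 := hb (pt 0); have e1 := hb (pt 1)
    rcases abs_choice ((x : GolayPt → ℤ) (pt 0)) with r0 | r0 <;>
      rcases abs_choice ((x : GolayPt → ℤ) (pt 1)) with r1 | r1 <;>
      rw [r0] at e0 <;> rw [r1] at e1 <;>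
      rcases abs_choice ((x : GolayPt → ℤ) (pt 0) - (x : GolayPt → ℤ) (pt 1)) with r | r <;>
      rw [r] at hm <;> split at e0 <;> split at e1 <;> omega
  rcases (even_shape hn hev).2 with ⟨hf, hv4⟩ | ⟨-, C, -, hin, hout⟩
  swap
  · exfalso
    have hb : ∀ i, (x : GolayPt → ℤ) i = 0 ∨ (x : GolayPt → ℤ) i = 2 ∨ (x : GolayPt → ℤ) i = -2 := fun i => by
      by_cases h : i ∈ C
      · exact Or.inr (hin i h)
      · exact Or.inl (hout i h)
    rcases hb (pt 0) with e | e | e <;> rcases hb (pt 1) with e' | e' | e' <;>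
      rw [e, e'] at hd hm <;> first | omega | norm_num at hm
  have h01 : ((x : GolayPt → ℤ) (pt 0) = -4 ∧ (x : GolayPt → ℤ) (pt 1) = 0) ∨
      ((x : GolayPt → ℤ) (pt 1) = -4 ∧ (x : GolayPt → ℤ) (pt 0) = 0) := by
    rcases hv4 (pt 0) with e | e | e <;> rcases hv4 (pt 1) with e' | e' | e' <;>
      rw [e, e'] at hd hm <;> first | omega | norm_num at hm
  obtain ⟨a, b, hab, ha, hb, hsw⟩ : ∃ a b : GolayPt, a ≠ b ∧ (x : GolayPt → ℤ) a = -4 ∧
      (x : GolayPt → ℤ) b = 0 ∧ ((a = pt 0 ∧ b = pt 1) ∨ (a = pt 1 ∧ b = pt 0)) := by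
    rcases h01 with ⟨e, e'⟩ | ⟨e, e'⟩
    · exact ⟨pt 0, pt 1, pt01, e, e', Or.inl ⟨rfl, rfl⟩⟩
    · exact ⟨pt 1, pt 0, pt01.symm, e, e', Or.inr ⟨rfl, rfl⟩⟩
  set S := (Finset.univ.erase a).filter fun i => (x : GolayPt → ℤ) i ≠ 0 with hS
  have hScard : S.card = 1 := by
    have h : ∑ i ∈ Finset.univ.erase a, (x : GolayPt → ℤ) i ^ 2 = ∑ i ∈ S, (16 : ℤ) := by
      rw [hS, Finset.sum_filter]
      refine Finset.sum_congr rfl fun i _ => ?_
      rcases hv4 i with e | e | e <;> rw [e] <;> norm_num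
    have h2 := Finset.add_sum_erase Finset.univ (fun i => (x : GolayPt → ℤ) i ^ 2) (Finset.mem_univ a)
    rw [← sqNorm, hn, h, ha, Finset.sum_const, nsmul_eq_mul] at h2
    omega
  obtain ⟨p, hSp⟩ := Finset.card_eq_one.1 hScard
  have hpS : p ∈ S := by rw [hSp]; simp
  rw [hS, Finset.mem_filter, Finset.mem_erase] at hpS
  obtain ⟨⟨hpa, -⟩, hp⟩ := hpS
  have hpb : p ≠ b := fun h => hp (h ▸ hb)
  have hz : ∀ i, i ≠ a → i ≠ p → (x : GolayPt → ℤ) i = 0 := fun i hia hip => by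
    by_contra h
    have : i ∈ S := Finset.mem_filter.2 ⟨Finset.mem_erase.2 ⟨hia, Finset.mem_univ i⟩, h⟩
    rw [hSp, Finset.mem_singleton] at this
    exact hip this
  obtain ⟨σ, hσ, hσa, hσb, hσp⟩ := M24_map_three hab hpa.symm hpb.symm (d := pt 0) (e := pt 1) (f := pt 2)
    pt01 (by decide +kernel) (by decide +kernel)
  have hσ01 : σ (pt 0) = pt 0 ∧ σ (pt 1) = pt 1 ∨ σ (pt 0) = pt 1 ∧ σ (pt 1) = pt 0 := by
    rcases hsw with ⟨e, e'⟩ | ⟨e, e'⟩
    · exact Or.inl ⟨e ▸ hσa, e' ▸ hσb⟩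
    · exact Or.inr ⟨e' ▸ hσb, e ▸ hσa⟩
  obtain ⟨c, hc, h0, h1, hc2⟩ : ∃ c, CodeSet c ∧ pt 0 ∉ c ∧ pt 1 ∉ c ∧
      (pt 2 ∈ c ↔ (x : GolayPt → ℤ) p = -4) := by
    by_cases hneg : (x : GolayPt → ℤ) p = -4
    · obtain ⟨hB, hpts, -⟩ := base_octad_facts
      obtain ⟨c, hc, hcU⟩ := exists_code_restrict {pt 2, pt 3} (by decide +kernel) (by decide +kernel)
      have hmem : ∀ i < 5, pt i ∈ c ↔ pt i ∈ ({pt 2, pt 3} : Finset GolayPt) := fun i hi => by
        rw [← hcU, Finset.mem_inter]; simp [hpts i hi]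
      exact ⟨c, hc, fun h => (by decide +kernel : pt 0 ∉ ({pt 2, pt 3} : Finset GolayPt)) ((hmem 0 (by omega)).1 h),
        fun h => (by decide +kernel : pt 1 ∉ ({pt 2, pt 3} : Finset GolayPt)) ((hmem 1 (by omega)).1 h),
        iff_of_true ((hmem 2 (by omega)).2 (by simp)) hneg⟩
    · exact ⟨∅, codeSet_empty, by simp, by simp, by simp [hneg]⟩
  refine ⟨monoAut σ hσ c hc, monoAut_mem _ _ _ _, monoAut_fix_base32 σ hσ c hc hσ01 h0 h1 hv, funext fun i => ?_⟩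
  rw [coe_monoAut_smul]
  simp only [signedPerm, nbrFour]
  by_cases hi0 : i = pt 0
  · subst hi0
    rw [if_neg h0, if_pos rfl, show σ.symm (pt 0) = a by rw [← hσa, Equiv.symm_apply_apply], ha]
  by_cases hi2 : i = pt 2
  · subst hi2
    rw [if_neg hi0, if_pos rfl, show σ.symm (pt 2) = p by rw [← hσp, Equiv.symm_apply_apply]]
    rcases hv4 p with e | e | e
    · exact absurd e hp
    · rw [if_neg (by rw [hc2]; omega), e]
    · rw [if_pos (hc2.2 e), e, neg_neg]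
  rw [if_neg hi0, if_neg hi2, hz (σ.symm i)
    (fun h => hi0 (by rw [← hσa, ← h, Equiv.apply_symm_apply]))
    (fun h => hi2 (by rw [← hσp, ← h, Equiv.apply_symm_apply]))]
  simp

theorem nbr_eight_to {v x : leechLattice} (hv : (v : GolayPt → ℤ) = base32)
    (hn : sqNorm (x : GolayPt → ℤ) = 32)
    (hd : (x : GolayPt → ℤ) (pt 0) + (x : GolayPt → ℤ) (pt 1) = -4)
    (hm : (x : GolayPt → ℤ) (pt 0) = (x : GolayPt → ℤ) (pt 1)) :
    ∃ g ∈ crossStab, g • v = v ∧ ((g • x : leechLattice) : GolayPt → ℤ) = baseEight := by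
  have e0 : (x : GolayPt → ℤ) (pt 0) = -2 := by omega
  have e1 : (x : GolayPt → ℤ) (pt 1) = -2 := by omega
  have hev : ¬ (x : GolayPt → ℤ) none % 2 = 1 := by
    intro hodd
    obtain ⟨D, p, -, h⟩ := odd_normal hn hodd
    have := signFlip_abs D (x : GolayPt → ℤ) (pt 0)
    rw [h, e0] at this
    split at this <;> norm_num at this
  rcases (even_shape hn hev).2 with ⟨-, hv4⟩ | ⟨-, C, hC, hin, hout⟩
  · rcases hv4 (pt 0) with e | e | e <;> omega
  have h0C : pt 0 ∈ C := by by_contra h; have := hout _ h; omega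
  have h1C : pt 1 ∈ C := by by_contra h; have := hout _ h; omega
  obtain ⟨σ, hσ, c, hc, hσ0, hσ1, h, hc0, hc1⟩ := eight_to_base hC h0C h1C pt01 hin hout (sum_mod_eight hev)
  exact ⟨monoAut σ hσ c hc, monoAut_mem _ _ _ _,
    monoAut_fix_base32 σ hσ c hc (Or.inl ⟨hσ0, hσ1⟩) (hc0 e0) (hc1 e1) hv, by rw [coe_monoAut_smul, h]⟩

/-- The odd canonical neighbour before the change of signs. -/
def nbrOdd : GolayPt → ℤ := fun p => if p = pt 0 then -3 else 1

theorem nbr_odd_to {v x : leechLattice} (hv : (v : GolayPt → ℤ) = base32)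
    (hn : sqNorm (x : GolayPt → ℤ) = 32)
    (hd : (x : GolayPt → ℤ) (pt 0) + (x : GolayPt → ℤ) (pt 1) = -4)
    (hm : |(x : GolayPt → ℤ) (pt 0) - (x : GolayPt → ℤ) (pt 1)| = 2)
    {D₀ : Finset GolayPt} (hD₀ : CodeSet D₀) (hD0 : pt 0 ∉ D₀) (hD1 : pt 1 ∈ D₀) :
    ∃ g ∈ crossStab, g • v = v ∧ ((g • x : leechLattice) : GolayPt → ℤ) = signFlip D₀ nbrOdd := by
  classical
  have hodd : (x : GolayPt → ℤ) none % 2 = 1 := by
    obtain ⟨m, hpar, -, -⟩ := mem_leechLattice_iff.1 x.2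
    have h0 := hpar (pt 0); have h1 := hpar (pt 1); have h2 := hpar none
    simp only [Int.ModEq] at h0 h1 h2
    rcases abs_choice ((x : GolayPt → ℤ) (pt 0) - (x : GolayPt → ℤ) (pt 1)) with r | r <;> rw [r] at hm <;> omega
  obtain ⟨D, p, hD, h⟩ := odd_normal hn hodd
  have v0 : ((x : GolayPt → ℤ) (pt 0) = -3 ∧ (x : GolayPt → ℤ) (pt 1) = -1) ∨
      ((x : GolayPt → ℤ) (pt 1) = -3 ∧ (x : GolayPt → ℤ) (pt 0) = -1) := by
    rcases abs_choice ((x : GolayPt → ℤ) (pt 0) - (x : GolayPt → ℤ) (pt 1)) with r | r <;> rw [r] at hm <;> omega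
  obtain ⟨a, b, hab, ha, hb, hsw⟩ : ∃ a b : GolayPt, a ≠ b ∧ (x : GolayPt → ℤ) a = -3 ∧
      (x : GolayPt → ℤ) b = -1 ∧ ((a = pt 0 ∧ b = pt 1) ∨ (a = pt 1 ∧ b = pt 0)) := by
    rcases v0 with ⟨e, e'⟩ | ⟨e, e'⟩
    · exact ⟨pt 0, pt 1, pt01, e, e', Or.inl ⟨rfl, rfl⟩⟩
    · exact ⟨pt 1, pt 0, pt01.symm, e, e', Or.inr ⟨rfl, rfl⟩⟩
  have hfa := h a
  have hfb := h b
  rw [signFlip_apply, ha] at hfa
  rw [signFlip_apply, hb] at hfb
  have hap : a = p ∧ a ∉ D := by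
    by_cases h' : a ∈ D
    · rw [if_pos h'] at hfa; split at hfa <;> omega
    · rw [if_neg h'] at hfa
      refine ⟨?_, h'⟩
      by_contra hne
      rw [if_neg hne] at hfa; omega
  have hbD : b ∈ D := by
    by_contra h'
    rw [if_neg h', if_neg (fun e => hab (hap.1.trans e.symm))] at hfb
    omega
  obtain ⟨σ, hσ, hσa, hσb⟩ := M24_map_two hab (c := pt 0) (d := pt 1) pt01
  have hσ01 : σ (pt 0) = pt 0 ∧ σ (pt 1) = pt 1 ∨ σ (pt 0) = pt 1 ∧ σ (pt 1) = pt 0 := by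
    rcases hsw with ⟨e, e'⟩ | ⟨e, e'⟩
    · exact Or.inl ⟨e ▸ hσa, e' ▸ hσb⟩
    · exact Or.inr ⟨e' ▸ hσb, e ▸ hσa⟩
  have hmem : ∀ i, i ∈ σ • D ↔ σ.symm i ∈ D := fun i => by
    rw [← Finset.inv_smul_mem_iff]; rfl
  have hcD : CodeSet (σ • D) := supports_smul hσ hD
  set c := (σ • D) ∆ D₀ with hc'
  have h0 : pt 0 ∉ c := by
    rw [hc', Finset.mem_symmDiff, hmem, ← hσa, Equiv.symm_apply_apply, hσa]
    tauto
  have h1 : pt 1 ∉ c := by
    rw [hc', Finset.mem_symmDiff, hmem, ← hσb, Equiv.symm_apply_apply, hσb]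
    tauto
  refine ⟨monoAut σ hσ c (codeSet_symmDiff hcD hD₀), monoAut_mem _ _ _ _,
    monoAut_fix_base32 σ hσ c _ hσ01 h0 h1 hv, funext fun i => ?_⟩
  rw [coe_monoAut_smul, signFlip_apply]
  have hi : signFlip D x (σ.symm i) = nbrOdd i := by
    rw [h, nbrOdd]
    refine if_congr ⟨fun e => ?_, fun e => ?_⟩ rfl rfl
    · rw [← Equiv.apply_symm_apply σ i, e, ← hap.1, hσa]
    · rw [e, ← hσa, Equiv.symm_apply_apply, hap.1]
  rw [signFlip_apply] at hi
  simp only [signedPerm, hc', Finset.mem_symmDiff, hmem, ← hi]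
  by_cases hD' : σ.symm i ∈ D <;> by_cases hD0' : i ∈ D₀ <;> simp [hD', hD0']

/-- The classes of the neighbours. -/
def masksPair : ℕ → ℕ := maskOf [1, 2, 16777212]

set_option maxHeartbeats 2000000 in
theorem ncard_nbr :
    {x : GolayPt → ℤ | x ∈ leechLattice ∧ sqNorm x = 32 ∧ dotInt base32 x = -16 ∧ dotInt base32neg x = 0}.ncard = 2464 ∧
    {x : GolayPt → ℤ | x ∈ leechLattice ∧ sqNorm x = 32 ∧ dotInt base32 x = -16 ∧ dotInt base32neg x = 8}.ncard = 1024 ∧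
    {x : GolayPt → ℤ | x ∈ leechLattice ∧ sqNorm x = 32 ∧ dotInt base32 x = -16 ∧ dotInt base32neg x = -8}.ncard = 1024 ∧
    {x : GolayPt → ℤ | x ∈ leechLattice ∧ sqNorm x = 32 ∧ dotInt base32 x = -16 ∧ dotInt base32neg x = 16}.ncard = 44 ∧
    {x : GolayPt → ℤ | x ∈ leechLattice ∧ sqNorm x = 32 ∧ dotInt base32 x = -16 ∧ dotInt base32neg x = -16}.ncard = 44 := by
  have h := fun t => ncard_sect_two (J := 3) (masks := masksPair) (by decide +kernel) (by decide +kernel)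
    (fun j => [4, 4, 0].getD j 0) (fun j => [4, -4, 0].getD j 0) (a := base32) (b := base32neg)
    (by decide +kernel) (by decide +kernel) (-16) t
    (ws := [1, 32, 1024, 1024, 1024, 1024, 1024, 1024, 1024, 1024, 1024, 1024, 1024, 1024, 1024, 1024, 1024,
      1024, 1024, 1024, 1024, 1024, 1024, 1024])
    (by decide +kernel)
  refine ⟨(h _).trans ?_, (h _).trans ?_, (h _).trans ?_, (h _).trans ?_, (h _).trans ?_⟩
  all_goals decide +kernel

theorem ncard_shapes :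
    {x : GolayPt → ℤ | x ∈ leechLattice ∧ sqNorm x = 32 ∧ IsFour x}.ncard = 1104 ∧
    {x : GolayPt → ℤ | x ∈ leechLattice ∧ sqNorm x = 32 ∧ IsOddShape x}.ncard = 98304 := by
  refine ⟨?_, ?_⟩
  · refine Eq.trans ?_ ((shell_ncard_one (N := 32) (by omega)
      (indicator fun v => decide (v.natAbs = 4)) fun k => decide (1 ≤ k)).trans (by decide +kernel))
    refine congrArg Set.ncard (Set.ext fun x => ?_)
    simp only [shell, Set.mem_ofPred_eq, sum_indicator, decide_eq_true_eq]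
    refine and_congr_right fun _ => and_congr_right fun _ => ?_
    have h4 : ∀ p, |x p| = 4 ↔ (x p).natAbs = 4 := fun p => by rw [Int.abs_eq_natAbs]; omega
    simp [IsFour, Finset.one_le_card, Finset.filter_nonempty_iff, h4]
  · refine Eq.trans ?_ ((shell_ncard_one (N := 32) (by omega)
      (indicator fun v => decide (v.natAbs = 3)) fun k => decide (1 ≤ k)).trans (by decide +kernel))
    refine congrArg Set.ncard (Set.ext fun x => ?_)
    simp only [shell, Set.mem_ofPred_eq, sum_indicator, decide_eq_true_eq]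
    refine and_congr_right fun _ => and_congr_right fun _ => ?_
    have h3 : ∀ p, |x p| = 3 ↔ (x p).natAbs = 3 := fun p => by rw [Int.abs_eq_natAbs]; omega
    simp [IsOddShape, Finset.one_le_card, Finset.filter_nonempty_iff, h3]

end CfsgLib.Leech
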