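import Cfsg.Agent.Lib.Leech.Pairs
import Cfsg.Agent.Lib.Leech.Sections
import Cfsg.Agent.Lib.Leech.Shells

/-!
# The orbits of the monomial group on short vectors
-/

set_option autoImplicit false

open scoped Pointwise symmDiff

namespace CfsgLib.Leech

open Cfsg CfsgLib.Golay

/-- The shape with two coordinates of absolute value four. -/
def IsFour (x : GolayPt → ℤ) : Prop := ∃ i, |x i| = 4

/-- The odd shape. -/
def IsOddShape (x : GolayPt → ℤ) : Prop := ∃ i, |x i| = 3

/-- The shape of an octad. -/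
def IsEightShape (x : GolayPt → ℤ) : Prop := ¬ IsFour x ∧ ¬ IsOddShape x

theorem pt01 : (pt 0 : GolayPt) ≠ pt 1 := by decide +kernel

theorem odd_normal {x : leechLattice} (hn : sqNorm (x : GolayPt → ℤ) = 32)
    (hodd : (x : GolayPt → ℤ) none % 2 = 1) :
    ∃ (D : Finset GolayPt) (p : GolayPt), CodeSet D ∧
      ∀ q, signFlip D x q = if q = p then -3 else 1 := by
  obtain ⟨D, hD, h1⟩ := exists_normal_odd x.2 hodd
  have hv : ∀ q, signFlip D x q = 1 ∨ signFlip D x q = -3 := fun q => by
    rcases normal_vals hn (by norm_num) h1 q with h | h | h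
    · exact Or.inl h
    · exact Or.inr h
    · exfalso
      have := normal_sum ({q} : Finset GolayPt) h1
      rw [Finset.sum_singleton, h, hn] at this
      norm_num at this
  have hex : ∃ p, signFlip D x p = -3 := by
    by_contra hne
    push Not at hne
    have := sum_sq_sub_one (signFlip D x)
    rw [sqNorm_signFlip, hn, Finset.sum_eq_zero fun q _ => by
      rw [(hv q).resolve_right (hne q)]; norm_num] at this
    norm_num at this
  obtain ⟨p, hp⟩ := hex
  refine ⟨D, p, hD, fun q => ?_⟩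
  by_cases hq : q = p
  · rw [if_pos hq, hq, hp]
  · rw [if_neg hq]
    refine (hv q).resolve_right fun h => ?_
    have := normal_sum ({p, q} : Finset GolayPt) h1
    rw [Finset.sum_pair (Ne.symm hq), hp, h, hn] at this
    norm_num at this

theorem signFlip_val (D : Finset GolayPt) (x : GolayPt → ℤ) (p : GolayPt) :
    signFlip D x p = x p ∨ signFlip D x p = -x p := by
  rw [signFlip_apply]; split <;> simp

theorem signFlip_abs (D : Finset GolayPt) (x : GolayPt → ℤ) (p : GolayPt) :
    |signFlip D x p| = |x p| := by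
  rcases signFlip_val D x p with h | h <;> rw [h]
  exact abs_neg _

theorem odd_abs {x : leechLattice} (hn : sqNorm (x : GolayPt → ℤ) = 32)
    (hodd : (x : GolayPt → ℤ) none % 2 = 1) :
    IsOddShape (x : GolayPt → ℤ) ∧ ¬ IsFour (x : GolayPt → ℤ) := by
  obtain ⟨D, p, -, h⟩ := odd_normal hn hodd
  constructor
  · refine ⟨p, ?_⟩
    rw [← signFlip_abs D, h, if_pos rfl]
    norm_num
  · rintro ⟨i, hi⟩
    rw [← signFlip_abs D, h] at hi
    split at hi <;> norm_num at hi

theorem even_shape {x : leechLattice} (hn : sqNorm (x : GolayPt → ℤ) = 32)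
    (hev : ¬ (x : GolayPt → ℤ) none % 2 = 1) :
    ¬ IsOddShape (x : GolayPt → ℤ) ∧
    ((IsFour (x : GolayPt → ℤ) ∧ ∀ i, (x : GolayPt → ℤ) i = 0 ∨ (x : GolayPt → ℤ) i = 4 ∨ (x : GolayPt → ℤ) i = -4) ∨
      (¬ IsFour (x : GolayPt → ℤ) ∧ ∃ C ∈ octads, (∀ i ∈ C, (x : GolayPt → ℤ) i = 2 ∨ (x : GolayPt → ℤ) i = -2) ∧
        ∀ i ∉ C, (x : GolayPt → ℤ) i = 0)) := by
  obtain ⟨C, hC, hin, hout⟩ := even_cases x.2 hev
  have hv := fun i => even_vals hn (by norm_num) hC hin hout i
  have hno : ¬ IsOddShape (x : GolayPt → ℤ) := by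
    rintro ⟨i, hi⟩
    by_cases h : i ∈ C
    · rcases (hv i).1 h with e | e <;> rw [e] at hi <;> norm_num at hi
    · rcases (hv i).2 h with e | ⟨e | e, -⟩ <;> rw [e] at hi <;> norm_num at hi
  refine ⟨hno, ?_⟩
  rcases C.eq_empty_or_nonempty with rfl | hne
  · left
    have h : ∀ i, (x : GolayPt → ℤ) i = 0 ∨ (x : GolayPt → ℤ) i = 4 ∨ (x : GolayPt → ℤ) i = -4 := fun i => by
      rcases (hv i).2 (Finset.notMem_empty i) with e | ⟨e, -⟩
      · exact Or.inl e
      · exact Or.inr e
    refine ⟨?_, h⟩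
    by_contra hf
    have h0 : ∀ i, (x : GolayPt → ℤ) i = 0 := fun i => (h i).resolve_right fun e => hf ⟨i, by
      rcases e with e | e <;> rw [e] <;> norm_num⟩
    rw [sqNorm] at hn
    simp [h0] at hn
  · right
    have h8 := eight_le_card hC hne
    have hout0 : ∀ i ∉ C, (x : GolayPt → ℤ) i = 0 := fun i hi => by
      rcases (hv i).2 hi with e | ⟨-, hle⟩
      · exact e
      · exfalso; omega
    have hcard : C.card = 8 := by
      have hs := sqNorm_split (x : GolayPt → ℤ) C
      rw [hn, Finset.sum_congr rfl (g := fun _ => (4 : ℤ)) fun i hi => by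
          rcases (hv i).1 hi with e | e <;> rw [e] <;> norm_num,
        Finset.sum_eq_zero (s := Cᶜ) fun i hi => by rw [hout0 i (Finset.mem_compl.1 hi)]; norm_num,
        Finset.sum_const, nsmul_eq_mul] at hs
      omega
    refine ⟨?_, C, ⟨hC, hcard⟩, fun i hi => (hv i).1 hi, hout0⟩
    rintro ⟨i, hi⟩
    by_cases h : i ∈ C
    · rcases (hv i).1 h with e | e <;> rw [e] at hi <;> norm_num at hi
    · rw [hout0 i h] at hi; norm_num at hi

/-- The canonical octad vector. -/
def baseEight : GolayPt → ℤ := fun p => if p ∈ toSet baseOctad then (if p = pt 0 ∨ p = pt 1 then -2 else 2) else 0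

/-- The canonical odd vector. -/
def baseOdd : GolayPt → ℤ := fun p => if p = none then -3 else 1

theorem four_to_base {x : leechLattice} (hn : sqNorm (x : GolayPt → ℤ) = 32) (hf : IsFour (x : GolayPt → ℤ)) :
    ∃ g ∈ crossStab, ((g • x : leechLattice) : GolayPt → ℤ) = base32 := by
  classical
  have hev : ¬ (x : GolayPt → ℤ) none % 2 = 1 := fun h => (odd_abs hn h).2 hf
  have hv := ((even_shape hn hev).2.resolve_right fun h => h.1 hf).2
  set S := Finset.univ.filter fun i => (x : GolayPt → ℤ) i ≠ 0 with hS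
  have hcard : S.card = 2 := by
    have h : ∑ i, (x : GolayPt → ℤ) i ^ 2 = ∑ i ∈ S, (16 : ℤ) := by
      rw [hS, Finset.sum_filter]
      refine Finset.sum_congr rfl fun i _ => ?_
      rcases hv i with e | e | e <;> rw [e] <;> norm_num
    rw [← sqNorm, hn, Finset.sum_const, nsmul_eq_mul] at h
    omega
  obtain ⟨p, q, hpq, hSpq⟩ := Finset.card_eq_two.1 hcard
  have hp : (x : GolayPt → ℤ) p ≠ 0 := (Finset.mem_filter.1 (by rw [hS] at hSpq; rw [hSpq]; simp : p ∈ _)).2
  have hq : (x : GolayPt → ℤ) q ≠ 0 := (Finset.mem_filter.1 (by rw [hS] at hSpq; rw [hSpq]; simp : q ∈ _)).2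
  have hz : ∀ i, i ≠ p → i ≠ q → (x : GolayPt → ℤ) i = 0 := fun i hip hiq => by
    by_contra h
    have : i ∈ S := Finset.mem_filter.2 ⟨Finset.mem_univ i, h⟩
    rw [hSpq] at this
    simp [hip, hiq] at this
  obtain ⟨σ, hσ, hσp, hσq⟩ := M24_map_two hpq (c := pt 0) (d := pt 1) pt01
  obtain ⟨n, -, hn', hb, hc'⟩ := pair_signs (decide ((x : GolayPt → ℤ) p = -4)) (decide ((x : GolayPt → ℤ) q = -4))
  have hcs : CodeSet (toSet n) := mem_supports.2 ⟨n, hn', rfl⟩
  refine ⟨monoAut σ hσ _ hcs, monoAut_mem _ _ _ _, funext fun i => ?_⟩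
  rw [coe_monoAut_smul]
  simp only [signedPerm, base32]
  by_cases h0 : i = pt 0
  · subst h0
    rw [show σ.symm (pt 0) = p by rw [← hσp, Equiv.symm_apply_apply], if_pos (Or.inl rfl)]
    have hm : pt 0 ∈ toSet n ↔ (x : GolayPt → ℤ) p = -4 := by rw [pt_mem_toSet (by omega), hb, decide_eq_true_eq]
    rcases hv p with e | e | e
    · exact absurd e hp
    · rw [if_neg (by rw [hm]; omega), e]
    · rw [if_pos (hm.2 e), e, neg_neg]
  · by_cases h1 : i = pt 1
    · subst h1
      rw [show σ.symm (pt 1) = q by rw [← hσq, Equiv.symm_apply_apply], if_pos (Or.inr rfl)]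
      have hm : pt 1 ∈ toSet n ↔ (x : GolayPt → ℤ) q = -4 := by rw [pt_mem_toSet (by omega), hc', decide_eq_true_eq]
      rcases hv q with e | e | e
      · exact absurd e hq
      · rw [if_neg (by rw [hm]; omega), e]
      · rw [if_pos (hm.2 e), e, neg_neg]
    · rw [if_neg (not_or.2 ⟨h0, h1⟩), hz (σ.symm i)
        (fun h => h0 (by rw [← hσp, ← h, Equiv.apply_symm_apply]))
        (fun h => h1 (by rw [← hσq, ← h, Equiv.apply_symm_apply]))]
      simp

theorem odd_to_base {x : leechLattice} (hn : sqNorm (x : GolayPt → ℤ) = 32) (hf : IsOddShape (x : GolayPt → ℤ)) :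
    ∃ g ∈ crossStab, ((g • x : leechLattice) : GolayPt → ℤ) = baseOdd := by
  have hodd : (x : GolayPt → ℤ) none % 2 = 1 := by
    by_contra h
    exact (even_shape hn h).1 hf
  obtain ⟨D, p, hD, h⟩ := odd_normal hn hodd
  obtain ⟨r, hr⟩ : ∃ r, p ≠ r := exists_ne p |>.imp fun _ => Ne.symm
  obtain ⟨σ, hσ, hσp, -⟩ := M24_map_two hr (c := (none : GolayPt)) (d := some 0) (by simp)
  refine ⟨monoAut σ hσ ∅ codeSet_empty * signAut D hD,
    mul_mem (monoAut_mem _ _ _ _) ?_, funext fun i => ?_⟩
  · rw [mem_crossStab_iff]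
    rintro v ⟨a, t, ht, hv⟩
    refine ⟨a, if a ∈ D then -t else t, by split <;> omega, funext fun j => ?_⟩
    rw [coe_signAut_smul, hv, signFlip_apply]
    rcases eq_or_ne j a with rfl | hj
    · simp
    · simp [Pi.single_eq_of_ne hj]
  · rw [mul_smul, coe_monoAut_smul]
    simp only [signedPerm, Finset.notMem_empty, if_false, coe_signAut_smul, h, baseOdd]
    refine if_congr ⟨fun e => ?_, fun e => ?_⟩ rfl rfl
    · rw [← Equiv.apply_symm_apply σ i, e, hσp]
    · rw [e, ← hσp, Equiv.symm_apply_apply]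

theorem sum_mod_eight {x : leechLattice} (hev : ¬ (x : GolayPt → ℤ) none % 2 = 1) :
    (8 : ℤ) ∣ ∑ i, (x : GolayPt → ℤ) i := by
  obtain ⟨m, hpar, hsum, -⟩ := mem_leechLattice_iff.1 x.2
  have h := hpar none
  simp only [Int.ModEq] at h hsum
  omega

theorem base_octad_facts : toSet baseOctad ∈ octads ∧ (∀ i < 5, pt i ∈ toSet baseOctad) ∧
    pt 5 ∉ toSet baseOctad := by
  refine ⟨⟨mem_supports.2 ⟨_, mem_golayList_of_inCode (by decide +kernel), rfl⟩, by decide +kernel⟩, ?_, by decide +kernel⟩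
  intro i hi
  interval_cases i <;> decide +kernel

/-- An octad vector is carried to the canonical one, with control of two chosen points. -/
theorem eight_to_base {x : GolayPt → ℤ} {C : Finset GolayPt} (hC : C ∈ octads) {a b : GolayPt}
    (ha : a ∈ C) (hb : b ∈ C) (hab : a ≠ b)
    (hin : ∀ i ∈ C, x i = 2 ∨ x i = -2) (hout : ∀ i ∉ C, x i = 0) (hsum : (8 : ℤ) ∣ ∑ i, x i) :
    ∃ (σ : Equiv.Perm GolayPt) (_ : σ ∈ M24) (c : Finset GolayPt) (_ : CodeSet c),
      σ a = pt 0 ∧ σ b = pt 1 ∧ signedPerm σ c x = baseEight ∧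
      (x a = -2 → pt 0 ∉ c) ∧ (x b = -2 → pt 1 ∉ c) := by
  classical
  obtain ⟨hB, hpts, h5⟩ := base_octad_facts
  obtain ⟨s, hs, hsc⟩ := Finset.exists_subset_card_eq (s := (C.erase a).erase b) (n := 3) (by
    rw [Finset.card_erase_of_mem (Finset.mem_erase.2 ⟨hab.symm, hb⟩), Finset.card_erase_of_mem ha, hC.2]; norm_num)
  have hsa : a ∉ s := fun h => by simpa using hs h
  have hsb : b ∉ s := fun h => by simpa using hs h
  have hlen : (a :: b :: s.toList).length = 5 := by simp [hsc]
  have hnd : (a :: b :: s.toList).Nodup := by simp [hab, hsa, hsb, s.nodup_toList]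
  obtain ⟨g, hg, hgi⟩ := exists_map_five _ hlen hnd
  have hmem : ∀ y ∈ (a :: b :: s.toList), y ∈ C := by
    intro y hy
    simp only [List.mem_cons, Finset.mem_toList] at hy
    rcases hy with rfl | rfl | hy
    · exact ha
    · exact hb
    · exact Finset.mem_of_mem_erase (Finset.mem_of_mem_erase (hs hy))
  have hgB : g • toSet baseOctad ∈ octads := ⟨supports_smul hg hB.1, by rw [Finset.card_smul_finset, hB.2]⟩
  have hgC : g • toSet baseOctad = C := by
    refine octad_unique hgB hC ?_
    have hsub : (a :: b :: s.toList).toFinset ⊆ g • toSet baseOctad ∩ C := by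
      intro y hy
      rw [List.mem_toFinset] at hy
      obtain ⟨i, hi, rfl⟩ := List.getElem_of_mem hy
      refine Finset.mem_inter.2 ⟨?_, hmem _ hy⟩
      rw [← hgi i (by omega), ← Equiv.Perm.smul_def]
      exact Finset.smul_mem_smul_finset (hpts i (by omega))
    calc 5 = (a :: b :: s.toList).toFinset.card := by rw [List.toFinset_card_of_nodup hnd, hlen]
      _ ≤ _ := Finset.card_le_card hsub
  have hga : g (pt 0) = a := hgi 0 (by omega)
  have hgb : g (pt 1) = b := hgi 1 (by omega)
  have hσC : ∀ i, i ∈ toSet baseOctad ↔ g i ∈ C := fun i => by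
    rw [← hgC, ← Equiv.Perm.smul_def, Finset.smul_mem_smul_finset_iff]
  set E := (toSet baseOctad).filter fun i => x (g i) ≠ baseEight i with hE
  have hev : 2 ∣ (E ∩ toSet baseOctad).card := by
    rw [Finset.inter_eq_left.2 (Finset.filter_subset _ _)]
    have h1 : ∑ i, x i = ∑ i ∈ toSet baseOctad, x (g i) := by
      rw [← Equiv.sum_comp g]
      exact (Finset.sum_subset (Finset.subset_univ _) fun i _ hi =>
        hout _ fun h => hi ((hσC i).2 h)).symm
    have h2 : ∀ i ∈ toSet baseOctad, x (g i) = baseEight i - (if i ∈ E then 2 * baseEight i else 0) := by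
      intro i hi
      have hb' : baseEight i = 2 ∨ baseEight i = -2 := by
        rw [baseEight, if_pos hi]; split <;> simp
      have := hin _ ((hσC i).1 hi)
      by_cases he : i ∈ E
      · rw [if_pos he]; have := (Finset.mem_filter.1 he).2; omega
      · rw [if_neg he, sub_zero]
        by_contra hne
        exact he (Finset.mem_filter.2 ⟨hi, hne⟩)
    rw [h1, Finset.sum_congr rfl h2, Finset.sum_sub_distrib, ← Finset.sum_filter,
      show ((toSet baseOctad).filter fun i => i ∈ E) = E from Finset.ext fun i => by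
        simp only [Finset.mem_filter, hE]; tauto,
      show ∑ i ∈ toSet baseOctad, baseEight i = 8 by decide +kernel] at hsum
    have h3 : ∀ i ∈ E, 2 * baseEight i = 4 ∨ 2 * baseEight i = -4 := fun i hi => by
      rw [baseEight, if_pos (Finset.mem_filter.1 hi).1]; split <;> simp
    have h4 : ∑ i ∈ E, 2 * baseEight i ≡ ∑ i ∈ E, (4 : ℤ) [ZMOD 8] :=
      Int.ModEq.sum fun i hi => by rcases h3 i hi with e | e <;> rw [e] <;> decide
    rw [Finset.sum_const, nsmul_eq_mul, Int.ModEq] at h4
    show 2 ∣ E.card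
    omega
  obtain ⟨c, hc, hcU⟩ := exists_code_restrict E
    ((Finset.filter_subset _ _).trans (Finset.subset_insert _ _)) hev
  have hcE : ∀ i ∈ toSet baseOctad, (i ∈ c ↔ i ∈ E) := fun i hi => by
    rw [← hcU, Finset.mem_inter]; simp [hi]
  refine ⟨g⁻¹, inv_mem hg, c, hc, by rw [← hga]; simp, by rw [← hgb]; simp, funext fun i => ?_, ?_, ?_⟩
  · simp only [signedPerm]
    rw [show (g⁻¹ : Equiv.Perm GolayPt).symm i = g i from rfl]
    by_cases hi : i ∈ toSet baseOctad
    · have hb' : baseEight i = 2 ∨ baseEight i = -2 := by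
        rw [baseEight, if_pos hi]; split <;> simp
      have := hin _ ((hσC i).1 hi)
      by_cases he : i ∈ E
      · rw [if_pos ((hcE i hi).2 he)]; have := (Finset.mem_filter.1 he).2; omega
      · rw [if_neg fun h => he ((hcE i hi).1 h)]
        by_contra hne
        exact he (Finset.mem_filter.2 ⟨hi, hne⟩)
    · rw [hout (g i) fun h => hi ((hσC i).2 h), baseEight, if_neg hi]
      simp
  · intro h hmem
    have := (Finset.mem_filter.1 ((hcE _ (hpts 0 (by omega))).1 hmem)).2
    rw [hga, h, baseEight, if_pos (hpts 0 (by omega)), if_pos (Or.inl rfl)] at this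
    exact this rfl
  · intro h hmem
    have := (Finset.mem_filter.1 ((hcE _ (hpts 1 (by omega))).1 hmem)).2
    rw [hgb, h, baseEight, if_pos (hpts 1 (by omega)), if_pos (Or.inr rfl)] at this
    exact this rfl

theorem eight_shape_to_base {x : leechLattice} (hn : sqNorm (x : GolayPt → ℤ) = 32)
    (hf : IsEightShape (x : GolayPt → ℤ)) :
    ∃ g ∈ crossStab, ((g • x : leechLattice) : GolayPt → ℤ) = baseEight := by
  have hev : ¬ (x : GolayPt → ℤ) none % 2 = 1 := fun h => hf.2 (odd_abs hn h).1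
  obtain ⟨C, hC, hin, hout⟩ := ((even_shape hn hev).2.resolve_left fun h => hf.1 h.1).2
  obtain ⟨a, ha, b, hb, hab⟩ := Finset.one_lt_card.1 (show 1 < C.card by rw [hC.2]; norm_num)
  obtain ⟨σ, hσ, c, hc, -, -, h, -, -⟩ := eight_to_base hC ha hb hab hin hout (sum_mod_eight hev)
  exact ⟨monoAut σ hσ c hc, monoAut_mem _ _ _ _, by rw [coe_monoAut_smul, h]⟩

end CfsgLib.Leech
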