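import Cfsg.Agent.Lib.Leech.Basic
import Cfsg.Agent.Lib.Leech.Classes
import Cfsg.Agent.Lib.Golay.CodeUniq

/-!
# Identification of a lattice with the Leech lattice in the coordinates of a frame

In the coordinates of 24 orthogonal norm 8 vectors of one class the lattice has the form built
from a code of length 24 and minimum weight 8; the number of minimal vectors forces the code to
have dimension 12, and then it is the Golay code.
-/

set_option autoImplicit false

open scoped symmDiff

namespace CfsgLib.Leech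

open Cfsg CfsgLib.Golay

/-- Subgroups of `ℤ²⁴` sharing the properties used of the lattice in frame coordinates. -/
structure Framed (M : AddSubgroup (Fin 24 → ℤ)) : Prop where
  dvd16 : ∀ x ∈ M, (16 : ℤ) ∣ ∑ i, x i ^ 2
  min : ∀ x ∈ M, x ≠ 0 → 32 ≤ ∑ i, x i ^ 2
  dot : ∀ x ∈ M, ∀ y ∈ M, (8 : ℤ) ∣ ∑ i, x i * y i
  eight : ∀ i, Pi.single i (8 : ℤ) ∈ M
  four_add : ∀ i j, i ≠ j → Pi.single i (4 : ℤ) + Pi.single j 4 ∈ M
  count : {x : Fin 24 → ℤ | x ∈ M ∧ ∑ i, x i ^ 2 = 32}.ncard = 196560

namespace Framed

variable {M : AddSubgroup (Fin 24 → ℤ)} (F : Framed M)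
include F

theorem four_mul_mem (d : Fin 24 → ℤ) (hd : (2 : ℤ) ∣ ∑ i, d i) :
    (fun i => 4 * d i) ∈ M := by
  obtain ⟨k, hk⟩ := hd
  have e : (fun i => 4 * d i) =
      ∑ i ∈ Finset.univ.erase 0, d i • (Pi.single i (4 : ℤ) + Pi.single 0 4) +
        (k - ∑ i ∈ Finset.univ.erase (0 : Fin 24), d i) • Pi.single (0 : Fin 24) (8 : ℤ) := by
    funext j
    simp only [Pi.add_apply, Finset.sum_apply, Pi.smul_apply, smul_eq_mul, Pi.single_apply]
    by_cases hj : j = 0
    · subst hj
      have h0 := Finset.add_sum_erase Finset.univ d (Finset.mem_univ (0 : Fin 24))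
      have hs : ∑ x ∈ Finset.univ.erase (0 : Fin 24),
          d x * ((if (0 : Fin 24) = x then 4 else 0) + if (0 : Fin 24) = 0 then 4 else 0) =
          4 * ∑ x ∈ Finset.univ.erase (0 : Fin 24), d x := by
        rw [Finset.mul_sum]
        refine Finset.sum_congr rfl fun x hx => ?_
        rw [if_neg (Finset.mem_erase.1 hx).1.symm, if_pos rfl]; ring
      rw [hs, if_pos rfl]
      linarith
    · rw [Finset.sum_eq_single j]
      · simp [hj]; ring
      · intro x _ hx
        rw [if_neg (Ne.symm hx), if_neg hj]; ring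
      · intro h; simp [hj] at h
  rw [e]
  refine add_mem (sum_mem fun i hi => zsmul_mem (F.four_add i 0 (Finset.mem_erase.1 hi).1) _) ?_
  exact zsmul_mem (F.eight 0) _

theorem four_single_notMem (i : Fin 24) : Pi.single i (4 : ℤ) ∉ M := by
  intro h
  have := F.min _ h (fun h0 => by simpa using congrFun h0 i)
  rw [Finset.sum_eq_single i (fun j _ hj => by simp [Pi.single_eq_of_ne hj]) (by simp)] at this
  simp at this

theorem even_of_four_mul {d : Fin 24 → ℤ} (h : (fun i => 4 * d i) ∈ M) : (2 : ℤ) ∣ ∑ i, d i := by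
  by_contra hodd
  refine F.four_single_notMem 0 ?_
  have h' := F.four_mul_mem (fun i => (Pi.single 0 1 : Fin 24 → ℤ) i - d i) (by
    rw [Finset.sum_sub_distrib, Finset.sum_pi_single']
    simp
    omega)
  have := add_mem h h'
  convert this using 1
  funext j
  simp only [Pi.add_apply, Pi.single_apply]
  split <;> ring

/-- Parity of the coordinates of a vector. -/
theorem parity {x : Fin 24 → ℤ} (hx : x ∈ M) (i j : Fin 24) : x i % 2 = x j % 2 := by
  rcases eq_or_ne i j with rfl | hij
  · rfl
  have h := F.dot x hx _ (F.four_add i j hij)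
  simp only [Pi.add_apply, mul_add, Finset.sum_add_distrib] at h
  rw [Finset.sum_eq_single i (fun b _ hb => by simp [Pi.single_eq_of_ne hb]) (by simp),
    Finset.sum_eq_single j (fun b _ hb => by simp [Pi.single_eq_of_ne hb]) (by simp)] at h
  simp at h
  omega

end Framed

/-- The binary code of a subgroup of `ℤ²⁴`: halves modulo 2 of its even vectors. -/
def frameCode (M : AddSubgroup (Fin 24 → ℤ)) : Submodule (ZMod 2) (Fin 24 → ZMod 2) :=
  AddSubgroup.toZModSubmodule 2
    ((M.comap (zsmulAddGroupHom (2 : ℤ) : (Fin 24 → ℤ) →+ (Fin 24 → ℤ))).map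
      ((Int.castAddHom (ZMod 2)).compLeft (Fin 24)))

theorem mem_frameCode {M : AddSubgroup (Fin 24 → ℤ)} {w : Fin 24 → ZMod 2} :
    w ∈ frameCode M ↔
      ∃ h : Fin 24 → ℤ, (fun i => 2 * h i) ∈ M ∧ ∀ i, (h i : ZMod 2) = w i := by
  constructor
  · rintro ⟨h, hh, rfl⟩
    refine ⟨h, ?_, fun i => rfl⟩
    have : ((2 : ℤ) • h) ∈ M := hh
    simpa [Pi.smul_def] using this
  · rintro ⟨h, hh, hw⟩
    refine ⟨h, ?_, funext hw⟩
    show ((2 : ℤ) • h) ∈ M
    simpa [Pi.smul_def] using hh

/-- Integer representative of a binary word. -/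
def lift (w : Fin 24 → ZMod 2) (i : Fin 24) : ℤ := if w i = 0 then 0 else 1

theorem cast_lift (w : Fin 24 → ZMod 2) (i : Fin 24) : (lift w i : ZMod 2) = w i := by
  rcases zmod_two_cases (w i) with h | h <;> simp [lift, h]

theorem sum_lift_sq (w : Fin 24 → ZMod 2) : ∑ i, (2 * lift w i) ^ 2 = 4 * (hammingNorm w : ℤ) := by
  rw [hammingNorm, Finset.card_filter, Nat.cast_sum, Finset.mul_sum]
  refine Finset.sum_congr rfl fun i _ => ?_
  rcases zmod_two_cases (w i) with h | h <;> simp [lift, h]

namespace Framed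

variable {M : AddSubgroup (Fin 24 → ℤ)} (F : Framed M)
include F

theorem word_props {w : Fin 24 → ZMod 2} (hw : w ∈ frameCode M) (hne : w ≠ 0) :
    4 ∣ hammingNorm w ∧ 8 ≤ hammingNorm w := by
  obtain ⟨h, hh, hhw⟩ := mem_frameCode.1 hw
  obtain ⟨i₀, hi₀⟩ := Function.ne_iff.1 hne
  simp only [Pi.zero_apply] at hi₀
  have hd : ∀ i, (2 : ℤ) ∣ h i - lift w i := fun i =>
    (ZMod.intCast_zmod_eq_zero_iff_dvd _ 2).1 (by rw [Int.cast_sub, hhw, cast_lift, sub_self])
  choose d hd using hd
  -- normalise all coordinates but one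
  set c : ℤ := ∑ i, d i with hc
  obtain ⟨y, hy, hsq⟩ : ∃ y ∈ M, ∑ i, y i ^ 2 = 4 * (hammingNorm w : ℤ) := by
    refine ⟨fun i => 2 * lift w i - if i = i₀ then 4 * (c % 2) else 0, ?_, ?_⟩
    · have h4 := F.four_mul_mem (fun i => d i + if i = i₀ then c % 2 else 0) (by
        rw [Finset.sum_add_distrib, Finset.sum_ite_eq', ← hc]; simp; omega)
      convert sub_mem hh h4 using 1
      funext i
      simp only [Pi.sub_apply]
      split <;> linarith [hd i]
    · rw [← sum_lift_sq]
      refine Finset.sum_congr rfl fun i _ => ?_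
      show (2 * lift w i - if i = i₀ then 4 * (c % 2) else 0) ^ 2 = (2 * lift w i) ^ 2
      by_cases hi : i = i₀
      · subst hi
        rw [if_pos rfl]
        have : lift w i = 1 := by simp [lift, hi₀]
        rw [this]
        rcases Int.emod_two_eq c with h | h <;> simp [h]
      · rw [if_neg hi, sub_zero]
  have hpos : hammingNorm w ≠ 0 := fun h => hne (hammingNorm_eq_zero.1 h)
  have h16 := F.dvd16 y hy
  have h32 := F.min y hy (fun h0 => by rw [h0] at hsq; simp at hsq; exact hne hsq)
  rw [hsq] at h16 h32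
  omega

theorem code_orth : ∀ v ∈ frameCode M, ∀ w ∈ frameCode M, ∑ i, v i * w i = 0 := by
  intro v hv w hw
  obtain ⟨a, ha, hav⟩ := mem_frameCode.1 hv
  obtain ⟨b, hb, hbw⟩ := mem_frameCode.1 hw
  have h := F.dot _ ha _ hb
  have : ∑ i, 2 * a i * (2 * b i) = 4 * ∑ i, a i * b i := by
    rw [Finset.mul_sum]; exact Finset.sum_congr rfl fun i _ => by ring
  rw [this] at h
  have h2 : ((∑ i, a i * b i : ℤ) : ZMod 2) = 0 :=
    (ZMod.intCast_zmod_eq_zero_iff_dvd _ 2).2 (by omega)
  simpa [hav, hbw] using h2

theorem card_code_le : Nat.card (frameCode M) ≤ 4096 := by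
  classical
  let P := (Finset.range 4).biUnion fun k => (Finset.univ.erase (0 : Fin 24)).powersetCard k
  have hPc : P.card = 2048 := by
    rw [Finset.card_biUnion]
    · simp [Finset.card_powersetCard, Finset.sum_range_succ, Nat.choose]
    · intro a _ b _ hab
      simp only [Function.onFun, Finset.disjoint_left, Finset.mem_powersetCard]
      rintro T ⟨-, h1⟩ ⟨-, h2⟩
      exact hab (h1.symm.trans h2)
  let Φ : frameCode M × P → ({j : Fin 24 // j ≠ 0} → ZMod 2) := fun p j => (p.1.1 + indWord p.2.1) j.1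
  have hP : ∀ T ∈ P, T.card ≤ 3 ∧ (0 : Fin 24) ∉ T := by
    intro T hT
    simp only [P, Finset.mem_biUnion, Finset.mem_range, Finset.mem_powersetCard] at hT
    obtain ⟨k, hk, hs, hc⟩ := hT
    exact ⟨by omega, fun hi => Finset.notMem_erase _ _ (hs hi)⟩
  have hinj : Function.Injective Φ := by
    rintro ⟨⟨c, hc⟩, T, hT⟩ ⟨⟨d, hd⟩, U, hU⟩ he
    have hagree : ∀ j, j ≠ (0 : Fin 24) → c j + indWord T j = d j + indWord U j := fun j hj =>
      congrFun he ⟨j, hj⟩
    have hsub : (Finset.univ.filter fun j => (c - d) j ≠ 0) ⊆ insert 0 (T ∪ U) := by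
      intro j hj
      by_contra hn
      simp only [Finset.mem_insert, Finset.mem_union, not_or] at hn
      have := hagree j hn.1
      simp only [indWord, hn.2.1, hn.2.2, if_false, add_zero] at this
      simp [this] at hj
    have hcd : c = d := by
      by_contra hne
      have h8 := (F.word_props (sub_mem hc hd) (sub_ne_zero.2 hne)).2
      rw [hammingNorm] at h8
      have h1 := Finset.card_le_card hsub
      have h2 := Finset.card_insert_le (0 : Fin 24) (T ∪ U)
      have h3 := Finset.card_union_le T U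
      have := (hP T hT).1; have := (hP U hU).1
      omega
    subst hcd
    have hTU : T = U := by
      ext j
      by_cases hj : j = 0
      · subst hj; simp [(hP T hT).2, (hP U hU).2]
      · have := hagree j hj
        rw [add_right_inj] at this
        by_cases h1 : j ∈ T <;> by_cases h2 : j ∈ U <;> simp_all [indWord]
    subst hTU
    rfl
  have h := Nat.card_le_card_of_injective Φ hinj
  rw [Nat.card_prod, Nat.card_eq_finsetCard, hPc, Nat.card_fun, Nat.card_zmod] at h
  generalize Nat.card (frameCode M) = N at h ⊢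
  simp [Fintype.card_subtype_compl] at h
  omega

/-- A word of the code for every minimal odd vector, and a bound on their number. -/
theorem count_odd (S : Finset (Fin 24 → ℤ))
    (hS : ∀ x ∈ S, x ∈ M ∧ ∑ i, x i ^ 2 = 32 ∧ ∀ i, x i % 2 = 1) :
    S.card ≤ 24 * Nat.card (frameCode M) := by
  classical
  rcases S.eq_empty_or_nonempty with rfl | ⟨x₀, hx₀⟩
  · simp
  letI := Fintype.ofFinite (frameCode M)
  have key : ∀ x ∈ S, ∃ i, x i ^ 2 = 9 ∧ ∀ j, j ≠ i → x j ^ 2 = 1 := by
    intro x hx
    obtain ⟨-, hn, ho⟩ := hS x hx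
    have h9 : ∀ i, x i ^ 2 = 1 ∨ 9 ≤ x i ^ 2 := fun i => by
      have := ho i
      rcases (by omega : x i = 1 ∨ x i = -1 ∨ 3 ≤ x i ∨ x i ≤ -3) with h | h | h | h
      · left; rw [h]; norm_num
      · left; rw [h]; norm_num
      · right; nlinarith
      · right; nlinarith
    have hsum : ∑ i, (x i ^ 2 - 1) = 8 := by rw [Finset.sum_sub_distrib, hn]; simp
    obtain ⟨i, hi⟩ : ∃ i, x i ^ 2 ≠ 1 := by
      by_contra hall
      push Not at hall
      simp [hall] at hsum
    refine ⟨i, ?_, fun j hj => ?_⟩
    · have hle : x i ^ 2 - 1 ≤ 8 := hsum ▸ Finset.single_le_sum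
        (f := fun i => x i ^ 2 - 1) (fun k _ => by rcases h9 k with h | h <;> omega) (Finset.mem_univ i)
      have := (h9 i).resolve_left hi
      omega
    · by_contra hj1
      have hle : ∑ k ∈ ({i, j} : Finset (Fin 24)), (x k ^ 2 - 1) ≤ 8 := hsum ▸
        Finset.sum_le_sum_of_subset_of_nonneg (Finset.subset_univ _)
          fun k _ _ => by rcases h9 k with h | h <;> omega
      rw [Finset.sum_pair hj.symm] at hle
      have := (h9 i).resolve_left hi
      have := (h9 j).resolve_left hj1
      omega
  choose pos hpos hone using key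
  have hword : ∀ x ∈ S, (fun i => (((x i - x₀ i) / 2 : ℤ) : ZMod 2)) ∈ frameCode M := by
    intro x hx
    refine mem_frameCode.2 ⟨fun i => (x i - x₀ i) / 2, ?_, fun i => rfl⟩
    convert sub_mem (hS x hx).1 (hS x₀ hx₀).1 using 1
    funext i
    have := (hS x hx).2.2 i
    have := (hS x₀ hx₀).2.2 i
    simp only [Pi.sub_apply]
    omega
  let φ : S → Fin 24 × frameCode M := fun x => (pos x.1 x.2, ⟨_, hword x.1 x.2⟩)
  have hφ : Function.Injective φ := by
    rintro ⟨x, hx⟩ ⟨y, hy⟩ he
    simp only [φ, Prod.mk.injEq, Subtype.mk.injEq] at he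
    obtain ⟨hp, hw⟩ := he
    refine Subtype.ext (funext fun i => ?_)
    have hd : (2 : ℤ) ∣ (x i - x₀ i) / 2 - (y i - x₀ i) / 2 := by
      refine (ZMod.intCast_zmod_eq_zero_iff_dvd _ 2).1 ?_
      rw [Int.cast_sub, congrFun hw i, sub_self]
    have := (hS x hx).2.2 i
    have := (hS y hy).2.2 i
    have := (hS x₀ hx₀).2.2 i
    show x i = y i
    by_cases hi : i = pos x hx
    · have h1 := sq_eq_sq_iff_eq_or_eq_neg.1 ((hi ▸ hpos x hx : x i ^ 2 = 9).trans (by norm_num : (9 : ℤ) = 3 ^ 2))
      have h2 := sq_eq_sq_iff_eq_or_eq_neg.1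
        (((hi.trans hp) ▸ hpos y hy : y i ^ 2 = 9).trans (by norm_num : (9 : ℤ) = 3 ^ 2))
      omega
    · have h1 := sq_eq_one_iff.1 (hone x hx i hi)
      have h2 := sq_eq_one_iff.1 (hone y hy i (hp ▸ hi))
      omega
  have h := Nat.card_le_card_of_injective φ hφ
  simpa [Nat.card_prod, Nat.card_eq_finsetCard] using h

/-- Minimal vectors with coordinates divisible by four. -/
theorem count_four (S : Finset (Fin 24 → ℤ))
    (hS : ∀ x ∈ S, x ∈ M ∧ ∑ i, x i ^ 2 = 32 ∧ ∀ i, x i % 4 = 0) : S.card ≤ 1104 := by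
  classical
  have hsub : S ⊆ ((Finset.univ : Finset (Fin 24)).powersetCard 2).biUnion fun T =>
      Fintype.piFinset fun i => if i ∈ T then ({4, -4} : Finset ℤ) else {0} := by
    intro x hx
    have hM := (hS x hx).1
    have hn := (hS x hx).2.1
    have h4 := (hS x hx).2.2
    have h16 : ∀ i, x i = 0 ∨ 16 ≤ x i ^ 2 := fun i => by
      have := h4 i
      rcases (by omega : x i = 0 ∨ 4 ≤ x i ∨ x i ≤ -4) with h | h | h
      · exact Or.inl h
      · right; nlinarith
      · right; nlinarith
    set T := Finset.univ.filter fun i => x i ≠ 0 with hT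
    have hTsum : ∑ i ∈ T, x i ^ 2 = 32 := by
      rw [Finset.sum_filter_of_ne, hn]
      intro i _ hne h0
      exact hne (by rw [h0]; norm_num)
    have hge : ∀ i ∈ T, 16 ≤ x i ^ 2 := fun i hi => (h16 i).resolve_left (Finset.mem_filter.1 hi).2
    have hle : (T.card : ℤ) * 16 ≤ 32 := by
      rw [← hTsum]
      simpa using Finset.card_nsmul_le_sum T (fun i => x i ^ 2) 16 hge
    have h2 : T.card = 2 := by
      by_contra hne
      rcases (show T.card = 0 ∨ T.card = 1 by omega) with h | h
      · rw [Finset.card_eq_zero.1 h] at hTsum; simp at hTsum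
      · obtain ⟨i, hi⟩ := Finset.card_eq_one.1 h
        rw [hi, Finset.sum_singleton] at hTsum
        have := h4 i
        rcases (by omega : x i = 4 ∨ x i = -4 ∨ x i = 0 ∨ 8 ≤ x i ∨ x i ≤ -8) with h | h | h | h | h <;>
          nlinarith
    rw [Finset.mem_biUnion]
    refine ⟨T, ?_, ?_⟩
    · rw [Finset.mem_powersetCard]
      exact ⟨Finset.subset_univ _, h2⟩
    rw [Fintype.mem_piFinset]
    intro i
    by_cases hi : i ∈ T
    · rw [if_pos hi]
      obtain ⟨a, b, hab, hTab⟩ := Finset.card_eq_two.1 h2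
      have ha := hge a (by simp [hTab])
      have hb := hge b (by simp [hTab])
      rw [hTab, Finset.sum_pair hab] at hTsum
      have hi16 : x i ^ 2 = 4 ^ 2 := by
        simp only [hTab, Finset.mem_insert, Finset.mem_singleton] at hi
        rcases hi with rfl | rfl <;> norm_num <;> omega
      simpa using sq_eq_sq_iff_eq_or_eq_neg.1 hi16
    · rw [if_neg hi]
      simpa [hT] using hi
  refine (Finset.card_le_card hsub).trans (Finset.card_biUnion_le.trans ?_)
  rw [Finset.sum_const_nat (m := 4)]
  · simp [Finset.card_powersetCard, Nat.choose_two_right]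
  · intro T hT
    have h2 := (Finset.mem_powersetCard.1 hT).2
    rw [Fintype.card_piFinset, ← Finset.prod_subset (Finset.subset_univ T) fun i _ hi => by simp [hi],
      Finset.prod_congr rfl (g := fun _ => 2) fun i hi => by simp [hi], Finset.prod_const, h2]
    rfl

/-- Minimal vectors congruent to 2 modulo 4 exactly on the support of a word. -/
theorem count_word (S : Finset (Fin 24 → ℤ)) (T : Finset (Fin 24)) (hT : T.card = 8)
    (hS : ∀ x ∈ S, x ∈ M ∧ ∑ i, x i ^ 2 = 32 ∧ (∀ i ∈ T, x i % 4 = 2) ∧ ∀ i ∉ T, x i % 4 = 0) :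
    S.card ≤ 128 := by
  classical
  obtain ⟨i₀, hi₀⟩ : T.Nonempty := Finset.card_pos.1 (by omega)
  have hval : ∀ x ∈ S, ∀ i, (i ∈ T → x i = 2 ∨ x i = -2) ∧ (i ∉ T → x i = 0) := by
    intro x hx
    obtain ⟨-, hn, hin, hout⟩ := hS x hx
    have h4 : ∀ i ∈ T, 4 ≤ x i ^ 2 := fun i hi => by
      have := hin i hi
      rcases (by omega : 2 ≤ x i ∨ x i ≤ -2) with h | h <;> nlinarith
    have hsplit := Finset.sum_add_sum_compl T fun i => x i ^ 2
    have hlo : (32 : ℤ) ≤ ∑ i ∈ T, x i ^ 2 := by
      simpa [hT] using Finset.card_nsmul_le_sum T (fun i => x i ^ 2) 4 h4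
    have hcomp : 0 ≤ ∑ i ∈ Tᶜ, x i ^ 2 := Finset.sum_nonneg fun i _ => sq_nonneg _
    have hzero : ∀ i ∈ Tᶜ, x i ^ 2 = 0 :=
      (Finset.sum_eq_zero_iff_of_nonneg fun i _ => sq_nonneg (x i)).1 (by omega)
    refine fun i => ⟨fun hi => ?_, fun hi => by simpa using hzero i (Finset.mem_compl.2 hi)⟩
    by_contra hne
    push Not at hne
    have := hin i hi
    have h36 : 36 ≤ x i ^ 2 := by
      rcases (by omega : 6 ≤ x i ∨ x i ≤ -6) with h | h <;> nlinarith
    have h2 := Finset.add_sum_erase T (fun i => x i ^ 2) hi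
    have h3 : (0 : ℤ) ≤ ∑ j ∈ T.erase i, x j ^ 2 := Finset.sum_nonneg fun i _ => sq_nonneg _
    omega
  refine le_trans (Finset.card_le_card_of_injOn (t := (T.erase i₀).powerset)
    (fun x => (T.erase i₀).filter fun i => x i = 2)
    (fun x _ => Finset.mem_coe.2 (Finset.mem_powerset.2 (Finset.filter_subset _ _))) ?_) ?_
  · intro x hx y hy he
    have hagree : ∀ i, i ≠ i₀ → x i = y i := by
      intro i hi
      by_cases hiT : i ∈ T
      · have h := Finset.ext_iff.1 he i
        simp only [Finset.mem_filter, Finset.mem_erase, hiT, hi, ne_eq, not_false_eq_true, true_and] at h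
        rcases (hval x hx i).1 hiT with h1 | h1 <;> rcases (hval y hy i).1 hiT with h2 | h2 <;> omega
      · rw [(hval x hx i).2 hiT, (hval y hy i).2 hiT]
    funext i
    by_cases hi : i = i₀
    · subst hi
      by_contra hne
      have hm := sub_mem (hS x hx).1 (hS y hy).1
      have e : x - y = Pi.single i (x i - y i) := by
        funext j
        by_cases hj : j = i
        · subst hj; simp
        · simp [Pi.single_eq_of_ne hj, hagree j hj]
      rw [e] at hm
      refine F.four_single_notMem i ?_
      rcases (hval x hx i).1 hi₀ with h1 | h1 <;> rcases (hval y hy i).1 hi₀ with h2 | h2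
      · omega
      · rw [h1, h2] at hm; exact hm
      · rw [h1, h2] at hm
        have := neg_mem hm
        rwa [← Pi.single_neg] at this
      · omega
    · exact hagree i hi
  · rw [Finset.card_powerset, Finset.card_erase_of_mem hi₀, hT]
    norm_num

/-- The code has dimension 12 and there are odd vectors. -/
theorem main_count : Nat.card (frameCode M) = 4096 ∧ ∃ x ∈ M, ∀ i, x i % 2 = 1 := by
  classical
  have hfin : {x : Fin 24 → ℤ | x ∈ M ∧ ∑ i, x i ^ 2 = 32}.Finite :=
    Set.finite_of_ncard_ne_zero (by rw [F.count]; norm_num)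
  set S := hfin.toFinset
  have hmem : ∀ {x}, x ∈ S ↔ x ∈ M ∧ ∑ i, x i ^ 2 = 32 := fun {x} => hfin.mem_toFinset
  have hS : S.card = 196560 := by rw [← Set.ncard_eq_toFinset_card _ hfin]; exact F.count
  set O := S.filter fun x => x 0 % 2 = 1
  set Z := (S.filter fun x => ¬ x 0 % 2 = 1).filter fun x => ∀ i, x i % 4 = 0
  set W := (S.filter fun x => ¬ x 0 % 2 = 1).filter fun x => ¬ ∀ i, x i % 4 = 0
  have hcard : S.card = O.card + (Z.card + W.card) := by
    rw [Finset.card_filter_add_card_filter_not (fun x : Fin 24 → ℤ => ∀ i, x i % 4 = 0),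
      Finset.card_filter_add_card_filter_not]
  have hO := F.count_odd O fun x hx => by
    obtain ⟨hx, h0⟩ := Finset.mem_filter.1 hx
    exact ⟨(hmem.1 hx).1, (hmem.1 hx).2, fun i => (F.parity (hmem.1 hx).1 i 0).trans h0⟩
  have hZ := F.count_four Z fun x hx => by
    obtain ⟨hx, h4⟩ := Finset.mem_filter.1 hx
    obtain ⟨hx, -⟩ := Finset.mem_filter.1 hx
    exact ⟨(hmem.1 hx).1, (hmem.1 hx).2, h4⟩
  -- the supports modulo 4
  let sup : (Fin 24 → ℤ) → Finset (Fin 24) := fun x => Finset.univ.filter fun i => x i % 4 = 2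
  have hW8 : ∀ x ∈ W, (sup x).card = 8 ∧ indWord (sup x) ∈ frameCode M ∧
      ∀ i ∉ sup x, x i % 4 = 0 := by
    intro x hx
    obtain ⟨hx, h4⟩ := Finset.mem_filter.1 hx
    obtain ⟨hxS, hev⟩ := Finset.mem_filter.1 hx
    obtain ⟨hxM, hn⟩ := hmem.1 hxS
    have he : ∀ i, x i % 2 = 0 := fun i => by have := F.parity hxM i 0; omega
    have hout : ∀ i ∉ sup x, x i % 4 = 0 := fun i hi => by
      simp only [sup, Finset.mem_filter, Finset.mem_univ, true_and] at hi
      have := he i; omega
    have hcode : indWord (sup x) ∈ frameCode M := by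
      refine mem_frameCode.2 ⟨fun i => x i / 2, ?_, fun i => ?_⟩
      · convert hxM using 1; funext i; have := he i; show 2 * (x i / 2) = x i; omega
      · have := he i
        by_cases hi : x i % 4 = 2
        · simp only [indWord, sup, Finset.mem_filter, Finset.mem_univ, true_and, if_pos hi]
          exact (ZMod.intCast_eq_intCast_iff' (x i / 2) 1 2).2 (by omega) |>.trans (by simp)
        · simp only [indWord, sup, Finset.mem_filter, Finset.mem_univ, true_and, if_neg hi]
          exact (ZMod.intCast_zmod_eq_zero_iff_dvd _ 2).2 (by omega)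
    refine ⟨?_, hcode, hout⟩
    push Not at h4
    obtain ⟨i, hi⟩ := h4
    have hne : indWord (sup x) ≠ 0 := fun h0 => by
      have h0i := congrFun h0 i
      have := he i
      have h1 : indWord (sup x) i = 1 := if_pos (Finset.mem_filter.2 ⟨Finset.mem_univ i, by omega⟩)
      rw [h1] at h0i
      exact one_ne_zero h0i
    have h8 := (F.word_props hcode hne).2
    rw [hammingNorm_indWord] at h8
    have hle : (sup x).card * (4 : ℤ) ≤ 32 := by
      refine le_trans ?_ (le_trans (Finset.sum_le_sum_of_subset_of_nonneg (Finset.subset_univ (sup x))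
        fun i _ _ => sq_nonneg (x i)) hn.le)
      have := Finset.card_nsmul_le_sum (sup x) (fun i => x i ^ 2) 4 fun i hi => by
        simp only [sup, Finset.mem_filter, Finset.mem_univ, true_and] at hi
        rcases (by omega : 2 ≤ x i ∨ x i ≤ -2) with h | h <;> nlinarith
      simpa using this
    omega
  have hWle : W.card ≤ 128 * (W.image sup).card := by
    refine Finset.card_le_mul_card_image W 128 fun T hT => ?_
    obtain ⟨z, hz, rfl⟩ := Finset.mem_image.1 hT
    refine F.count_word _ (sup z) (hW8 z hz).1 fun x hx => ?_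
    obtain ⟨hxW, hxT⟩ := Finset.mem_filter.1 hx
    have hxS := (Finset.mem_filter.1 (Finset.mem_filter.1 hxW).1).1
    refine ⟨(hmem.1 hxS).1, (hmem.1 hxS).2, fun i hi => ?_, fun i hi => (hW8 x hxW).2.2 i (hxT ▸ hi)⟩
    rw [← hxT] at hi
    exact (Finset.mem_filter.1 hi).2
  have hA : (W.image sup).card ≤ 759 := by
    have h56 : ∀ T ∈ W.image sup, (T.powersetCard 5).card = 56 := fun T hT => by
      obtain ⟨z, hz, rfl⟩ := Finset.mem_image.1 hT
      rw [Finset.card_powersetCard, (hW8 z hz).1]; rfl
    have hdisj : ((W.image sup : Finset _) : Set (Finset (Fin 24))).PairwiseDisjoint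
        fun T => T.powersetCard 5 := by
      intro T hT U hU hne
      rw [Function.onFun, Finset.disjoint_left]
      intro A hA hA'
      rw [Finset.mem_coe, Finset.mem_image] at hT hU
      obtain ⟨z, hz, rfl⟩ := hT
      obtain ⟨u, hu, rfl⟩ := hU
      obtain ⟨hA1, hA5⟩ := Finset.mem_powersetCard.1 hA
      have hi := Finset.card_le_card (Finset.subset_inter hA1 (Finset.mem_powersetCard.1 hA').1)
      have hmem' : indWord (sup z ∆ sup u) ∈ frameCode M := by
        rw [indWord_symmDiff]; exact add_mem (hW8 z hz).2.1 (hW8 u hu).2.1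
      have h3 := symmDiff_card (sup z) (sup u)
      rw [(hW8 z hz).1, (hW8 u hu).1] at h3
      have h8 := (F.word_props hmem' fun h0 => hne (symmDiff_eq_bot.1 (by
        rw [Finset.bot_eq_empty, ← support_indWord (sup z ∆ sup u), h0]; simp [support₂]))).2
      rw [hammingNorm_indWord] at h8
      omega
    have h := Finset.card_le_card (s := (W.image sup).biUnion fun T => T.powersetCard 5)
      (t := (Finset.univ : Finset (Fin 24)).powersetCard 5) fun A hA => by
        simp only [Finset.mem_biUnion, Finset.mem_powersetCard] at hA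
        obtain ⟨T, -, -, hA⟩ := hA
        exact Finset.mem_powersetCard.2 ⟨Finset.subset_univ _, hA⟩
    rw [Finset.card_biUnion hdisj, Finset.sum_congr rfl h56, Finset.sum_const, smul_eq_mul,
      Finset.card_powersetCard, Finset.card_univ, Fintype.card_fin] at h
    have : Nat.choose 24 5 = 42504 := by decide +kernel
    omega
  have hC := F.card_code_le
  refine ⟨by omega, ?_⟩
  obtain ⟨x, hx⟩ : O.Nonempty := Finset.card_pos.1 (by omega)
  obtain ⟨hxS, h0⟩ := Finset.mem_filter.1 hx
  exact ⟨x, (hmem.1 hxS).1, fun i => (F.parity (hmem.1 hxS).1 i 0).trans h0⟩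

/-- Signed renumbering of the coordinates turns the subgroup into the Leech lattice. -/
theorem exists_iso : ∃ (e : Fin 24 ≃ GolayPt) (s : Fin 24 → ℤ), (∀ i, s i = 1 ∨ s i = -1) ∧
    ∀ x : Fin 24 → ℤ, x ∈ M ↔ (fun p => s (e.symm p) * x (e.symm p)) ∈ leechLattice := by
  classical
  obtain ⟨hcard, xo, hxo, hxodd⟩ := F.main_count
  have hdim : Module.finrank (ZMod 2) (frameCode M) = 12 := by
    have h := Module.natCard_eq_pow_finrank (K := ZMod 2) (V := frameCode M)
    rw [hcard, Nat.card_zmod] at h
    exact Nat.pow_right_injective le_rfl (h.symm.trans (by norm_num))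
  obtain ⟨e, he⟩ := code_unique (frameCode M) hdim F.code_orth
    (fun w hw => by
      by_cases h0 : w = 0
      · simp [h0]
      · exact (F.word_props hw h0).1)
    (fun w hw h4 => by
      have := (F.word_props hw (fun h0 => by simp [h0] at h4)).2; omega)
  -- the parity functional
  have hwit : ∀ w : frameCode M, ∃ h : Fin 24 → ℤ,
      (fun i => 2 * h i) ∈ M ∧ ∀ i, (h i : ZMod 2) = w.1 i := fun w => mem_frameCode.1 w.2
  choose H hHM hHw using hwit
  have hagree : ∀ (w : frameCode M) (h : Fin 24 → ℤ), (fun i => 2 * h i) ∈ M →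
      (∀ i, (h i : ZMod 2) = w.1 i) → (4 : ℤ) ∣ (∑ i, h i) - ∑ i, H w i := by
    intro w h hh hhw
    have hd : ∀ i, (2 : ℤ) ∣ h i - H w i := fun i =>
      (ZMod.intCast_zmod_eq_zero_iff_dvd _ 2).1 (by rw [Int.cast_sub, hhw, hHw, sub_self])
    choose d hd using hd
    have hm : (fun i => 4 * d i) ∈ M := by
      convert sub_mem hh (hHM w) using 1
      funext i; simp only [Pi.sub_apply]; linarith [hd i]
    obtain ⟨k, hk⟩ := F.even_of_four_mul hm
    refine ⟨k, ?_⟩
    rw [← Finset.sum_sub_distrib, Finset.sum_congr rfl fun i _ => hd i, ← Finset.mul_sum, hk]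
    ring
  have heven : ∀ w : frameCode M, (2 : ℤ) ∣ ∑ i, H w i := by
    intro w
    have h16 := F.dvd16 _ (hHM w)
    have e1 : ∑ i, (2 * H w i) ^ 2 = 4 * ∑ i, H w i ^ 2 := by
      rw [Finset.mul_sum]; exact Finset.sum_congr rfl fun i _ => by ring
    rw [e1] at h16
    have h2 : ((∑ i, H w i : ℤ) : ZMod 2) = ((∑ i, H w i ^ 2 : ℤ) : ZMod 2) := by
      push_cast
      refine Finset.sum_congr rfl fun i _ => ?_
      rcases zmod_two_cases ((H w i : ZMod 2)) with h | h <;> simp [h]
    rw [(ZMod.intCast_zmod_eq_zero_iff_dvd (∑ i, H w i ^ 2) 2).2 (by omega)] at h2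
    exact (ZMod.intCast_zmod_eq_zero_iff_dvd _ 2).1 h2
  let μ : frameCode M →+ ZMod 2 := AddMonoidHom.mk' (fun w => (((∑ i, H w i) / 2 : ℤ) : ZMod 2))
    fun a b => by
      obtain ⟨k, hk⟩ := hagree (a + b) (fun i => H a i + H b i)
        (by convert add_mem (hHM a) (hHM b) using 1; funext i; simp [mul_add])
        (fun i => by simp [hHw])
      rw [Finset.sum_add_distrib] at hk
      obtain ⟨u, hu⟩ := heven a
      obtain ⟨v, hv⟩ := heven b
      rw [hu, hv] at hk ⊢
      rw [show ∑ i, H (a + b) i = 2 * (u + v - 2 * k) by linarith]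
      simp [show (2 : ZMod 2) = 0 from rfl]
  obtain ⟨μ', hμ'⟩ := LinearMap.exists_extend (μ.toZModLinearMap 2)
  let s : Fin 24 → ℤ := fun i => if μ' (Pi.single i 1) = 1 then -1 else 1
  have hs : ∀ i, s i = 1 ∨ s i = -1 := fun i => by simp only [s]; split <;> simp
  have hs2 : ∀ i, s i % 2 = 1 := fun i => by rcases hs i with h | h <;> simp [h]
  -- even vectors of `M`
  have heven_sum : ∀ h : Fin 24 → ℤ, (fun i => 2 * h i) ∈ M → (4 : ℤ) ∣ ∑ i, s i * h i := by
    intro h hh
    set w : frameCode M := ⟨fun i => (h i : ZMod 2), mem_frameCode.2 ⟨h, hh, fun i => rfl⟩⟩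
    have h1 := hagree w h hh fun i => rfl
    obtain ⟨u, hu⟩ := heven w
    obtain ⟨k, hk⟩ := h1
    have hpsi : ((∑ i, (if μ' (Pi.single i 1) = 1 then h i else 0) : ℤ) : ZMod 2) = (u : ZMod 2) := by
      have hμw : μ' w.1 = μ w := LinearMap.congr_fun hμ' w
      have hμu : μ w = (u : ZMod 2) := by
        show (((∑ i, H w i) / 2 : ℤ) : ZMod 2) = _
        rw [hu, Int.mul_ediv_cancel_left _ (by norm_num)]
      rw [← hμu, ← hμw, Int.cast_sum]
      conv_rhs => rw [← Finset.univ_sum_single w.1, map_sum]
      refine Finset.sum_congr rfl fun i _ => ?_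
      have : (Pi.single i (w.1 i) : Fin 24 → ZMod 2) = (w.1 i) • Pi.single i (1 : ZMod 2) := by
        funext j; simp [Pi.single_apply]
      rw [this, map_smul, smul_eq_mul]
      rcases zmod_two_cases (μ' (Pi.single i 1)) with hz | hz <;> simp [hz, w]
    have hsum : ∑ i, s i * h i = ∑ i, h i - 2 * ∑ i, (if μ' (Pi.single i 1) = 1 then h i else 0) := by
      rw [Finset.mul_sum, ← Finset.sum_sub_distrib]
      refine Finset.sum_congr rfl fun i _ => ?_
      simp only [s]; split <;> ring
    rw [hsum]
    obtain ⟨c, hc⟩ := (ZMod.intCast_eq_intCast_iff_dvd_sub _ _ 2).1 hpsi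
    exact ⟨k + c * 1 - 0, by push_cast at hc; linarith⟩
  refine ⟨e, s, hs, ?_⟩
  have hsupp : ∀ w : GolayPt → ZMod 2, (fun i => w (e i)) ∈ frameCode M →
      CodeSet (support₂ w) := fun w hw => ⟨w, (he w).2 hw, rfl⟩
  -- vectors of `M` go to lattice vectors
  have hto : ∀ x ∈ M, (fun p => s (e.symm p) * x (e.symm p)) ∈ leechLattice := by
    intro x hx
    rw [mem_leechLattice_iff_form]
    rcases Int.emod_two_eq (x 0) with h0 | h0
    · have hev : ∀ i, x i % 2 = 0 := fun i => (F.parity hx i 0).trans h0
      let h : Fin 24 → ℤ := fun i => x i / 2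
      have hx' : (fun i => 2 * h i) = x := by funext i; have := hev i; simp only [h]; omega
      let C : Finset GolayPt := support₂ fun p => ((h (e.symm p) : ℤ) : ZMod 2)
      refine ⟨⟨0, C, fun p => (s (e.symm p) * x (e.symm p) - 2 * indi C p) / 4,
        hsupp _ (mem_frameCode.2 ⟨h, hx'.symm ▸ hx, fun i => by simp⟩), fun p => ?_, ?_⟩⟩
      · set i := e.symm p
        have := hev i
        have hxi : x i = 2 * h i := (congrFun hx' i).symm
        by_cases hp : p ∈ C
        · simp only [indi, hp, if_true]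
          simp only [C, support₂, Finset.mem_filter, Finset.mem_univ, true_and, ne_eq,
            ZMod.intCast_zmod_eq_zero_iff_dvd, Nat.cast_ofNat] at hp
          have hp' : ¬ (2 : ℤ) ∣ h i := hp
          rcases hs i with hsi | hsi <;> rw [hsi] <;> omega
        · simp only [indi, hp, if_false]
          simp only [C, support₂, Finset.mem_filter, Finset.mem_univ, true_and, ne_eq, not_not,
            ZMod.intCast_zmod_eq_zero_iff_dvd, Nat.cast_ofNat] at hp
          have hp' : (2 : ℤ) ∣ h i := hp
          rcases hs i with hsi | hsi <;> rw [hsi] <;> omega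
      · rw [Equiv.sum_comp e.symm fun i => s i * x i]
        have h4 := heven_sum h (hx'.symm ▸ hx)
        have : ∑ i, s i * x i = 2 * ∑ i, s i * h i := by
          rw [Finset.mul_sum]
          exact Finset.sum_congr rfl fun i _ => by rw [← congrFun hx' i]; ring
        rw [this]; simp only [Int.ModEq]; omega
    · have hod : ∀ i, x i % 2 = 1 := fun i => (F.parity hx i 0).trans h0
      let v : GolayPt → ℤ := fun p => s (e.symm p) * x (e.symm p)
      have hv : ∀ p, v p % 2 = 1 := fun p => by
        show (s _ * x _) % 2 = 1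
        rw [Int.mul_emod, hs2, hod]; rfl
      let D : Finset GolayPt := Finset.univ.filter fun p => v p % 4 = 3
      have hD : CodeSet D := by
        refine supports_of_orth fun b hb => ?_
        have ht : (fun i => toWord b (e i)) ∈ frameCode M :=
          (he _).1 (mem_golayCode.2 ⟨b, mem_spanList_self hb, rfl⟩)
        obtain ⟨h, hh, hhw⟩ := mem_frameCode.1 ht
        have hdot := F.dot x hx _ hh
        have hs4 := heven_sum h hh
        have hd1 : ∑ i, x i * (2 * h i) = 2 * ∑ i, (v (e i)) * (s i * h i) := by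
          rw [Finset.mul_sum]
          refine Finset.sum_congr rfl fun i _ => ?_
          have hss : s i * s i = 1 := by rcases hs i with h | h <;> simp [h]
          simp only [v, Equiv.symm_apply_apply]
          linear_combination (-2 * x i * h i) * hss
        rw [hd1] at hdot
        have hdec : ∀ i, (4 : ℤ) ∣ v (e i) * (s i * h i) - s i * h i -
            2 * ((if e i ∈ D then 1 else 0) * h i) := fun i => by
          have := hv (e i)
          obtain ⟨q, hq⟩ : ∃ q, v (e i) = 4 * q + (if e i ∈ D then 3 else 1) :=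
            ⟨v (e i) / 4, by
              by_cases hp : v (e i) % 4 = 3
              · simp [D, hp]; omega
              · simp [D, hp]; omega⟩
          rw [hq]
          by_cases hp : e i ∈ D <;> simp only [hp, if_true, if_false] <;> rcases hs i with hsi | hsi <;>
            rw [hsi] <;> ring_nf <;> omega
        have hsum := Finset.dvd_sum fun i (_ : i ∈ Finset.univ) => hdec i
        simp only [Finset.sum_sub_distrib, ← Finset.mul_sum] at hsum
        have h2 : ((∑ i, (if e i ∈ D then 1 else 0) * h i : ℤ) : ZMod 2) = 0 :=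
          (ZMod.intCast_zmod_eq_zero_iff_dvd _ 2).2 (by omega)
        have hcount : ((D ∩ toSet b).card : ZMod 2) = ∑ p, if p ∈ D ∩ toSet b then 1 else 0 := by
          rw [Finset.sum_boole, Finset.filter_univ_mem]
        refine Eq.trans ?_ h2
        rw [hcount, Int.cast_sum, ← Equiv.sum_comp e]
        refine Finset.sum_congr rfl fun i _ => ?_
        rw [Int.cast_mul, hhw i]
        by_cases hp : e i ∈ D <;> by_cases hb' : b.testBit (ptEquiv (e i)).val = true <;>
          simp [toWord, mem_toSet, hp, hb']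
      refine ⟨⟨1, D, fun p => (v p - 1 - 2 * indi D p) / 4, hD, fun p => ?_, ?_⟩⟩
      · show v p = _
        have := hv p
        by_cases hp : v p % 4 = 3
        · simp only [indi, D, Finset.mem_filter, Finset.mem_univ, true_and, hp, if_true]; omega
        · simp only [indi, D, Finset.mem_filter, Finset.mem_univ, true_and, hp, if_false]; omega
      · show ∑ p, v p ≡ 4 * 1 [ZMOD 8]
        let y : GolayPt → ℤ := fun p => (v p - 1 - 2 * indi D p) / 4
        have hy : ∀ p, v p = 1 + 2 * indi D p + 4 * y p := fun p => by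
          have := hv p
          by_cases hp : v p % 4 = 3
          · simp only [y, indi, D, Finset.mem_filter, Finset.mem_univ, true_and, hp, if_true]; omega
          · simp only [y, indi, D, Finset.mem_filter, Finset.mem_univ, true_and, hp, if_false]; omega
        have h16 : (16 : ℤ) ∣ ∑ p, v p ^ 2 := by
          have h := F.dvd16 x hx
          have hvx : ∀ i, v (e i) ^ 2 = x i ^ 2 := fun i => by
            simp only [v, Equiv.symm_apply_apply, mul_pow]
            rcases hs i with hsi | hsi <;> rw [hsi] <;> ring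
          rw [← Equiv.sum_comp e]
          simpa only [hvx] using h
        have e2 : ∑ p, v p ^ 2 =
            24 + 8 * D.card + 8 * ∑ p, y p + 16 * ∑ p, (y p ^ 2 + indi D p * y p) := by
          rw [← sum_indi D, show (24 : ℤ) = ∑ _p : GolayPt, (1 : ℤ) by simp, Finset.mul_sum,
            Finset.mul_sum, Finset.mul_sum, ← Finset.sum_add_distrib, ← Finset.sum_add_distrib,
            ← Finset.sum_add_distrib]
          refine Finset.sum_congr rfl fun p _ => ?_
          rw [hy p]; simp only [indi]; split <;> ring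
        have e1 : ∑ p, v p = 24 + 2 * D.card + 4 * ∑ p, y p := by
          rw [← sum_indi D, show (24 : ℤ) = ∑ _p : GolayPt, (1 : ℤ) by simp, Finset.mul_sum,
            Finset.mul_sum, ← Finset.sum_add_distrib, ← Finset.sum_add_distrib]
          exact Finset.sum_congr rfl fun p _ => hy p
        rw [e2] at h16
        obtain ⟨c, hc⟩ := codeSet_card_dvd hD
        simp only [Int.ModEq, e1]
        omega
  intro x
  refine ⟨hto x, fun hx => ?_⟩
  -- lattice vectors come from `M`
  have key : ∀ h : Fin 24 → ℤ, (fun p => s (e.symm p) * (2 * h (e.symm p))) ∈ leechLattice →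
      (fun i => 2 * h i) ∈ M := by
    intro h hh
    obtain ⟨m, hpar, hsum, hcode⟩ := mem_leechLattice_iff.1 hh
    have hm : m % 2 = 0 := by
      have := hpar (e 0)
      simp only [Int.ModEq, Equiv.symm_apply_apply] at this
      rw [mul_left_comm, Int.mul_emod_right] at this
      omega
    have hw : (fun i => (h i : ZMod 2)) ∈ frameCode M := by
      obtain ⟨v, hv, hvs⟩ := hcode 2
      have : (fun i => (h i : ZMod 2)) = fun i => v (e i) := by
        funext i
        have h' := Finset.ext_iff.1 hvs (e i)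
        rw [support₂, Finset.mem_filter, Finset.mem_filter] at h'
        simp only [Finset.mem_univ, true_and, Int.ModEq, Equiv.symm_apply_apply] at h'
        rcases zmod_two_cases (v (e i)) with hz | hz
        · rw [hz]
          simp only [hz, ne_eq, not_true_eq_false, false_iff] at h'
          refine (ZMod.intCast_zmod_eq_zero_iff_dvd _ 2).2 ?_
          rcases hs i with hsi | hsi <;> rw [hsi] at h' <;> omega
        · rw [hz]
          simp only [hz, ne_eq, one_ne_zero, not_false_eq_true, true_iff] at h'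
          refine (ZMod.intCast_eq_intCast_iff' (h i) 1 2).2 ?_ |>.trans (by simp)
          rcases hs i with hsi | hsi <;> rw [hsi] at h' <;> omega
      rw [this]
      exact (he v).1 hv
    set w : frameCode M := ⟨_, hw⟩
    have hd : ∀ i, (2 : ℤ) ∣ h i - H w i := fun i =>
      (ZMod.intCast_zmod_eq_zero_iff_dvd _ 2).1 (by rw [Int.cast_sub, hHw]; simp [w])
    choose d hd using hd
    have hde : (2 : ℤ) ∣ ∑ i, d i := by
      have h4 := heven_sum _ (hHM w)
      have h8 : (4 : ℤ) ∣ ∑ i, s i * h i := by
        rw [Equiv.sum_comp e.symm fun i => s i * (2 * h i)] at hsum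
        have : ∑ i, s i * (2 * h i) = 2 * ∑ i, s i * h i := by
          rw [Finset.mul_sum]; exact Finset.sum_congr rfl fun i _ => by ring
        rw [this] at hsum
        simp only [Int.ModEq] at hsum
        omega
      have e2 : ∑ i, s i * h i = ∑ i, s i * H w i + 2 * ∑ i, s i * d i := by
        rw [Finset.mul_sum, ← Finset.sum_add_distrib]
        exact Finset.sum_congr rfl fun i _ => by linear_combination s i * hd i
      have h2 : ((∑ i, d i : ℤ) : ZMod 2) = ((∑ i, s i * d i : ℤ) : ZMod 2) := by
        push_cast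
        refine Finset.sum_congr rfl fun i _ => ?_
        rcases hs i with hsi | hsi <;> simp [hsi]
      rw [(ZMod.intCast_zmod_eq_zero_iff_dvd (∑ i, s i * d i) 2).2 (by omega)] at h2
      exact (ZMod.intCast_zmod_eq_zero_iff_dvd _ 2).1 h2
    convert add_mem (hHM w) (F.four_mul_mem d hde) using 1
    funext i
    simp only [Pi.add_apply]
    linarith [hd i]
  rcases Int.emod_two_eq (x 0) with h0 | h0
  all_goals
    obtain ⟨m, hpar, -, -⟩ := mem_leechLattice_iff.1 hx
    have hpm : ∀ i, x i % 2 = x 0 % 2 := fun i => by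
      have h1 := hpar (e i)
      have h2 := hpar (e 0)
      simp only [Int.ModEq, Equiv.symm_apply_apply] at h1 h2
      rcases hs i with hsi | hsi <;> rcases hs 0 with hs0 | hs0 <;> rw [hsi] at h1 <;> rw [hs0] at h2 <;>
        omega
  · convert key (fun i => x i / 2) (by
      convert hx using 1; funext p; have := hpm (e.symm p); congr 1; omega) using 1
    funext i; have := hpm i; omega
  · have hm := key (fun i => (x i - xo i) / 2) (by
      convert sub_mem hx (hto xo hxo) using 1
      funext p
      have := hpm (e.symm p); have := hxodd (e.symm p)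
      simp only [Pi.sub_apply, ← mul_sub]
      congr 1
      omega)
    convert add_mem hm hxo using 1
    funext i
    have := hpm i; have := hxodd i
    simp only [Pi.add_apply]
    omega

end Framed

/-- In the coordinates of a frame the lattice becomes the Leech lattice. -/
theorem EvenLat.exists_iso_frame {L : Type*} [AddCommGroup L] (E : EvenLat L) {x : L}
    (hx : E.b x x = 8) :
    ∃ f : L ≃+ leechLattice, (∀ v, sqNorm (f v : GolayPt → ℤ) = 8 * E.b v v) ∧
      ∀ y, y ∈ E.cls8 x ↔
        ∃ (p : GolayPt) (t : ℤ), (t = 8 ∨ t = -8) ∧ (f y : GolayPt → ℤ) = Pi.single p t := by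
  classical
  obtain ⟨e, he8, he0, hcls⟩ := E.exists_frame hx
  let c : L →+ (Fin 24 → ℤ) := AddMonoidHom.pi fun i => E.b.flip (e i)
  have hc : ∀ v i, c v i = E.b v (e i) := fun v i => rfl
  have hce : ∀ i, c (e i) = Pi.single i 8 := fun i => funext fun j => by
    rw [hc]
    rcases eq_or_ne j i with rfl | h
    · simp [he8]
    · rw [he0 i j h.symm, Pi.single_eq_of_ne h]
  have hq : ∀ v, ∑ i, c v i ^ 2 = 8 * E.b v v := by
    intro v
    obtain ⟨a, ha0, ha⟩ := E.dep (Fin.cons v e)
    rw [Fin.sum_univ_succ] at ha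
    simp only [Fin.cons_zero, Fin.cons_succ] at ha
    have hj : ∀ j, a 0 * c v j + 8 * a j.succ = 0 := fun j => by
      have := congrArg (fun u => E.b u (e j)) ha
      simp only [map_add, map_sum, map_zsmul, AddMonoidHom.add_apply, AddMonoidHom.finsetSum_apply,
        AddMonoidHom.smul_apply, map_zero, AddMonoidHom.zero_apply, smul_eq_mul] at this
      rw [Finset.sum_eq_single j (fun i _ hij => by rw [he0 i j hij, mul_zero]) (by simp), he8 j] at this
      rw [hc]; linarith
    have hv : a 0 * E.b v v + ∑ i, a i.succ * c v i = 0 := by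
      have := congrArg (fun u => E.b u v) ha
      simp only [map_add, map_sum, map_zsmul, AddMonoidHom.add_apply, AddMonoidHom.finsetSum_apply,
        AddMonoidHom.smul_apply, map_zero, AddMonoidHom.zero_apply, smul_eq_mul] at this
      simpa [hc, E.symm v] using this
    have ha0' : a 0 ≠ 0 := fun h0 => ha0 (funext fun j => by
      refine Fin.cases h0 (fun i => ?_) j
      have := hj i
      rw [h0] at this
      simp only [Pi.zero_apply]; omega)
    have h1 : ∑ i, (a 0 * c v i ^ 2 + 8 * (a i.succ * c v i)) = 0 :=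
      Finset.sum_eq_zero fun i _ => by linear_combination c v i * hj i
    rw [Finset.sum_add_distrib, ← Finset.mul_sum, ← Finset.mul_sum] at h1
    exact mul_left_cancel₀ ha0' (by linear_combination h1 - 8 * hv)
  have hdot : ∀ u v, ∑ i, c u i * c v i = 8 * E.b u v := fun u v => by
    have h := hq (u + v)
    rw [map_add, E.b_add] at h
    simp only [Pi.add_apply, add_sq, Finset.sum_add_distrib] at h
    rw [hq u, hq v] at h
    have : ∑ i, 2 * c u i * c v i = 2 * ∑ i, c u i * c v i := by
      rw [Finset.mul_sum]; exact Finset.sum_congr rfl fun i _ => by ring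
    linarith
  have hinj : Function.Injective c := (injective_iff_map_eq_zero c).2 fun v hv => by
    by_contra hne
    have := hq v
    have := E.pos v hne
    rw [hv] at *
    simp at *
    omega
  have F : Framed c.range := by
    refine ⟨?_, ?_, ?_, fun i => ⟨e i, hce i⟩, fun i j hij => ?_, ?_⟩
    · rintro _ ⟨v, rfl⟩; rw [hq]; obtain ⟨k, hk⟩ := E.even v; exact ⟨k, by rw [hk]; ring⟩
    · rintro _ ⟨v, rfl⟩ hne
      rw [hq]
      have := E.four_le (x := v) (fun h => hne (by rw [h, map_zero]))
      omega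
    · rintro _ ⟨u, rfl⟩ _ ⟨v, rfl⟩; rw [hdot]; exact dvd_mul_right _ _
    · have h1 := (hcls (e i)).2 ⟨i, Or.inl rfl⟩
      have h2 := (hcls (-e j)).2 ⟨j, Or.inr rfl⟩
      obtain ⟨z, hz⟩ := mem_twoMul.1 (sub_mem h2.2 h1.2)
      refine ⟨z, funext fun k => ?_⟩
      have := congrArg (fun u => c u k) hz
      simp only [map_zsmul, map_sub, map_neg, hce, Pi.smul_apply, Pi.sub_apply, Pi.neg_apply,
        smul_eq_mul, Pi.single_apply] at this
      simp only [Pi.add_apply, Pi.single_apply]
      split_ifs at this ⊢ <;> omega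
    · rw [← E.count4, ← Set.ncard_image_of_injective {x | E.b x x = 4} hinj]
      congr 1
      ext y
      simp only [Set.mem_image, Set.mem_ofPred_eq, AddMonoidHom.mem_range]
      constructor
      · rintro ⟨⟨v, rfl⟩, h⟩; rw [hq] at h; exact ⟨v, by omega, rfl⟩
      · rintro ⟨v, hv, rfl⟩; exact ⟨⟨v, rfl⟩, by rw [hq, hv]; norm_num⟩
  obtain ⟨π, s, hs, hM⟩ := F.exists_iso
  have hss : ∀ i, s i * s i = 1 := fun i => by rcases hs i with h | h <;> simp [h]
  let g : L →+ leechLattice :=
    AddMonoidHom.mk' (fun v => ⟨fun p => s (π.symm p) * c v (π.symm p), (hM (c v)).1 ⟨v, rfl⟩⟩)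
      fun u v => Subtype.ext (funext fun p => by simp [mul_add])
  have hg : ∀ v p, (g v : GolayPt → ℤ) p = s (π.symm p) * c v (π.symm p) := fun v p => rfl
  have hginj : Function.Injective g := fun u v h => hinj (funext fun i => by
    have := congrFun (congrArg Subtype.val h) (π i)
    rw [hg, hg, Equiv.symm_apply_apply] at this
    exact mul_left_cancel₀ (left_ne_zero_of_mul_eq_one (hss i)) this)
  have hgsurj : Function.Surjective g := by
    rintro ⟨y, hy⟩
    obtain ⟨v, hv⟩ := (hM fun i => s i * y (π i)).2 (by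
      convert hy using 1
      funext p
      show s _ * (s _ * y (π (π.symm p))) = y p
      rw [Equiv.apply_symm_apply, ← mul_assoc, hss, one_mul])
    refine ⟨v, Subtype.ext (funext fun p => ?_)⟩
    rw [hg, hv]
    show s _ * (s _ * y (π (π.symm p))) = y p
    rw [Equiv.apply_symm_apply, ← mul_assoc, hss, one_mul]
  let f : L ≃+ leechLattice := AddEquiv.ofBijective g ⟨hginj, hgsurj⟩
  have hf : ∀ v p, (f v : GolayPt → ℤ) p = s (π.symm p) * c v (π.symm p) := hg
  refine ⟨f, fun v => ?_, fun y => ?_⟩
  · rw [← hq, sqNorm, ← Equiv.sum_comp π]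
    refine Finset.sum_congr rfl fun i _ => ?_
    rw [hf, Equiv.symm_apply_apply, mul_pow, pow_two (s i), hss, one_mul]
  · have hfe : ∀ i, (f (e i) : GolayPt → ℤ) = Pi.single (π i) (s i * 8) := fun i => funext fun p => by
      rw [hf, hce]
      rcases eq_or_ne p (π i) with rfl | h
      · simp
      · rw [Pi.single_eq_of_ne h, Pi.single_eq_of_ne (fun h' => h (by rw [← h', Equiv.apply_symm_apply])),
          mul_zero]
    rw [hcls]
    constructor
    · rintro ⟨i, rfl | rfl⟩
      · exact ⟨π i, s i * 8, by rcases hs i with h | h <;> simp [h], hfe i⟩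
      · refine ⟨π i, -(s i * 8), by rcases hs i with h | h <;> simp [h], ?_⟩
        rw [map_neg, AddSubgroup.coe_neg, hfe, Pi.single_neg]
    · rintro ⟨p, t, ht, hy⟩
      refine ⟨π.symm p, ?_⟩
      have key : (f y : GolayPt → ℤ) = (f (e (π.symm p)) : GolayPt → ℤ) ∨
          (f y : GolayPt → ℤ) = (f (-e (π.symm p)) : GolayPt → ℤ) := by
        rw [map_neg, AddSubgroup.coe_neg, hfe, Equiv.apply_symm_apply, hy, ← Pi.single_neg]
        rcases hs (π.symm p) with h | h <;> rcases ht with rfl | rfl <;> simp [h]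
      exact key.imp (fun h => f.injective (Subtype.ext h)) fun h => f.injective (Subtype.ext h)

end CfsgLib.Leech
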