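/-!
# The hundred vectors of the standard Higman–Sims configuration, in the numbering of the graph
-/

set_option autoImplicit false

namespace CfsgLib.Leech.HSVec

/-- Part 0 of the vectors: parity, code word, entries. -/
def part0 : List (Nat × Nat × List Int) := [
  (0, 0, [4,4,0,0,0,0,0,0,0,0,0,0,0,0,0,0,0,0,0,0,0,0,0,0]),
  (1, 0, [1,1,-3,1,1,1,1,1,1,1,1,1,1,1,1,1,1,1,1,1,1,1,1,1]),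
  (1, 0, [1,1,1,-3,1,1,1,1,1,1,1,1,1,1,1,1,1,1,1,1,1,1,1,1]),
  (1, 0, [1,1,1,1,-3,1,1,1,1,1,1,1,1,1,1,1,1,1,1,1,1,1,1,1]),
  (1, 0, [1,1,1,1,1,-3,1,1,1,1,1,1,1,1,1,1,1,1,1,1,1,1,1,1]),
  (1, 0, [1,1,1,1,1,1,-3,1,1,1,1,1,1,1,1,1,1,1,1,1,1,1,1,1]),
  (1, 0, [1,1,1,1,1,1,1,-3,1,1,1,1,1,1,1,1,1,1,1,1,1,1,1,1]),
  (1, 0, [1,1,1,1,1,1,1,1,-3,1,1,1,1,1,1,1,1,1,1,1,1,1,1,1]),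
  (1, 0, [1,1,1,1,1,1,1,1,1,-3,1,1,1,1,1,1,1,1,1,1,1,1,1,1]),
  (1, 0, [1,1,1,1,1,1,1,1,1,1,-3,1,1,1,1,1,1,1,1,1,1,1,1,1])]

/-- Part 1 of the vectors: parity, code word, entries. -/
def part1 : List (Nat × Nat × List Int) := [
  (1, 0, [1,1,1,1,1,1,1,1,1,1,1,-3,1,1,1,1,1,1,1,1,1,1,1,1]),
  (1, 0, [1,1,1,1,1,1,1,1,1,1,1,1,-3,1,1,1,1,1,1,1,1,1,1,1]),
  (1, 0, [1,1,1,1,1,1,1,1,1,1,1,1,1,-3,1,1,1,1,1,1,1,1,1,1]),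
  (1, 0, [1,1,1,1,1,1,1,1,1,1,1,1,1,1,-3,1,1,1,1,1,1,1,1,1]),
  (1, 0, [1,1,1,1,1,1,1,1,1,1,1,1,1,1,1,-3,1,1,1,1,1,1,1,1]),
  (1, 0, [1,1,1,1,1,1,1,1,1,1,1,1,1,1,1,1,-3,1,1,1,1,1,1,1]),
  (1, 0, [1,1,1,1,1,1,1,1,1,1,1,1,1,1,1,1,1,-3,1,1,1,1,1,1]),
  (1, 0, [1,1,1,1,1,1,1,1,1,1,1,1,1,1,1,1,1,1,-3,1,1,1,1,1]),
  (1, 0, [1,1,1,1,1,1,1,1,1,1,1,1,1,1,1,1,1,1,1,-3,1,1,1,1]),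
  (1, 0, [1,1,1,1,1,1,1,1,1,1,1,1,1,1,1,1,1,1,1,1,-3,1,1,1])]

/-- Part 2 of the vectors: parity, code word, entries. -/
def part2 : List (Nat × Nat × List Int) := [
  (1, 0, [1,1,1,1,1,1,1,1,1,1,1,1,1,1,1,1,1,1,1,1,1,-3,1,1]),
  (1, 0, [1,1,1,1,1,1,1,1,1,1,1,1,1,1,1,1,1,1,1,1,1,1,-3,1]),
  (1, 0, [1,1,1,1,1,1,1,1,1,1,1,1,1,1,1,1,1,1,1,1,1,1,1,-3]),
  (0, 9347075, [2,2,0,0,0,0,0,0,0,0,0,0,0,2,0,2,0,2,2,2,0,0,0,2]),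
  (0, 7145475, [2,2,0,0,0,0,0,0,0,0,0,2,0,0,0,0,2,0,2,2,0,2,2,0]),
  (0, 11731203, [2,2,0,0,0,0,0,0,2,0,0,0,0,0,0,0,2,2,0,0,2,2,0,2]),
  (0, 5286147, [2,2,0,0,0,0,0,0,2,0,0,2,0,2,0,2,0,0,0,0,2,0,2,0]),
  (0, 9465987, [2,2,0,0,0,0,0,2,0,0,0,0,2,2,2,0,0,0,0,0,2,0,0,2]),
  (0, 6447171, [2,2,0,0,0,0,2,0,0,0,0,0,0,2,2,0,0,2,0,0,0,2,2,0]),
  (0, 8505411, [2,2,0,0,0,0,2,0,0,0,0,2,0,0,2,2,2,0,0,0,0,0,0,2])]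

/-- Part 3 of the vectors: parity, code word, entries. -/
def part3 : List (Nat × Nat × List Int) := [
  (0, 4264387, [2,2,0,0,0,0,2,2,2,0,0,0,2,0,0,0,2,0,0,0,0,0,2,0]),
  (0, 3719203, [2,2,0,0,0,2,0,0,0,0,0,0,0,0,2,2,0,0,0,2,2,2,0,0]),
  (0, 352547, [2,2,0,0,0,2,0,0,2,0,0,0,0,2,2,0,2,0,2,0,0,0,0,0]),
  (0, 2494627, [2,2,0,0,0,2,0,2,0,0,0,0,2,0,0,0,0,2,2,0,0,2,0,0]),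
  (0, 13893731, [2,2,0,0,0,2,2,0,0,0,0,0,0,0,0,0,0,0,2,0,2,0,2,2]),
  (0, 657763, [2,2,0,0,0,2,2,0,2,0,0,2,0,0,0,0,0,2,0,2,0,0,0,0]),
  (0, 185603, [2,2,0,0,0,0,0,0,2,0,2,0,2,0,2,2,0,2,0,0,0,0,0,0]),
  (0, 2204803, [2,2,0,0,0,0,0,2,0,0,2,0,0,2,0,2,2,0,0,0,0,2,0,0]),
  (0, 12717187, [2,2,0,0,0,0,0,2,0,0,2,2,0,0,0,0,0,2,0,0,0,0,2,2]),
  (0, 1836419, [2,2,0,0,0,0,0,2,2,0,2,0,0,0,0,0,0,0,2,2,2,0,0,0])]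

/-- Part 4 of the vectors: parity, code word, entries. -/
def part4 : List (Nat × Nat × List Int) := [
  (0, 3152963, [2,2,0,0,0,0,2,0,0,0,2,2,2,0,0,0,0,0,0,0,2,2,0,0]),
  (0, 8983587, [2,2,0,0,0,2,0,0,0,0,2,0,2,0,0,0,2,0,0,2,0,0,0,2]),
  (0, 1460739, [2,2,0,0,0,0,0,0,0,2,0,2,0,0,2,0,0,2,2,0,2,0,0,0]),
  (0, 13124355, [2,2,0,0,0,0,0,0,2,2,0,0,0,0,2,0,0,0,0,2,0,0,2,2]),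
  (0, 563843, [2,2,0,0,0,0,0,2,0,2,0,2,2,0,0,2,0,0,0,2,0,0,0,0]),
  (0, 1647171, [2,2,0,0,0,0,2,0,0,2,0,0,0,2,0,0,2,0,0,2,2,0,0,0]),
  (0, 2392899, [2,2,0,0,0,0,2,0,2,2,0,0,0,0,0,2,0,0,2,0,0,2,0,0]),
  (0, 4424227, [2,2,0,0,0,2,0,0,0,2,0,0,0,0,0,2,2,2,0,0,0,0,2,0]),
  (0, 10496547, [2,2,0,0,0,2,0,0,0,2,0,2,0,2,0,0,0,0,0,0,0,2,0,2]),
  (0, 4470275, [2,2,0,0,0,0,0,0,0,2,2,0,2,2,0,0,0,0,2,0,0,0,2,0])]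

/-- Part 5 of the vectors: parity, code word, entries. -/
def part5 : List (Nat × Nat × List Int) := [
  (0, 18147, [2,2,0,0,0,2,2,2,0,2,2,0,0,0,2,0,0,0,0,0,0,0,0,0]),
  (0, 1413139, [2,2,0,0,2,0,0,0,0,0,0,0,2,0,0,2,2,0,2,0,2,0,0,0]),
  (0, 2634003, [2,2,0,0,2,0,0,0,2,0,0,0,2,2,0,0,0,0,0,2,0,2,0,0]),
  (0, 737427, [2,2,0,0,2,0,0,2,0,0,0,0,0,0,2,0,2,2,0,2,0,0,0,0]),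
  (0, 272595, [2,2,0,0,2,0,2,2,0,0,0,2,0,2,0,0,0,0,2,0,0,0,0,0]),
  (0, 4216883, [2,2,0,0,2,2,0,0,0,0,0,2,2,0,2,0,0,0,0,0,0,0,2,0]),
  (0, 8421811, [2,2,0,0,2,2,0,2,2,0,0,0,0,0,0,2,0,0,0,0,0,0,0,2]),
  (0, 10765331, [2,2,0,0,2,0,0,0,0,0,2,0,0,0,2,0,0,0,2,0,0,2,0,2]),
  (0, 4752467, [2,2,0,0,2,0,2,0,0,0,2,0,0,0,0,2,0,0,0,2,0,0,2,0]),
  (0, 1188915, [2,2,0,0,2,2,0,0,0,0,2,0,0,2,0,0,0,2,0,0,2,0,0,0])]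

/-- Part 6 of the vectors: parity, code word, entries. -/
def part6 : List (Nat × Nat × List Int) := [
  (0, 7340691, [2,2,0,0,2,0,0,2,0,2,0,0,0,0,0,0,0,0,0,0,2,2,2,0]),
  (0, 8524371, [2,2,0,0,2,0,2,0,0,2,0,0,2,0,0,0,0,2,0,0,0,0,0,2]),
  (0, 69395, [2,2,0,0,2,0,0,0,2,2,2,2,0,0,0,0,2,0,0,0,0,0,0,0]),
  (0, 14716939, [2,2,0,2,0,0,0,0,0,0,0,0,2,0,0,2,0,0,0,0,0,2,2,2]),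
  (0, 210955, [2,2,0,2,0,0,0,0,0,0,0,2,2,2,0,0,2,2,0,0,0,0,0,0]),
  (0, 2115979, [2,2,0,2,0,0,0,2,2,0,0,2,0,0,2,0,0,0,0,0,0,2,0,0]),
  (0, 806987, [2,2,0,2,0,0,2,0,0,0,0,0,2,0,2,0,0,0,2,2,0,0,0,0]),
  (0, 1212619, [2,2,0,2,0,0,2,2,0,0,0,0,0,0,0,2,0,2,0,0,2,0,0,0]),
  (0, 4726955, [2,2,0,2,0,2,0,2,0,0,0,0,0,2,0,0,0,0,0,2,0,0,2,0]),
  (0, 5325835, [2,2,0,2,0,0,0,0,0,0,2,0,0,0,2,0,2,0,0,0,2,0,2,0])]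

/-- Part 7 of the vectors: parity, code word, entries. -/
def part7 : List (Nat × Nat × List Int) := [
  (0, 8398155, [2,2,0,2,0,0,2,0,2,0,2,0,0,2,0,0,0,0,0,0,0,0,0,2]),
  (0, 298027, [2,2,0,2,0,2,0,0,0,0,2,2,0,0,0,2,0,0,2,0,0,0,0,0]),
  (0, 8716939, [2,2,0,2,0,0,0,2,0,2,0,0,0,0,0,0,2,0,2,0,0,0,0,2]),
  (0, 1053483, [2,2,0,2,0,2,0,0,2,2,0,0,2,0,0,0,0,0,0,0,2,0,0,0]),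
  (0, 2754059, [2,2,0,2,0,0,0,0,0,2,2,0,0,0,0,0,0,2,0,2,0,2,0,0]),
  (0, 9963547, [2,2,0,2,2,0,0,0,0,0,0,2,0,0,0,0,0,0,0,2,2,0,0,2]),
  (0, 4587803, [2,2,0,2,2,0,0,0,2,0,0,0,0,0,0,0,0,2,2,0,0,0,2,0]),
  (0, 2162811, [2,2,0,2,2,2,2,0,0,0,0,0,0,0,0,0,2,0,0,0,0,2,0,0]),
  (0, 57883, [2,2,0,2,2,0,0,0,0,2,0,0,0,2,2,2,0,0,0,0,0,0,0,0]),
  (0, 5902343, [2,2,2,0,0,0,0,0,0,0,0,0,2,0,0,0,0,2,0,2,2,0,2,0])]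

/-- Part 8 of the vectors: parity, code word, entries. -/
def part8 : List (Nat × Nat × List Int) := [
  (0, 8657159, [2,2,2,0,0,0,0,0,2,0,0,2,2,0,0,0,0,0,2,0,0,0,0,2]),
  (0, 4505735, [2,2,2,0,0,0,0,2,0,0,0,0,0,0,2,2,0,0,2,0,0,0,2,0]),
  (0, 11010247, [2,2,2,0,0,0,2,2,0,0,0,0,0,0,0,0,0,0,0,2,0,2,0,2]),
  (0, 1116327, [2,2,2,0,0,2,0,2,0,0,0,2,0,0,0,0,2,0,0,0,2,0,0,0]),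
  (0, 45159, [2,2,2,0,0,2,2,0,0,0,0,0,2,2,0,2,0,0,0,0,0,0,0,0]),
  (0, 551943, [2,2,2,0,0,0,0,0,0,0,2,2,0,2,2,0,0,0,0,2,0,0,0,0]),
  (0, 459847, [2,2,2,0,0,0,2,0,0,0,2,0,0,0,0,0,2,2,2,0,0,0,0,0]),
  (0, 6292775, [2,2,2,0,0,2,0,0,2,0,2,0,0,0,0,0,0,0,0,0,0,2,2,0]),
  (0, 2183687, [2,2,2,0,0,0,0,0,0,2,0,0,2,0,2,0,2,0,0,0,0,2,0,0]),
  (0, 140167, [2,2,2,0,0,0,0,2,2,2,0,0,0,2,0,0,0,2,0,0,0,0,0,0])]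

/-- Part 9 of the vectors: parity, code word, entries. -/
def part9 : List (Nat × Nat × List Int) := [
  (0, 9471495, [2,2,2,0,0,0,0,0,0,2,2,0,0,0,0,2,0,0,0,0,2,0,0,2]),
  (0, 12656663, [2,2,2,0,2,0,0,0,0,0,0,0,0,2,0,0,2,0,0,0,0,0,2,2]),
  (0, 2263063, [2,2,2,0,2,0,0,0,0,0,0,2,0,0,0,2,0,2,0,0,0,2,0,0]),
  (0, 1065303, [2,2,2,0,2,0,2,0,2,0,0,0,0,0,2,0,0,0,0,0,2,0,0,0]),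
  (0, 786999, [2,2,2,0,2,2,0,0,0,2,0,0,0,0,0,0,0,0,2,2,0,0,0,0]),
  (0, 3416079, [2,2,2,2,0,0,0,0,0,0,0,0,0,2,0,0,0,0,2,0,2,2,0,0]),
  (0, 622863, [2,2,2,2,0,0,0,0,2,0,0,0,0,0,0,2,2,0,0,2,0,0,0,0]),
  (0, 8536111, [2,2,2,2,0,2,0,0,0,0,0,0,0,0,2,0,0,2,0,0,0,0,0,2]),
  (0, 4196943, [2,2,2,2,0,0,2,0,0,2,0,2,0,0,0,0,0,0,0,0,0,0,2,0]),
  (0, 5279, [2,2,2,2,2,0,0,2,0,0,2,0,2,0,0,0,0,0,0,0,0,0,0,0])]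

/-- All the vectors. -/
def vecs : List (Nat × Nat × List Int) :=
  part0 ++ part1 ++ part2 ++ part3 ++ part4 ++ part5 ++ part6 ++ part7 ++ part8 ++ part9

end CfsgLib.Leech.HSVec
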