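import Cfsg.Agent.Lib.Leech.Configs
import Cfsg.Agent.Lib.Leech.HSVecData
import Cfsg.Agent.Lib.Golay.HSSimple
import Cfsg.Prelude.Def_Spor_Conway

/-!
# The joint stabiliser of a Higman–Sims pair is the simple group of the hundred-vertex graph
-/

set_option autoImplicit false

namespace CfsgLib.Leech.HSVec

open Cfsg CfsgLib.Golay CfsgLib.Leech CfsgLib.Leech.Count

open scoped Pointwise

/-- A list of entries as a coordinate vector. -/
def toFn (l : List ℤ) : GolayPt → ℤ := fun p => l.getD (ptEquiv p).val 0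

/-- The products of two lists of entries, summed. -/
def dotL (a b : List ℤ) : ℤ := (List.zipWith (· * ·) a b).foldl (· + ·) 0

theorem dot_toFn : ∀ {a b : List ℤ}, a.length = 24 → b.length = 24 → dotInt (toFn a) (toFn b) = dotL a b := by
  intro a b ha hb
  have hfold : ∀ (l : List ℤ) (c : ℤ), l.foldl (· + ·) c = c + l.sum := by
    intro l
    induction l with
    | nil => intro c; simp
    | cons x l ih => intro c; rw [List.foldl_cons, ih, List.sum_cons, add_assoc]
  have e : List.zipWith (· * ·) a b = List.ofFn fun i : Fin 24 => a.getD i.val 0 * b.getD i.val 0 := by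
    refine List.ext_getElem (by simp [ha, hb]) fun n h1 h2 => ?_
    simp only [List.getElem_zipWith, List.getElem_ofFn]
    rw [List.length_ofFn] at h2
    rw [List.getD_eq_getElem _ _ (ha ▸ h2), List.getD_eq_getElem _ _ (hb ▸ h2)]
  rw [dotL, hfold, zero_add, e, List.sum_ofFn, dotInt]
  exact Fintype.sum_equiv ptEquiv _ _ fun p => rfl

set_option maxHeartbeats 4000000 in
theorem vec_ok : ∀ t ∈ vecs, t.1 ≤ 1 ∧ inCode t.2.1 = true ∧ t.2.2.length = 24 ∧
    (∀ p, toFn t.2.2 p % 4 = (res t.1 (t.2.1.testBit (ptEquiv p).val) : ℤ)) ∧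
    (∑ p, ((toFn t.2.2 p : ℤ) : ZMod 8)) = ((4 * t.1 : ℕ) : ZMod 8) := by decide +kernel

set_option maxHeartbeats 4000000 in
theorem vec_gram : vecs.length = 100 ∧
    ((List.range 100).all fun i => (List.range 100).all fun j =>
      dotL (vecs.getD i (0, 0, [])).2.2 (vecs.getD j (0, 0, [])).2.2 ==
        if i == j then 32 else if HS.adjN i j then 8 else 16) = true ∧
    ((List.range 100).all fun i => dotL (5 :: List.replicate 23 1) (vecs.getD i (0, 0, [])).2.2 == 24 &&
      dotL ([4, -4] ++ List.replicate 22 0) (vecs.getD i (0, 0, [])).2.2 == 0) = true ∧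
    (vecs.getD 0 (0, 0, [])).2.2 = [4, 4] ++ List.replicate 22 0 := by
  refine ⟨?_, ?_, ?_, ?_⟩ <;> decide +kernel

theorem vec_separate : ∀ i j : Fin 24, 2 ≤ i.val → 2 ≤ j.val → i ≠ j →
    ∃ t ∈ vecs, t.2.2.getD i.val 0 ≠ t.2.2.getD j.val 0 := by decide +kernel

theorem base_lists : toFn (5 :: List.replicate 23 1) = hsU ∧ toFn ([4, -4] ++ List.replicate 22 0) = base32neg ∧
    toFn ([4, 4] ++ List.replicate 22 0) = base32 := by decide +kernel

theorem getD_vec_mem (i : Fin 100) : vecs.getD i.val (0, 0, []) ∈ vecs := by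
  have h : i.val < vecs.length := by rw [vec_gram.1]; exact i.isLt
  rw [List.getD_eq_getElem _ _ h]
  exact List.getElem_mem _

/-- The vector with a given number. -/
def hundred (i : Fin 100) : leechLattice :=
  ⟨toFn (vecs.getD i.val (0, 0, [])).2.2, by
    obtain ⟨h1, h2, -, h3, h4⟩ := vec_ok _ (getD_vec_mem i)
    exact even_iff.2 ⟨_, h1, _, mem_golayList_of_inCode h2, h3, h4⟩⟩

theorem hundred_dot (i j : Fin 100) : dotInt (hundred i : GolayPt → ℤ) (hundred j) =
    if i = j then 32 else if HS.adjN i.val j.val then 8 else 16 := by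
  show dotInt (toFn _) (toFn _) = _
  rw [dot_toFn (vec_ok _ (getD_vec_mem i)).2.2.1 (vec_ok _ (getD_vec_mem j)).2.2.1]
  have h := vec_gram.2.1
  simp only [List.all_eq_true, List.mem_range, beq_iff_eq] at h
  rw [h _ i.isLt _ j.isLt]
  simp only [Fin.ext_iff]

theorem hundred_injective : Function.Injective hundred := by
  intro i j e
  by_contra hne
  have h := hundred_dot i j
  rw [if_neg hne, e, hundred_dot, if_pos rfl] at h
  split at h <;> omega

/-- The second vector of the standard pair. -/
def pairW : leechLattice := stdW - stdU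

/-- The hundred vectors of the standard pair. -/
def hundredSet : Set leechLattice :=
  {x | sqNorm (x : GolayPt → ℤ) = 32 ∧ dotInt (stdU : GolayPt → ℤ) x = 24 ∧
    dotInt (stdW : GolayPt → ℤ) x = 0}

theorem hundred_mem (i : Fin 100) : hundred i ∈ hundredSet := by
  have h := vec_gram.2.2.1
  simp only [List.all_eq_true, List.mem_range, Bool.and_eq_true, beq_iff_eq] at h
  have hlen := (vec_ok _ (getD_vec_mem i)).2.2.1
  refine ⟨?_, ?_, ?_⟩
  · rw [← dotInt_self, hundred_dot, if_pos rfl]
  · show dotInt hsU (toFn _) = _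
    rw [← base_lists.1, dot_toFn (by simp) hlen, (h _ i.isLt).1]
  · show dotInt base32neg (toFn _) = _
    rw [← base_lists.2.1, dot_toFn (by simp) hlen, (h _ i.isLt).2]

theorem range_hundred : Set.range hundred = hundredSet := by
  have hn : hundredSet.ncard = 100 := ncard_hsPair std_dots.1 std_dots.2.2.1 std_dots.2.2.2.2.2.1
  refine Set.eq_of_subset_of_ncard_le (fun x ⟨i, hi⟩ => hi ▸ hundred_mem i) ?_
    (Set.finite_of_ncard_ne_zero (by omega))
  rw [hn, Set.ncard_range_of_injective hundred_injective, Nat.card_fin]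

/-- The joint stabiliser of the standard pair. -/
def pairStab : Subgroup Co0 := MulAction.stabilizer Co0 stdU ⊓ MulAction.stabilizer Co0 pairW

theorem mem_pairStab {g : Co0} : g ∈ pairStab ↔ g • stdU = stdU ∧ g • stdW = stdW := by
  show g • stdU = stdU ∧ g • pairW = pairW ↔ _
  refine and_congr_right fun h => ?_
  rw [pairW, smul_sub', h, sub_left_inj]

theorem smul_hundred (g : pairStab) (i : Fin 100) : ∃ j, hundred j = g.val • hundred i := by
  obtain ⟨h1, h2⟩ := mem_pairStab.1 g.2
  obtain ⟨a, b, c⟩ := hundred_mem i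
  have hm : g.val • hundred i ∈ hundredSet := by
    refine ⟨(sqNorm_smul_co _ _).trans a, ?_, ?_⟩
    · have h := dot_smul_co g.val stdU (hundred i)
      rw [h1] at h
      exact h.trans b
    · have h := dot_smul_co g.val stdW (hundred i)
      rw [h2] at h
      exact h.trans c
  rwa [← range_hundred] at hm

/-- The number of the image of a numbered vector. -/
noncomputable def imgNum (g : pairStab) (i : Fin 100) : Fin 100 := (smul_hundred g i).choose

theorem imgNum_spec (g : pairStab) (i : Fin 100) : hundred (imgNum g i) = g.val • hundred i :=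
  (smul_hundred g i).choose_spec

/-- The action on the numbers. -/
noncomputable def numHom : pairStab →* Equiv.Perm (Fin 100) where
  toFun g :=
    { toFun := imgNum g
      invFun := imgNum g⁻¹
      left_inv := fun i => hundred_injective (by
        rw [imgNum_spec, imgNum_spec, Subgroup.coe_inv, inv_smul_smul])
      right_inv := fun i => hundred_injective (by
        rw [imgNum_spec, imgNum_spec, Subgroup.coe_inv, smul_inv_smul]) }
  map_one' := Equiv.ext fun i => hundred_injective (by
    show hundred (imgNum 1 i) = hundred i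
    rw [imgNum_spec, Subgroup.coe_one, one_smul])
  map_mul' g h := Equiv.ext fun i => hundred_injective (by
    show hundred (imgNum (g * h) i) = hundred (imgNum g (imgNum h i))
    rw [imgNum_spec, imgNum_spec, imgNum_spec, Subgroup.coe_mul, mul_smul])

theorem numHom_spec (g : pairStab) (i : Fin 100) : hundred (numHom g i) = g.val • hundred i := imgNum_spec g i

theorem numHom_mem (g : pairStab) : numHom g ∈ HS.graphAut := by
  rw [HS.mem_graphAut]
  intro i j
  have h := dot_smul_co g.val (hundred i) (hundred j)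
  rw [← numHom_spec, ← numHom_spec, hundred_dot, hundred_dot] at h
  by_cases hij : i = j
  · subst hij
    have hirr : ∀ a : Fin 100, HS.adjN a.val a.val = false := by decide +kernel
    rw [hirr, hirr]
  · rw [if_neg hij, if_neg ((numHom g).injective.ne hij)] at h
    revert h
    cases HS.adjN (numHom g i).val (numHom g j).val <;> cases HS.adjN i.val j.val <;> simp

theorem hundred_zero : hundred 0 = stdV := by
  refine Subtype.ext ?_
  show toFn _ = base32
  rw [show ((0 : Fin 100).val) = 0 from rfl, vec_gram.2.2.2, base_lists.2.2]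

/-- An element fixing the standard triple is a permutation of the coordinates fixing two points. -/
theorem triple_stab {g : Co0} (hu : g • stdU = stdU) (hw : g • stdW = stdW) (hx : g • stdV = stdV) :
    ∃ (σ : Equiv.Perm GolayPt) (hσ : σ ∈ M24), σ (pt 0) = pt 0 ∧ σ (pt 1) = pt 1 ∧ g = permAut σ hσ := by
  classical
  have hax : axisVec (pt 0) 8 dvd_rfl = stdV + stdW := by
    refine Subtype.ext ?_
    show (Pi.single (pt 0) 8 : GolayPt → ℤ) = base32 + base32neg
    decide +kernel
  have hg0 : g • axisVec (pt 0) 8 dvd_rfl = axisVec (pt 0) 8 dvd_rfl := by rw [hax, smul_add', hx, hw]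
  have hcls : g ∈ crossStab := by
    have h8 : axisVec (pt 0) 8 dvd_rfl ∈ stdSet := ⟨pt 0, 8, Or.inl rfl, rfl⟩
    rw [stdSet_eq_cls8] at h8
    rw [crossStab, MulAction.mem_stabilizer_iff, stdSet_eq_cls8, ← cls8_eq h8, smul_cls8, hg0]
  obtain ⟨σ, hσ, c, hc, rfl⟩ := exists_monoAut_of_mem hcls
  have key : ∀ p, hsU p = if p ∈ c then -hsU (σ.symm p) else hsU (σ.symm p) := fun p => by
    have h := congrFun (congrArg Subtype.val hu) p
    rw [coe_monoAut_smul] at h
    exact h.symm
  have hvals : ∀ p, hsU p = 5 ∨ hsU p = 1 := fun p => by unfold hsU; split <;> simp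
  have hc0 : c = ∅ := by
    refine Finset.eq_empty_of_forall_notMem fun p hp => ?_
    have h := key p
    rw [if_pos hp] at h
    rcases hvals p with a | a <;> rcases hvals (σ.symm p) with b | b <;> omega
  subst hc0
  have hfix : σ.symm (pt 0) = pt 0 := by
    have h := key (pt 0)
    simp only [Finset.notMem_empty, if_false, hsU, if_true] at h
    by_contra hne
    rw [if_neg hne] at h
    omega
  have hfix1 : σ.symm (pt 1) = pt 1 := by
    have h := congrFun (congrArg Subtype.val hx) (pt 1)
    rw [coe_monoAut_smul] at h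
    have h' : (if pt 1 ∈ (∅ : Finset GolayPt) then -base32 (σ.symm (pt 1)) else base32 (σ.symm (pt 1))) =
      base32 (pt 1) := h
    simp only [Finset.notMem_empty, if_false] at h'
    have h01 : σ.symm (pt 1) ≠ pt 0 := fun e => absurd (σ.symm.injective (e.trans hfix.symm)) (by decide +kernel)
    by_contra hne
    simp [base32, h01, hne] at h'
  refine ⟨σ, hσ, (σ.symm_apply_eq.1 hfix).symm, (σ.symm_apply_eq.1 hfix1).symm, co_ext fun v => ?_⟩
  refine Subtype.ext (funext fun p => ?_)
  rw [coe_monoAut_smul, coe_permAut_smul]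
  show (if p ∈ (∅ : Finset GolayPt) then _ else _) = _
  rw [if_neg (Finset.notMem_empty p)]
  rfl

theorem numHom_injective : Function.Injective numHom := by
  rw [← MonoidHom.ker_eq_bot_iff, eq_bot_iff]
  intro g hg
  rw [Subgroup.mem_bot]
  have hfix : ∀ i, g.val • hundred i = hundred i := fun i => by
    rw [← numHom_spec, MonoidHom.mem_ker.1 hg]; rfl
  obtain ⟨h1, h2⟩ := mem_pairStab.1 g.2
  obtain ⟨σ, hσ, s0, s1, hgσ⟩ := triple_stab h1 h2 (hundred_zero ▸ hfix 0)
  have hσ1 : σ = 1 := by
    refine Equiv.ext fun p => ?_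
    show σ p = p
    by_contra hne
    have hp0 : p ≠ pt 0 := fun e => hne (by rw [e, s0])
    have hp1 : p ≠ pt 1 := fun e => hne (by rw [e, s1])
    have two : ∀ q : GolayPt, q ≠ pt 0 → q ≠ pt 1 → 2 ≤ (ptEquiv q).val := by decide +kernel
    have hq0 : σ p ≠ pt 0 := fun e => hp0 (σ.injective (e.trans s0.symm))
    have hq1 : σ p ≠ pt 1 := fun e => hp1 (σ.injective (e.trans s1.symm))
    obtain ⟨t, ht, htne⟩ := vec_separate (ptEquiv (σ p)) (ptEquiv p) (two _ hq0 hq1) (two _ hp0 hp1)
      (fun e => hne (ptEquiv.injective e))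
    obtain ⟨n, hn, rfl⟩ := List.mem_iff_getElem.1 ht
    have hn' : n < 100 := vec_gram.1 ▸ hn
    have h := congrFun (congrArg Subtype.val (hfix ⟨n, hn'⟩)) (σ p)
    rw [hgσ, coe_permAut_smul] at h
    have h' : toFn (vecs.getD n (0, 0, [])).2.2 (σ.symm (σ p)) = toFn (vecs.getD n (0, 0, [])).2.2 (σ p) := h
    rw [σ.symm_apply_apply, List.getD_eq_getElem _ _ hn] at h'
    exact htne h'.symm
  subst hσ1
  refine Subtype.ext (co_ext fun v => Subtype.ext (funext fun p => ?_))
  rw [hgσ, coe_permAut_smul, Subgroup.coe_one, one_smul]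
  rfl

theorem card_pairStab : Nat.card pairStab = 44352000 := by
  have horb : MulAction.orbit pairStab stdV = hundredSet := by
    ext x
    constructor
    · rintro ⟨g, rfl⟩
      obtain ⟨j, hj⟩ := smul_hundred g 0
      show g.val • stdV ∈ _
      rw [← hundred_zero, ← hj]
      exact hundred_mem j
    · rintro ⟨a, b, c⟩
      have hw0 : (stdU + pairW : leechLattice) = stdW := by rw [pairW]; abel
      have hW : sqNorm (pairW : GolayPt → ℤ) = 48 ∧ dotInt (stdU : GolayPt → ℤ) pairW = -32 ∧
          dotInt (pairW : GolayPt → ℤ) (stdV : GolayPt → ℤ) = -24 := by decide +kernel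
      have hcx : dotInt (pairW : GolayPt → ℤ) x = -24 := by
        have h : dotInt ((stdU + pairW : leechLattice) : GolayPt → ℤ) x = 0 := by rw [hw0]; exact c
        rw [AddSubgroup.coe_add, dotInt_comm, dotInt_add_right, dotInt_comm, b, dotInt_comm] at h
        omega
      obtain ⟨g, h1, h2, h3⟩ := exists_map_triple
        (exists_triple_hs (v := stdU) (w := pairW) (x := stdV) std_dots.1 hW.1 hW.2.1 std_dots.2.1
          std_dots.2.2.2.2.1 hW.2.2)
        (exists_triple_hs std_dots.1 hW.1 hW.2.1 a b hcx)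
      rw [hw0] at h2
      exact ⟨⟨g, mem_pairStab.2 ⟨h3, h2⟩⟩, h1⟩
  have hst : Nat.card (MulAction.stabilizer pairStab stdV) = 443520 := by
    rw [← card_stabTwo]
    have hmem : ∀ k : stabTwo, permAut k.val k.2.1 ∈ pairStab ∧ permAut k.val k.2.1 • stdV = stdV := by
      intro k
      have h0 : k.val.symm (pt 0) = pt 0 := k.val.symm_apply_eq.2 (k.2.2 (pt 0) (by rw [ptEquiv_pt (by omega)]; simp)).symm
      have h1 : k.val.symm (pt 1) = pt 1 := k.val.symm_apply_eq.2 (k.2.2 (pt 1) (by rw [ptEquiv_pt (by omega)]; simp)).symm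
      have hp : ∀ q : GolayPt, (k.val.symm q = pt 0 ↔ q = pt 0) ∧ (k.val.symm q = pt 1 ↔ q = pt 1) := fun q =>
        ⟨by conv_lhs => rw [← h0]; rw [k.val.symm.injective.eq_iff],
          by conv_lhs => rw [← h1]; rw [k.val.symm.injective.eq_iff]⟩
      refine ⟨mem_pairStab.2 ⟨?_, ?_⟩, ?_⟩ <;> refine Subtype.ext (funext fun q => ?_) <;> rw [coe_permAut_smul]
      · show hsU (k.val.symm q) = hsU q
        simp only [hsU, hp q]
      · show base32neg (k.val.symm q) = base32neg q
        simp only [base32neg, hp q]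
      · show base32 (k.val.symm q) = base32 q
        simp only [base32, hp q]
    let F : stabTwo → MulAction.stabilizer pairStab stdV := fun k => ⟨⟨_, (hmem k).1⟩, (hmem k).2⟩
    refine (Nat.card_congr (Equiv.ofBijective F ⟨fun a b e => ?_, fun g => ?_⟩)).symm
    · have e' : permAut a.val a.2.1 = permAut b.val b.2.1 := congrArg (fun z => z.val.val) e
      refine Subtype.ext (Equiv.ext fun p => ?_)
      by_contra hne
      have h := congrArg (fun g : Co0 => ((g • axisVec p 8 dvd_rfl : leechLattice) : GolayPt → ℤ) (a.val p)) e'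
      simp only [coe_permAut_smul, coe_axisVec] at h
      have h' : (Pi.single p 8 : GolayPt → ℤ) (a.val.symm (a.val p)) =
          (Pi.single p 8 : GolayPt → ℤ) (b.val.symm (a.val p)) := h
      rw [a.val.symm_apply_apply, Pi.single_eq_same,
        Pi.single_eq_of_ne (fun e => hne (b.val.symm_apply_eq.1 e))] at h'
      omega
    · obtain ⟨h1, h2⟩ := mem_pairStab.1 g.val.2
      obtain ⟨σ, hσ, s0, s1, hgσ⟩ := triple_stab h1 h2 g.2
      refine ⟨⟨σ, hσ, fun q hq => ?_⟩, Subtype.ext (Subtype.ext hgσ.symm)⟩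
      simp only [List.mem_cons, List.not_mem_nil, or_false] at hq
      rcases hq with hq | hq
      · rw [show q = pt 0 by rw [← pt_ptEquiv q, hq]]; exact s0
      · rw [show q = pt 1 by rw [← pt_ptEquiv q, hq]]; exact s1
  have h := (MulAction.stabilizer pairStab stdV).index_mul_card
  have hn : hundredSet.ncard = 100 := ncard_hsPair std_dots.1 std_dots.2.2.1 std_dots.2.2.2.2.2.1
  rw [MulAction.index_stabilizer, horb, hn, hst] at h
  omega

theorem index_two_eq {K : Subgroup (Equiv.Perm (Fin 100))} (hle : K ≤ HS.graphAut) (hc : Nat.card K = 44352000) :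
    K = HS.hsGroup := by
  have hH : HS.hsGroup ≤ HS.graphAut := inf_le_left
  have hidx : ∀ A : Subgroup (Equiv.Perm (Fin 100)), A ≤ HS.graphAut → Nat.card A = 44352000 →
      (A.subgroupOf HS.graphAut).index = 2 := fun A hA hAc => by
    have h := (A.subgroupOf HS.graphAut).index_mul_card
    rw [Nat.card_congr (Subgroup.subgroupOfEquivOfLe hA).toEquiv, hAc, HS.card_graphAut] at h
    omega
  have : (K.subgroupOf HS.graphAut).Normal := Subgroup.normal_of_index_eq_two (hidx K hle hc)
  have hN : (K.subgroupOf HS.hsGroup).Normal := by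
    constructor
    intro n hn g
    exact this.conj_mem ⟨n.val, hH n.2⟩ hn ⟨g.val, hH g.2⟩
  have := HS.hs_simple
  rcases hN.eq_bot_or_eq_top with h | h
  · exfalso
    let f : K × HS.hsGroup → HS.graphAut := fun z => ⟨z.1.val * z.2.val, mul_mem (hle z.1.2) (hH z.2.2)⟩
    have hf : Function.Injective f := by
      intro x y e
      have e' : x.1.val * x.2.val = y.1.val * y.2.val := congrArg Subtype.val e
      have h1 : x.2.val * y.2.val⁻¹ = x.1.val⁻¹ * y.1.val := by
        rw [eq_inv_mul_iff_mul_eq, ← mul_assoc, e', mul_inv_cancel_right]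
      have hmem : (⟨x.2.val * y.2.val⁻¹, mul_mem x.2.2 (inv_mem y.2.2)⟩ : HS.hsGroup) ∈ K.subgroupOf HS.hsGroup := by
        rw [Subgroup.mem_subgroupOf]
        show x.2.val * y.2.val⁻¹ ∈ K
        rw [h1]
        exact mul_mem (inv_mem x.1.2) y.1.2
      rw [h, Subgroup.mem_bot] at hmem
      have h2 : x.2.val = y.2.val := mul_inv_eq_one.1 (congrArg Subtype.val hmem)
      rw [h2] at e'
      exact Prod.ext (Subtype.ext (mul_right_cancel e')) (Subtype.ext h2)
    have hcard := Nat.card_le_card_of_injective f hf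
    rw [Nat.card_prod, hc, HS.card_hsGroup, HS.card_graphAut] at hcard
    omega
  · refine (Subgroup.eq_of_le_of_card_ge (Subgroup.subgroupOf_eq_top.1 h) ?_).symm
    rw [hc, HS.card_hsGroup]

theorem range_numHom : numHom.range = HS.hsGroup := by
  refine index_two_eq ?_ ?_
  · rintro _ ⟨g, rfl⟩
    exact numHom_mem g
  · rw [← Nat.card_congr (MonoidHom.ofInjective numHom_injective).toEquiv, card_pairStab]

theorem pairStab_equiv : Nonempty (pairStab ≃* HS.hsGroup) :=
  ⟨(MonoidHom.ofInjective numHom_injective).trans (MulEquiv.subgroupCongr range_numHom)⟩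

/-- Any Higman–Sims pair has stabiliser isomorphic to the group of the graph. -/
theorem stab_equiv_graph {v w : leechLattice} (hv : sqNorm (v : GolayPt → ℤ) = 48)
    (hw : sqNorm (w : GolayPt → ℤ) = 48) (hvw : dotInt (v : GolayPt → ℤ) w = -32) :
    Nonempty (↥(MulAction.stabilizer Co0 v ⊓ MulAction.stabilizer Co0 w) ≃* HS.hsGroup) := by
  have hy : sqNorm ((v + w : leechLattice) : GolayPt → ℤ) = 32 := by
    rw [AddSubgroup.coe_add, sqNorm_add, hv, hw, hvw]; norm_num
  have hd : dotInt (v : GolayPt → ℤ) ((v + w : leechLattice) : GolayPt → ℤ) = 16 := by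
    rw [AddSubgroup.coe_add, dotInt_add_right, dotInt_self, hv, hvw]; norm_num
  obtain ⟨g, h1, h2⟩ := exists_map_pair (exists_pair48 hv hy hd)
    (exists_pair48 (u := stdU) (x := stdW) std_dots.1 std_dots.2.2.1 std_dots.2.2.2.2.2.1)
  have hgw : g • w = pairW := by
    rw [pairW, ← h2, ← h1, ← smul_sub', add_sub_cancel_left]
  have e : pairStab.map (MulAut.conj g⁻¹).toMonoidHom = MulAction.stabilizer Co0 v ⊓ MulAction.stabilizer Co0 w := by
    ext x
    rw [Subgroup.mem_map]
    constructor
    · rintro ⟨y, ⟨y1, y2⟩, rfl⟩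
      have z1 : y • stdU = stdU := y1
      have z2 : y • pairW = pairW := y2
      refine ⟨?_, ?_⟩
      · show (g⁻¹ * y * g⁻¹⁻¹) • v = v
        rw [inv_inv, mul_smul, mul_smul, h1, z1, ← h1, inv_smul_smul]
      · show (g⁻¹ * y * g⁻¹⁻¹) • w = w
        rw [inv_inv, mul_smul, mul_smul, hgw, z2, ← hgw, inv_smul_smul]
    · rintro ⟨x1, x2⟩
      have z1 : x • v = v := x1
      have z2 : x • w = w := x2
      refine ⟨g * x * g⁻¹, ⟨?_, ?_⟩, ?_⟩
      · show (g * x * g⁻¹) • stdU = stdU
        rw [mul_smul, mul_smul, ← h1, inv_smul_smul, z1]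
      · show (g * x * g⁻¹) • pairW = pairW
        rw [mul_smul, mul_smul, ← hgw, inv_smul_smul, z2]
      · show g⁻¹ * (g * x * g⁻¹) * g⁻¹⁻¹ = x
        group
  obtain ⟨φ⟩ := pairStab_equiv
  exact ⟨((MulEquiv.subgroupCongr e.symm).trans ((MulAut.conj g⁻¹).subgroupMap pairStab).symm).trans φ⟩

end CfsgLib.Leech.HSVec
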