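import Cfsg.Agent.Lib.Leech.Configs

/-!
# An involution moving all hundred vectors of the Higman–Sims configuration
-/

set_option autoImplicit false

namespace CfsgLib.Leech

open Cfsg CfsgLib.Golay CfsgLib.Leech.Count

/-- The images of the points under the involution. -/
def hsInvList : List ℕ :=
  [2, 12, 0, 4, 3, 5, 6, 10, 23, 21, 7, 18, 1, 13, 16, 15, 14, 17, 11, 19, 20, 9, 22, 8]

/-- A part of the hundred vectors, each with its parity and its code word. -/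
def hsPart0 : List (ℕ × ℕ × List ℤ) :=
  [
    (1, 15515712, [-3,1,1,1,1,1,-1,1,1,1,1,1,1,1,-1,-1,1,1,-1,-1,1,-1,-1,-1]),
    (1, 2854977, [-1,1,1,1,1,1,-1,1,1,1,1,1,3,1,1,-1,-1,-1,1,-1,1,-1,1,1]),
    (1, 6447171, [-1,3,1,1,1,1,-1,1,1,1,1,1,1,-1,-1,1,1,-1,1,1,1,-1,-1,1]),
    (1, 16719941, [-1,1,3,1,1,1,-1,1,1,1,1,1,1,-1,1,1,-1,-1,-1,-1,-1,-1,-1,-1]),
    (1, 4563017, [-1,1,1,3,1,1,-1,1,1,1,1,1,1,-1,1,-1,-1,1,-1,1,1,1,-1,1]),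
    (1, 11575377, [-1,1,1,1,3,1,-1,1,1,1,1,1,1,-1,1,-1,1,1,1,1,-1,-1,1,-1]),
    (1, 9929280, [-3,1,1,1,1,1,-1,1,1,-1,1,1,1,1,1,-1,-1,-1,-1,1,-1,1,1,-1]),
    (1, 5296705, [-1,1,1,1,1,1,-1,1,1,-1,1,1,3,1,-1,-1,1,1,1,1,-1,1,-1,1]),
    (1, 1647171, [-1,3,1,1,1,1,-1,1,1,-1,1,1,1,-1,1,1,-1,1,1,-1,-1,1,1,1]),
    (1, 8675909, [-1,1,3,1,1,1,-1,1,1,-1,1,1,1,-1,-1,1,1,1,-1,1,1,1,1,-1])]

/-- A part of the hundred vectors, each with its parity and its code word. -/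
def hsPart1 : List (ℕ × ℕ × List ℤ) :=
  [
    (1, 4121161, [-1,1,1,3,1,1,-1,1,1,-1,1,1,1,-1,-1,-1,1,-1,-1,-1,-1,-1,1,1]),
    (1, 13361745, [-1,1,1,1,3,1,-1,1,1,-1,1,1,1,-1,-1,-1,-1,-1,1,-1,1,1,-1,-1]),
    (1, 10110017, [-1,1,1,1,1,1,-1,1,1,1,3,1,1,1,-1,1,1,-1,1,-1,-1,1,1,-1]),
    (1, 14747201, [-1,1,1,1,1,1,-1,1,1,-1,3,1,1,1,1,1,-1,1,1,1,1,-1,-1,-1]),
    (0, 45159, [-2,2,2,0,0,2,-2,0,0,0,0,0,2,2,0,2,0,0,0,0,0,0,0,0]),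
    (0, 45159, [-2,2,2,0,0,2,-2,0,0,0,0,0,2,-2,0,-2,0,0,0,0,0,0,0,0]),
    (0, 2162811, [-2,2,0,2,2,2,-2,0,0,0,0,0,0,0,0,0,2,0,0,0,0,2,0,0]),
    (0, 2162811, [-2,2,0,2,2,2,-2,0,0,0,0,0,0,0,0,0,-2,0,0,0,0,-2,0,0]),
    (0, 21116, [0,0,2,2,2,2,-2,0,0,-2,0,0,2,0,2,0,0,0,0,0,0,0,0,0]),
    (0, 21116, [0,0,2,2,2,2,-2,0,0,2,0,0,2,0,-2,0,0,0,0,0,0,0,0,0])]

/-- A part of the hundred vectors, each with its parity and its code word. -/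
def hsPart2 : List (ℕ × ℕ × List ℤ) :=
  [
    (0, 4330601, [-2,0,0,2,0,2,-2,0,0,0,2,0,2,0,0,0,0,2,0,0,0,0,2,0]),
    (0, 4330601, [-2,0,0,2,0,2,-2,0,0,0,2,0,2,0,0,0,0,-2,0,0,0,0,-2,0]),
    (0, 1573998, [0,2,2,2,0,2,-2,0,0,0,2,0,0,0,0,0,0,0,0,-2,2,0,0,0]),
    (0, 1573998, [0,2,2,2,0,2,-2,0,0,0,2,0,0,0,0,0,0,0,0,2,-2,0,0,0]),
    (0, 5279, [2,2,2,2,2,0,0,2,0,0,2,0,2,0,0,0,0,0,0,0,0,0,0,0]),
    (0, 5279, [-2,-2,2,2,2,0,0,2,0,0,2,0,2,0,0,0,0,0,0,0,0,0,0,0]),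
    (0, 5279, [-2,2,-2,2,2,0,0,2,0,0,2,0,2,0,0,0,0,0,0,0,0,0,0,0]),
    (0, 5279, [-2,2,2,-2,2,0,0,2,0,0,2,0,2,0,0,0,0,0,0,0,0,0,0,0]),
    (0, 5279, [-2,2,2,2,-2,0,0,2,0,0,2,0,2,0,0,0,0,0,0,0,0,0,0,0]),
    (0, 5279, [-2,2,2,2,2,0,0,-2,0,0,2,0,2,0,0,0,0,0,0,0,0,0,0,0])]

/-- A part of the hundred vectors, each with its parity and its code word. -/
def hsPart3 : List (ℕ × ℕ × List ℤ) :=
  [
    (0, 5279, [-2,2,2,2,2,0,0,2,0,0,-2,0,2,0,0,0,0,0,0,0,0,0,0,0]),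
    (0, 5279, [-2,2,2,2,2,0,0,2,0,0,2,0,-2,0,0,0,0,0,0,0,0,0,0,0]),
    (1, 3489985, [-1,1,1,1,1,1,-1,3,1,1,1,1,1,1,-1,1,-1,1,-1,1,-1,-1,1,1]),
    (1, 5112513, [-1,1,1,1,1,1,-1,3,1,-1,1,1,1,1,1,1,1,-1,-1,-1,1,1,-1,1]),
    (0, 1577201, [-2,0,0,0,2,2,-2,2,0,0,0,0,2,0,0,0,0,0,0,2,2,0,0,0]),
    (0, 1577201, [-2,0,0,0,2,2,-2,2,0,0,0,0,2,0,0,0,0,0,0,-2,-2,0,0,0]),
    (0, 4325622, [0,2,2,0,2,2,-2,2,0,0,0,0,0,0,0,0,0,-2,0,0,0,0,2,0]),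
    (0, 4325622, [0,2,2,0,2,2,-2,2,0,0,0,0,0,0,0,0,0,2,0,0,0,0,-2,0]),
    (0, 2168036, [0,0,2,0,0,2,-2,2,0,0,2,0,2,0,0,0,-2,0,0,0,0,2,0,0]),
    (0, 2168036, [0,0,2,0,0,2,-2,2,0,0,2,0,2,0,0,0,2,0,0,0,0,-2,0,0])]

/-- A part of the hundred vectors, each with its parity and its code word. -/
def hsPart4 : List (ℕ × ℕ × List ℤ) :=
  [
    (0, 42232, [0,0,0,2,2,2,-2,2,0,0,2,0,0,-2,0,2,0,0,0,0,0,0,0,0]),
    (0, 42232, [0,0,0,2,2,2,-2,2,0,0,2,0,0,2,0,-2,0,0,0,0,0,0,0,0]),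
    (0, 18147, [-2,2,0,0,0,2,-2,2,0,2,2,0,0,0,2,0,0,0,0,0,0,0,0,0]),
    (0, 18147, [-2,2,0,0,0,2,-2,2,0,-2,2,0,0,0,-2,0,0,0,0,0,0,0,0,0]),
    (1, 13721920, [-3,1,1,1,1,1,-1,1,-1,1,1,1,1,-1,-1,1,-1,1,1,1,-1,1,-1,-1]),
    (1, 1454401, [-1,1,1,1,1,1,-1,1,-1,1,1,1,3,-1,1,1,1,-1,-1,1,-1,1,1,1]),
    (1, 6275395, [-1,3,1,1,1,1,-1,1,-1,1,1,1,1,1,-1,-1,-1,-1,-1,-1,-1,1,-1,1]),
    (1, 12747077, [-1,1,3,1,1,1,-1,1,-1,1,1,1,1,1,1,-1,1,-1,1,1,1,1,-1,-1]),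
    (1, 7864649, [-1,1,1,3,1,1,-1,1,-1,1,1,1,1,1,1,1,1,1,1,-1,-1,-1,-1,1]),
    (1, 9240913, [-1,1,1,1,3,1,-1,1,-1,1,1,1,1,1,1,1,-1,1,-1,-1,1,1,1,-1])]

/-- A part of the hundred vectors, each with its parity and its code word. -/
def hsPart5 : List (ℕ × ℕ × List ℤ) :=
  [
    (1, 11150144, [-3,1,1,1,1,1,-1,1,-1,-1,1,1,1,-1,1,1,1,-1,1,-1,1,-1,1,-1]),
    (1, 7172929, [-1,1,1,1,1,1,-1,1,-1,-1,1,1,3,-1,-1,1,-1,1,-1,-1,1,-1,-1,1]),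
    (1, 2392899, [-1,3,1,1,1,1,-1,1,-1,-1,1,1,1,1,1,-1,1,1,-1,1,1,-1,1,1]),
    (1, 12174149, [-1,1,3,1,1,1,-1,1,-1,-1,1,1,1,1,-1,-1,-1,1,1,-1,-1,-1,1,-1]),
    (1, 213833, [-1,1,1,3,1,1,-1,1,-1,-1,1,1,1,1,-1,1,-1,-1,1,1,1,1,1,1]),
    (1, 16139089, [-1,1,1,1,3,1,-1,1,-1,-1,1,1,1,1,-1,1,1,-1,-1,1,-1,-1,-1,-1]),
    (1, 11003201, [-1,1,1,1,1,1,-1,1,-1,1,3,1,1,-1,-1,-1,-1,-1,-1,1,1,-1,1,-1]),
    (1, 14460737, [-1,1,1,1,1,1,-1,1,-1,-1,3,1,1,-1,1,-1,1,1,-1,-1,-1,1,-1,-1]),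
    (0, 267634, [0,2,0,0,2,2,-2,0,-2,0,2,0,2,0,0,0,0,0,2,0,0,0,0,0]),
    (0, 267634, [0,2,0,0,2,2,-2,0,2,0,2,0,2,0,0,0,0,0,-2,0,0,0,0,0])]

/-- A part of the hundred vectors, each with its parity and its code word. -/
def hsPart6 : List (ℕ × ℕ × List ℤ) :=
  [
    (1, 582081, [-1,1,1,1,1,1,-1,3,-1,1,1,1,1,-1,-1,-1,1,1,1,-1,1,1,1,1]),
    (1, 7578561, [-1,1,1,1,1,1,-1,3,-1,-1,1,1,1,-1,1,-1,-1,-1,1,1,-1,-1,-1,1]),
    (0, 262637, [-2,0,2,2,0,2,-2,2,2,0,0,0,0,0,0,0,0,0,2,0,0,0,0,0]),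
    (0, 262637, [-2,0,2,2,0,2,-2,2,-2,0,0,0,0,0,0,0,0,0,-2,0,0,0,0,0]),
    (1, 1009728, [-3,1,1,1,1,1,-1,1,1,1,1,-1,1,-1,-1,1,-1,-1,-1,-1,1,1,1,1]),
    (1, 13121601, [-1,1,1,1,1,1,-1,1,1,1,1,-1,3,-1,1,1,1,1,1,-1,1,1,-1,-1]),
    (1, 8505411, [-1,3,1,1,1,1,-1,1,1,1,1,-1,1,1,-1,-1,-1,1,1,1,1,1,1,-1]),
    (1, 1869893, [-1,1,3,1,1,1,-1,1,1,1,1,-1,1,1,1,-1,1,1,-1,-1,-1,1,1,1]),
    (1, 10881097, [-1,1,1,3,1,1,-1,1,1,1,1,-1,1,1,1,1,1,-1,-1,1,1,-1,1,-1]),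
    (1, 5441617, [-1,1,1,1,3,1,-1,1,1,1,1,-1,1,1,1,1,-1,-1,1,1,-1,1,-1,1])]

/-- A part of the hundred vectors, each with its parity and its code word. -/
def hsPart7 : List (ℕ × ℕ × List ℤ) :=
  [
    (1, 7612992, [-3,1,1,1,1,1,-1,1,1,-1,1,-1,1,-1,1,1,1,1,-1,1,-1,-1,-1,1]),
    (1, 11762241, [-1,1,1,1,1,1,-1,1,1,-1,1,-1,3,-1,-1,1,-1,-1,1,1,-1,-1,1,-1]),
    (1, 16419395, [-1,3,1,1,1,1,-1,1,1,-1,1,-1,1,1,1,-1,1,-1,1,-1,-1,-1,-1,-1]),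
    (1, 6801989, [-1,1,3,1,1,1,-1,1,1,-1,1,-1,1,1,-1,-1,-1,-1,-1,1,1,-1,-1,1]),
    (1, 14502473, [-1,1,1,3,1,1,-1,1,1,-1,1,-1,1,1,-1,1,-1,1,-1,-1,-1,1,-1,-1]),
    (1, 2640465, [-1,1,1,1,3,1,-1,1,1,-1,1,-1,1,1,-1,1,1,1,1,-1,1,-1,1,1]),
    (1, 7990337, [-1,1,1,1,1,1,-1,1,1,1,3,-1,1,-1,-1,-1,-1,1,1,-1,-1,-1,-1,1]),
    (1, 175681, [-1,1,1,1,1,1,-1,1,1,-1,3,-1,1,-1,1,-1,1,-1,1,1,1,1,1,1]),
    (0, 8391797, [-2,0,2,0,2,2,-2,0,0,0,2,2,0,0,0,0,0,0,0,0,0,0,0,2]),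
    (0, 8391797, [-2,0,2,0,2,2,-2,0,0,0,2,-2,0,0,0,0,0,0,0,0,0,0,0,-2])]

/-- A part of the hundred vectors, each with its parity and its code word. -/
def hsPart8 : List (ℕ × ℕ × List ℤ) :=
  [
    (1, 14084289, [-1,1,1,1,1,1,-1,3,1,1,1,-1,1,-1,-1,-1,1,-1,-1,1,-1,1,-1,-1]),
    (1, 11381441, [-1,1,1,1,1,1,-1,3,1,-1,1,-1,1,-1,1,-1,-1,1,-1,-1,1,-1,1,-1]),
    (0, 8394986, [0,2,0,2,0,2,-2,2,0,0,0,-2,2,0,0,0,0,0,0,0,0,0,0,2]),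
    (0, 8394986, [0,2,0,2,0,2,-2,2,0,0,0,2,2,0,0,0,0,0,0,0,0,0,0,-2]),
    (1, 3328320, [-3,1,1,1,1,1,-1,1,-1,1,1,-1,1,1,-1,-1,1,-1,1,1,-1,-1,1,1]),
    (1, 16095553, [-1,1,1,1,1,1,-1,1,-1,1,1,-1,3,1,1,-1,-1,1,-1,1,-1,-1,-1,-1]),
    (1, 12347715, [-1,3,1,1,1,1,-1,1,-1,1,1,-1,1,-1,-1,1,1,1,-1,-1,-1,-1,1,-1]),
    (1, 2173253, [-1,1,3,1,1,1,-1,1,-1,1,1,-1,1,-1,1,1,-1,1,1,1,1,-1,1,1]),
    (1, 10201417, [-1,1,1,3,1,1,-1,1,-1,1,1,-1,1,-1,1,-1,-1,-1,1,-1,-1,1,1,-1]),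
    (1, 7252305, [-1,1,1,1,3,1,-1,1,-1,1,1,-1,1,-1,1,-1,1,-1,-1,-1,1,-1,-1,1])]

/-- A part of the hundred vectors, each with its parity and its code word. -/
def hsPart9 : List (ℕ × ℕ × List ℤ) :=
  [
    (1, 4819776, [-3,1,1,1,1,1,-1,1,-1,-1,1,-1,1,1,1,-1,-1,1,1,-1,1,1,-1,1]),
    (1, 9362241, [-1,1,1,1,1,1,-1,1,-1,-1,1,-1,3,1,-1,-1,1,-1,-1,-1,1,1,1,-1]),
    (1, 13052739, [-1,3,1,1,1,1,-1,1,-1,-1,1,-1,1,-1,1,1,-1,-1,-1,1,1,1,-1,-1]),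
    (1, 5925701, [-1,1,3,1,1,1,-1,1,-1,-1,1,-1,1,-1,-1,1,1,-1,1,-1,-1,1,-1,1]),
    (1, 14740297, [-1,1,1,3,1,1,-1,1,-1,-1,1,-1,1,-1,-1,-1,1,1,1,1,1,-1,-1,-1]),
    (1, 1436497, [-1,1,1,1,3,1,-1,1,-1,-1,1,-1,1,-1,-1,-1,-1,1,-1,1,-1,1,1,1]),
    (1, 4476225, [-1,1,1,1,1,1,-1,1,-1,1,3,-1,1,1,-1,1,1,1,-1,1,1,1,-1,1]),
    (1, 4132673, [-1,1,1,1,1,1,-1,1,-1,-1,3,-1,1,1,1,1,-1,-1,-1,-1,-1,-1,1,1]),
    (1, 15419841, [-1,1,1,1,1,1,-1,3,-1,1,1,-1,1,1,-1,1,-1,-1,1,-1,1,-1,-1,-1]),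
    (1, 9440193, [-1,1,1,1,1,1,-1,3,-1,-1,1,-1,1,1,1,1,1,1,1,1,-1,1,1,-1])]

/-- The hundred vectors, each with its parity and its code word. -/
def hsVectors : List (ℕ × ℕ × List ℤ) :=
  hsPart0 ++ hsPart1 ++ hsPart2 ++ hsPart3 ++ hsPart4 ++ hsPart5 ++ hsPart6 ++ hsPart7 ++ hsPart8 ++ hsPart9

/-- A list of entries as a coordinate vector. -/
def ofEntries (l : List ℤ) : GolayPt → ℤ := fun p => l.getD (ptEquiv p).val 0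

theorem hsVectors_nodup : (hsVectors.map fun t => t.2.2).Nodup ∧ hsVectors.length = 100 ∧
    (∀ t ∈ hsVectors, t.2.2.length = 24) := by
  decide +kernel

theorem hsVectors_ok : ∀ t ∈ hsVectors, t.1 ≤ 1 ∧ inCode t.2.1 = true ∧
    (∀ p, ofEntries t.2.2 p % 4 = (res t.1 (t.2.1.testBit (ptEquiv p).val) : ℤ)) ∧
    (∑ p, (ofEntries t.2.2 p : ZMod 8)) = ((4 * t.1 : ℕ) : ZMod 8) ∧
    sqNorm (ofEntries t.2.2) = 32 ∧ dotInt base48 (ofEntries t.2.2) = 24 ∧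
    dotInt pair48x (ofEntries t.2.2) = 0 := by
  decide +kernel

theorem hsVectors_moved : ∀ t ∈ hsVectors, ∃ p,
    (if (1302533 : ℕ).testBit (ptEquiv (pt (hsInvList.getD (ptEquiv p).val 0))).val
      then -ofEntries t.2.2 p else ofEntries t.2.2 p) ≠
      ofEntries t.2.2 (pt (hsInvList.getD (ptEquiv p).val 0)) := by
  decide +kernel

theorem hsInv_facts : m24Test hsInvList = true ∧
    (∀ p, pt (hsInvList.getD (ptEquiv (pt (hsInvList.getD (ptEquiv p).val 0))).val 0) = p) ∧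
    (∀ p, (1302533 : ℕ).testBit (ptEquiv (pt (hsInvList.getD (ptEquiv p).val 0))).val =
      (1302533 : ℕ).testBit (ptEquiv p).val) ∧
    inCode 1302533 = true ∧
    (∀ p, (if (1302533 : ℕ).testBit (ptEquiv p).val then
        -base48 (pt (hsInvList.getD (ptEquiv p).val 0)) else base48 (pt (hsInvList.getD (ptEquiv p).val 0))) =
      base48 p) ∧
    (∀ p, (if (1302533 : ℕ).testBit (ptEquiv p).val then
        -pair48x (pt (hsInvList.getD (ptEquiv p).val 0)) else pair48x (pt (hsInvList.getD (ptEquiv p).val 0))) =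
      pair48x p) ∧
    hsInvList.getD 0 0 = 2 := by
  decide +kernel

theorem exists_hs_invol : ∃ g : Co0, orderOf g = 2 ∧
    (∀ z : leechLattice, (z : GolayPt → ℤ) = base48 ∨ (z : GolayPt → ℤ) = pair48x → g • z = z) ∧
    ∀ x : leechLattice, sqNorm (x : GolayPt → ℤ) = 32 → dotInt base48 x = 24 →
      dotInt pair48x x = 0 → g • x ≠ x := by
  classical
  obtain ⟨hT, hinv, hcinv, hcode, hv, hy, h02⟩ := hsInv_facts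
  set σ := permOf ptEquiv hsInvList with hσdef
  have hval : validL 24 hsInvList = true := by
    simp only [m24Test, Bool.and_eq_true] at hT; exact hT.1
  have happ : ∀ p, σ p = pt (hsInvList.getD (ptEquiv p).val 0) := fun p =>
    (pt_ptEquiv _).symm.trans (congrArg pt (permOf_apply ptEquiv hval p))
  simp only [← happ] at hinv hcinv hv hy
  have hsymm : ∀ p, σ.symm p = σ p := fun p => σ.symm_apply_eq.2 (hinv p).symm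
  have hc : CodeSet (toSet 1302533) := mem_supports.2 ⟨_, mem_golayList_of_inCode hcode, rfl⟩
  refine ⟨monoAut σ (mem_M24_of_test hT) _ hc, ?_, ?_, ?_⟩
  · refine orderOf_eq_prime ?_ ?_
    · refine co_ext fun z => Subtype.ext (funext fun p => ?_)
      rw [pow_two, mul_smul, one_smul, coe_monoAut_smul, coe_monoAut_smul]
      show (if p ∈ toSet 1302533 then -(if σ.symm p ∈ toSet 1302533 then -(z : GolayPt → ℤ) (σ.symm (σ.symm p))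
          else (z : GolayPt → ℤ) (σ.symm (σ.symm p))) else (if σ.symm p ∈ toSet 1302533 then
          -(z : GolayPt → ℤ) (σ.symm (σ.symm p)) else (z : GolayPt → ℤ) (σ.symm (σ.symm p)))) = _
      simp only [hsymm, hinv, mem_toSet, hcinv]
      split <;> simp
    · intro h
      have hmov : σ (pt 0) = pt 2 := by
        rw [happ, ptEquiv_pt (by omega), h02]
      have e := congrArg (fun g : Co0 => ((g • axisVec (pt 0) 8 dvd_rfl : leechLattice) : GolayPt → ℤ) (pt 2)) h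
      simp only [coe_monoAut_smul, one_smul, coe_axisVec, signedPerm_single, hmov, Pi.single_eq_same] at e
      rw [Pi.single_eq_of_ne (show pt 2 ≠ pt 0 by decide +kernel)] at e
      split at e <;> norm_num at e
  · rintro z (hz | hz) <;> refine Subtype.ext (funext fun p => ?_) <;> rw [coe_monoAut_smul, hz]
    · show (if p ∈ toSet 1302533 then -base48 (σ.symm p) else base48 (σ.symm p)) = base48 p
      simp only [hsymm, mem_toSet]; exact hv p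
    · show (if p ∈ toSet 1302533 then -pair48x (σ.symm p) else pair48x (σ.symm p)) = pair48x p
      simp only [hsymm, mem_toSet]; exact hy p
  · intro x hx hxv hxy hfix
    set T := {x : GolayPt → ℤ | x ∈ leechLattice ∧ sqNorm x = 32 ∧ dotInt base48 x = 24 ∧ dotInt pair48x x = 0}
      with hTdef
    set F := ((hsVectors.map fun t => t.2.2).map ofEntries).toFinset with hF
    have hsub : (F : Set (GolayPt → ℤ)) ⊆ T := by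
      intro f hf
      simp only [hF, List.coe_toFinset, List.map_map, List.mem_map, Function.comp_apply,
        Set.mem_ofPred_eq] at hf
      obtain ⟨t, ht, rfl⟩ := hf
      obtain ⟨h1, h2, h3, h4, h5, h6, h7⟩ := hsVectors_ok t ht
      exact ⟨even_iff.2 ⟨t.1, h1, t.2.1, mem_golayList_of_inCode h2, h3, h4⟩, h5, h6, h7⟩
    have hcard : F.card = 100 := by
      rw [hF, List.toFinset_card_of_nodup, List.length_map, List.length_map, hsVectors_nodup.2.1]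
      refine hsVectors_nodup.1.map_on fun l hl l' hl' he => ?_
      obtain ⟨t, ht, rfl⟩ := List.mem_map.1 hl
      obtain ⟨t', ht', rfl⟩ := List.mem_map.1 hl'
      refine List.ext_getElem ((hsVectors_nodup.2.2 t ht).trans (hsVectors_nodup.2.2 t' ht').symm)
        fun i hi hi' => ?_
      have h24 : i < 24 := hsVectors_nodup.2.2 t ht ▸ hi
      have := congrFun he (pt i)
      simp only [ofEntries, ptEquiv_pt h24] at this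
      simpa [List.getD_eq_getElem?_getD, hi, hi'] using this
    have hN : T.ncard = 100 := by
      have hmem : base48 ∈ leechLattice ∧ pair48x ∈ leechLattice :=
        ⟨even_iff.2 ⟨0, by omega, baseOctad, mem_golayList_of_inCode (by decide +kernel), by decide +kernel,
          by decide +kernel⟩,
        even_iff.2 ⟨0, by omega, 0, mem_golayList_of_inCode (by decide +kernel), by decide +kernel,
          by decide +kernel⟩⟩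
      have h := ncard_hsPair (v := ⟨base48, hmem.1⟩) (w := ⟨pair48x, hmem.2⟩) (show sqNorm base48 = 48 by decide +kernel)
        (show sqNorm pair48x = 32 by decide +kernel) (show dotInt base48 pair48x = 16 by decide +kernel)
      rw [ncard_subtype fun x => sqNorm x = 32 ∧ dotInt base48 x = 24 ∧ dotInt pair48x x = 0] at h
      exact h
    have heq : (F : Set (GolayPt → ℤ)) = T := by
      refine Set.eq_of_subset_of_ncard_le hsub ?_ ?_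
      · rw [hN, Set.ncard_coe_finset, hcard]
      · exact Set.finite_of_ncard_ne_zero (by omega)
    have hxT : (x : GolayPt → ℤ) ∈ T := ⟨x.2, hx, hxv, hxy⟩
    rw [← heq] at hxT
    simp only [hF, List.coe_toFinset, List.map_map, List.mem_map, Function.comp_apply,
      Set.mem_ofPred_eq] at hxT
    obtain ⟨t, ht, hte⟩ := hxT
    obtain ⟨p, hp⟩ := hsVectors_moved t ht
    apply hp
    rw [← happ, hte]
    have e := congrFun (congrArg Subtype.val hfix) (σ p)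
    rw [coe_monoAut_smul] at e
    have e' : (if σ p ∈ toSet 1302533 then -(x : GolayPt → ℤ) (σ.symm (σ p))
        else (x : GolayPt → ℤ) (σ.symm (σ p))) = (x : GolayPt → ℤ) (σ p) := e
    simpa [mem_toSet] using e'

end CfsgLib.Leech
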