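import Cfsg.Agent.Lib.Leech.HSGroup

/-!
# The first two moments of the hundred vectors
-/

set_option autoImplicit false

namespace CfsgLib.Leech.HSFive

open Cfsg CfsgLib.Golay CfsgLib.Leech CfsgLib.Leech.HSVec CfsgLib.Leech.Count

/-- The sum over the hundred vectors of one entry. -/
def colSum (i : ℕ) : ℤ := (vecs.map fun t => t.2.2.getD i 0).sum

/-- The sum over the hundred vectors of a product of two entries. -/
def prodSum (i j : ℕ) : ℤ := (vecs.map fun t => t.2.2.getD i 0 * t.2.2.getD j 0).sum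

set_option maxHeartbeats 4000000 in
theorem col_table : ∀ i : Fin 24, colSum i.val = 60 * (hsU (ptEquiv.symm i)) - 30 * base32neg (ptEquiv.symm i) := by
  decide +kernel

set_option maxHeartbeats 4000000 in
theorem prod_table : ∀ i j : Fin 24, prodSum i.val j.val = (if i = j then 80 else 0) +
    34 * (hsU (ptEquiv.symm i) * hsU (ptEquiv.symm j)) -
    17 * (hsU (ptEquiv.symm i) * base32neg (ptEquiv.symm j) + base32neg (ptEquiv.symm i) * hsU (ptEquiv.symm j)) +
    6 * (base32neg (ptEquiv.symm i) * base32neg (ptEquiv.symm j)) := by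
  decide +kernel

theorem sum_list {α : Type} (l : List α) (d : α) {n : ℕ} (hl : l.length = n) (f : α → ℤ) :
    ∑ i : Fin n, f (l.getD i.val d) = (l.map f).sum := by
  rw [← List.sum_ofFn]
  congr 1
  refine List.ext_getElem (by simp [hl]) fun k h1 h2 => ?_
  rw [List.getElem_ofFn, List.getElem_map, List.getD_eq_getElem _ _ (by simpa using h2)]

theorem sum_hundred (f : ℕ × ℕ × List ℤ → ℤ) :
    ∑ i : Fin 100, f (vecs.getD i.val (0, 0, [])) = (vecs.map f).sum :=
  sum_list vecs _ vec_gram.1 f

theorem col_eq (p : GolayPt) : ∑ i : Fin 100, (hundred i : GolayPt → ℤ) p = 60 * hsU p - 30 * base32neg p := by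
  have h := col_table (ptEquiv p)
  rw [Equiv.symm_apply_apply, colSum, ← sum_hundred] at h
  exact h

theorem prod_eq (p q : GolayPt) : ∑ i : Fin 100, (hundred i : GolayPt → ℤ) p * (hundred i : GolayPt → ℤ) q =
    (if p = q then 80 else 0) + 34 * (hsU p * hsU q) - 17 * (hsU p * base32neg q + base32neg p * hsU q) +
      6 * (base32neg p * base32neg q) := by
  have h := prod_table (ptEquiv p) (ptEquiv q)
  simp only [Equiv.symm_apply_apply, ptEquiv.injective.eq_iff] at h
  rw [prodSum, ← sum_hundred] at h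
  exact h

theorem moment_one (y : GolayPt → ℤ) :
    ∑ i, dotInt (hundred i : GolayPt → ℤ) y = 60 * dotInt hsU y - 30 * dotInt base32neg y := by
  simp only [dotInt]
  rw [Finset.sum_comm, Finset.mul_sum, Finset.mul_sum, ← Finset.sum_sub_distrib]
  refine Finset.sum_congr rfl fun p _ => ?_
  rw [← Finset.sum_mul, col_eq]
  ring

theorem moment_two (y : GolayPt → ℤ) :
    ∑ i, dotInt (hundred i : GolayPt → ℤ) y ^ 2 = 80 * sqNorm y + 34 * dotInt hsU y ^ 2 -
      34 * (dotInt hsU y * dotInt base32neg y) + 6 * dotInt base32neg y ^ 2 := by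
  have e : ∀ i : Fin 100, dotInt (hundred i : GolayPt → ℤ) y ^ 2 =
      ∑ p, ∑ q, ((hundred i : GolayPt → ℤ) p * (hundred i : GolayPt → ℤ) q) * (y p * y q) := fun i => by
    rw [pow_two, dotInt, Finset.sum_mul]
    simp only [Finset.mul_sum]
    exact Finset.sum_congr rfl fun p _ => Finset.sum_congr rfl fun q _ => by ring
  rw [Finset.sum_congr rfl fun i _ => e i, Finset.sum_comm, Finset.sum_congr rfl fun p _ => Finset.sum_comm]
  simp only [← Finset.sum_mul, prod_eq]
  have h2 : ∀ a b : GolayPt → ℤ, ∑ p, ∑ q, (a p * b q) * (y p * y q) = dotInt a y * dotInt b y := fun a b => by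
    rw [dotInt, dotInt, Finset.sum_mul]
    simp only [Finset.mul_sum]
    exact Finset.sum_congr rfl fun p _ => Finset.sum_congr rfl fun q _ => by ring
  have h3 : ∑ p, ∑ q, (if p = q then (80 : ℤ) else 0) * (y p * y q) = 80 * sqNorm y := by
    rw [sqNorm, Finset.mul_sum]
    exact Finset.sum_congr rfl fun p _ => by simp [pow_two]
  simp only [add_mul, sub_mul, mul_assoc (34 : ℤ), mul_assoc (17 : ℤ), mul_assoc (6 : ℤ),
    Finset.sum_add_distrib, Finset.sum_sub_distrib, ← Finset.mul_sum, h2, h3]
  ring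

end CfsgLib.Leech.HSFive
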