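import Cfsg.Agent.Lib.Leech.OctadMove
import Cfsg.Agent.Lib.Leech.HSGroup

/-!
# The orbits of the standard pair stabiliser on minimal vectors of dot product −16
-/

set_option autoImplicit false

open scoped Pointwise

namespace CfsgLib.Leech.HSFive

open Cfsg CfsgLib.Golay CfsgLib.Leech CfsgLib.Leech.HSVec CfsgLib.Leech.Count

theorem perm_mem_pairStab {σ : Equiv.Perm GolayPt} (hσ : σ ∈ M24) (h01 : Fix01 σ) :
    monoAut σ hσ ∅ codeSet_empty ∈ pairStab :=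
  mem_pairStab.2 ⟨perm_fixes_const hσ h01 (z := stdU) 1 fun i h0 _ => by simp [stdU, hsU, h0],
    perm_fixes_const hσ h01 (z := stdW) 0 fun i h0 h1 => by simp [stdW, base32neg, h0, h1]⟩

theorem move_vec {σ : Equiv.Perm GolayPt} (hσ : σ ∈ M24) (h01 : Fix01 σ) {y y' : leechLattice}
    {C C' P P' : Finset GolayPt} (hC : σ • C = C') (hP : σ • P = P')
    (hv : ∀ i, (y : GolayPt → ℤ) i = if i ∈ P then 2 else if i ∈ C then -2 else 0)
    (hv' : ∀ i, (y' : GolayPt → ℤ) i = if i ∈ P' then 2 else if i ∈ C' then -2 else 0) :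
    ∃ g ∈ pairStab, g • y = y' := by
  refine ⟨_, perm_mem_pairStab hσ h01, perm_smul_eq hσ fun i => ?_⟩
  rw [hv, hv']
  simp only [mem_of_move hC, mem_of_move hP]

/-- The shared shape of the vectors: an octad, its positive part and the entries at the marked points. -/
theorem octad_form {y : leechLattice} (hn : sqNorm (y : GolayPt → ℤ) = 32) (s : ℕ)
    (h2 : (y : GolayPt → ℤ) (pt 1) = -2 ∨ (y : GolayPt → ℤ) (pt 0) = -2)
    (hs : ∑ i, (y : GolayPt → ℤ) i = 4 * (s : ℤ) - 16) :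
    ∃ C ∈ octads, ∃ P ⊆ C, P.card = s ∧
      (∀ i, (y : GolayPt → ℤ) i = if i ∈ P then 2 else if i ∈ C then -2 else 0) ∧
      (∀ i, (y : GolayPt → ℤ) i = -2 → i ∈ C ∧ i ∉ P) ∧ (∀ i, (y : GolayPt → ℤ) i = 0 → i ∉ C) := by
  obtain ⟨C, hC, P, hPC, hv, hsum⟩ : ∃ C ∈ octads, ∃ P ⊆ C,
      (∀ i, (y : GolayPt → ℤ) i = if i ∈ P then 2 else if i ∈ C then -2 else 0) ∧
        ∑ i, (y : GolayPt → ℤ) i = 4 * (P.card : ℤ) - 16 := by
    rcases h2 with h | h <;> exact octad_vec hn (Or.inr h)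
  refine ⟨C, hC, P, hPC, by omega, hv, fun i hi => ?_, fun i hi => ?_⟩
  · rw [hv] at hi
    by_cases hP : i ∈ P
    · rw [if_pos hP] at hi; norm_num at hi
    · refine ⟨?_, hP⟩
      by_contra hc
      rw [if_neg hP, if_neg hc] at hi; norm_num at hi
  · intro hc
    rw [hv] at hi
    by_cases hP : i ∈ P
    · rw [if_pos hP] at hi; norm_num at hi
    · rw [if_neg hP, if_pos hc] at hi; norm_num at hi

theorem fiber_352 {y y' : leechLattice} (hn : sqNorm (y : GolayPt → ℤ) = 32) (hn' : sqNorm (y' : GolayPt → ℤ) = 32)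
    (h0 : (y : GolayPt → ℤ) (pt 0) = 0) (h0' : (y' : GolayPt → ℤ) (pt 0) = 0)
    (h1 : (y : GolayPt → ℤ) (pt 1) = -2) (h1' : (y' : GolayPt → ℤ) (pt 1) = -2)
    (hs : ∑ i, (y : GolayPt → ℤ) i = -16) (hs' : ∑ i, (y' : GolayPt → ℤ) i = -16) :
    ∃ g ∈ pairStab, g • y = y' := by
  obtain ⟨C, hC, P, -, hP, hv, hm, hz⟩ := octad_form hn 0 (Or.inl h1) (by simpa using hs)
  obtain ⟨C', hC', P', -, hP', hv', hm', hz'⟩ := octad_form hn' 0 (Or.inl h1') (by simpa using hs')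
  obtain ⟨σ, hσ, e1, e0, eC⟩ := exists_move_in_out hC hC' (hm _ h1).1 (hz _ h0) (hm' _ h1').1 (hz' _ h0')
  refine move_vec hσ ⟨e0, e1⟩ eC ?_ hv hv'
  rw [Finset.card_eq_zero.1 hP, Finset.card_eq_zero.1 hP', Finset.smul_finset_empty]

theorem fiber_4125 {y y' : leechLattice} (hn : sqNorm (y : GolayPt → ℤ) = 32) (hn' : sqNorm (y' : GolayPt → ℤ) = 32)
    (h0 : (y : GolayPt → ℤ) (pt 0) = -2) (h0' : (y' : GolayPt → ℤ) (pt 0) = -2)
    (h1 : (y : GolayPt → ℤ) (pt 1) = -2) (h1' : (y' : GolayPt → ℤ) (pt 1) = -2)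
    (hs : ∑ i, (y : GolayPt → ℤ) i = -8) (hs' : ∑ i, (y' : GolayPt → ℤ) i = -8) :
    ∃ g ∈ pairStab, g • y = y' := by
  classical
  obtain ⟨C, hC, P, hPC, hP, hv, hm, -⟩ := octad_form hn 2 (Or.inl h1) (by rw [hs]; norm_num)
  obtain ⟨C', hC', P', hPC', hP', hv', hm', -⟩ := octad_form hn' 2 (Or.inl h1') (by rw [hs']; norm_num)
  obtain ⟨a, b, hab, rfl⟩ := Finset.card_eq_two.1 hP
  obtain ⟨a', b', hab', rfl⟩ := Finset.card_eq_two.1 hP'
  have key : ∀ (C : Finset GolayPt) (a b : GolayPt), C ∈ octads → a ≠ b →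
      ({a, b} : Finset GolayPt) ⊆ C → (pt 0 ∈ C ∧ pt 0 ∉ ({a, b} : Finset GolayPt)) →
      (pt 1 ∈ C ∧ pt 1 ∉ ({a, b} : Finset GolayPt)) →
      ∃ t : List GolayPt, (pt 0 :: pt 1 :: a :: b :: t).length = 5 ∧ (pt 0 :: pt 1 :: a :: b :: t).Nodup ∧
        ∀ x ∈ pt 0 :: pt 1 :: a :: b :: t, x ∈ C := by
    intro C a b hC hab hsub q0 q1
    simp only [Finset.mem_insert, Finset.mem_singleton, not_or] at q0 q1
    refine exists_five hC [pt 0, pt 1, a, b] ?_ ?_ (by simp)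
    · simp [pt01, hab, q0.2.1, q0.2.2, q1.2.1, q1.2.2]
    · simp [q0.1, q1.1, hsub (Finset.mem_insert_self a _),
        hsub (Finset.mem_insert_of_mem (Finset.mem_singleton_self b))]
  obtain ⟨t, hl, hnd, hmem⟩ := key C a b hC hab hPC (hm _ h0) (hm _ h1)
  obtain ⟨t', hl', hnd', hmem'⟩ := key C' a' b' hC' hab' hPC' (hm' _ h0') (hm' _ h1')
  obtain ⟨σ, hσ, hi, eC⟩ := exists_move_five hC hC' _ _ hl hl' hnd hnd' hmem hmem'
  refine move_vec hσ ⟨hi 0 (by norm_num), hi 1 (by norm_num)⟩ eC ?_ hv hv'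
  rw [Finset.smul_finset_insert, Finset.smul_finset_singleton, Equiv.Perm.smul_def, Equiv.Perm.smul_def]
  rw [show σ a = a' from hi 2 (by norm_num), show σ b = b' from hi 3 (by norm_num)]

theorem fiber_5600 {y y' : leechLattice} (hn : sqNorm (y : GolayPt → ℤ) = 32) (hn' : sqNorm (y' : GolayPt → ℤ) = 32)
    (h0 : (y : GolayPt → ℤ) (pt 0) = -2) (h0' : (y' : GolayPt → ℤ) (pt 0) = -2)
    (h1 : (y : GolayPt → ℤ) (pt 1) = 0) (h1' : (y' : GolayPt → ℤ) (pt 1) = 0)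
    (hs : ∑ i, (y : GolayPt → ℤ) i = -8) (hs' : ∑ i, (y' : GolayPt → ℤ) i = -8) :
    ∃ g ∈ pairStab, g • y = y' := by
  classical
  obtain ⟨C, hC, P, hPC, hP, hv, hm, hz⟩ := octad_form hn 2 (Or.inr h0) (by rw [hs]; norm_num)
  obtain ⟨C', hC', P', hPC', hP', hv', hm', hz'⟩ := octad_form hn' 2 (Or.inr h0') (by rw [hs']; norm_num)
  obtain ⟨a, b, hab, rfl⟩ := Finset.card_eq_two.1 hP
  obtain ⟨a', b', hab', rfl⟩ := Finset.card_eq_two.1 hP'
  have key : ∀ (C : Finset GolayPt) (a b : GolayPt), C ∈ octads → a ≠ b →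
      ({a, b} : Finset GolayPt) ⊆ C → (pt 0 ∈ C ∧ pt 0 ∉ ({a, b} : Finset GolayPt)) →
      ∃ t : List GolayPt, (pt 0 :: a :: b :: t).length = 5 ∧ (pt 0 :: a :: b :: t).Nodup ∧
        ∀ x ∈ pt 0 :: a :: b :: t, x ∈ C := by
    intro C a b hC hab hsub q0
    simp only [Finset.mem_insert, Finset.mem_singleton, not_or] at q0
    refine exists_five hC [pt 0, a, b] ?_ ?_ (by simp)
    · simp [hab, q0.2.1, q0.2.2]
    · simp [q0.1, hsub (Finset.mem_insert_self a _),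
        hsub (Finset.mem_insert_of_mem (Finset.mem_singleton_self b))]
  obtain ⟨t, hl, hnd, hmem⟩ := key C a b hC hab hPC (hm _ h0)
  obtain ⟨t', hl', hnd', hmem'⟩ := key C' a' b' hC' hab' hPC' (hm' _ h0')
  obtain ⟨σ, hσ, hi, e1, eC⟩ := exists_move_five_out hC hC' _ _ hl hl' hnd hnd' hmem hmem' (hz _ h1) (hz' _ h1')
  refine move_vec hσ ⟨hi 0 (by norm_num), e1⟩ eC ?_ hv hv'
  rw [Finset.smul_finset_insert, Finset.smul_finset_singleton, Equiv.Perm.smul_def, Equiv.Perm.smul_def]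
  rw [show σ a = a' from hi 1 (by norm_num), show σ b = b' from hi 2 (by norm_num)]

theorem fiber_1100 {y y' : leechLattice} (hn : sqNorm (y : GolayPt → ℤ) = 32) (hn' : sqNorm (y' : GolayPt → ℤ) = 32)
    (h0 : (y : GolayPt → ℤ) (pt 0) = -4) (h0' : (y' : GolayPt → ℤ) (pt 0) = -4)
    (h1 : (y : GolayPt → ℤ) (pt 1) = 0) (h1' : (y' : GolayPt → ℤ) (pt 1) = 0)
    (hs : ∑ i, (y : GolayPt → ℤ) i = 0) (hs' : ∑ i, (y' : GolayPt → ℤ) i = 0) :
    ∃ g ∈ pairStab, g • y = y' := by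
  classical
  have key : ∀ {y : GolayPt → ℤ}, y ∈ leechLattice → sqNorm y = 32 → y (pt 0) = -4 → y (pt 1) = 0 →
      ∑ i, y i = 0 → ∃ a, pt 0 ≠ a ∧ pt 1 ≠ a ∧ ∀ i, y i = if i = pt 0 then -4 else if i = a then 4 else 0 := by
    intro y hy hn h0 h1 hs
    obtain ⟨a, ha, hav, hr⟩ := exists_other hy hn (Or.inr h0) h1
    have e : y (pt 0) + y a = 0 := by
      rw [← Finset.sum_pair ha.symm, ← hs]
      refine Finset.sum_subset (Finset.subset_univ _) fun i _ hi => ?_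
      simp only [Finset.mem_insert, Finset.mem_singleton, not_or] at hi
      exact hr i hi.1 hi.2
    refine ⟨a, ha.symm, fun h => ?_, fun i => ?_⟩
    · rw [h] at h1; omega
    by_cases hi0 : i = pt 0
    · rw [if_pos hi0, hi0, h0]
    by_cases hia : i = a
    · rw [if_neg hi0, if_pos hia, hia]; omega
    rw [if_neg hi0, if_neg hia, hr i hi0 hia]
  obtain ⟨a, a0, a1, hv⟩ := key y.2 hn h0 h1 hs
  obtain ⟨a', a0', a1', hv'⟩ := key y'.2 hn' h0' h1' hs'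
  obtain ⟨σ, hσ, e0, e1, ea⟩ := M24_map_three pt01 a0 a1 pt01 a0' a1'
  refine ⟨_, perm_mem_pairStab hσ ⟨e0, e1⟩, perm_smul_eq hσ fun i => ?_⟩
  rw [hv, hv']
  have q0 : σ i = pt 0 ↔ i = pt 0 := ⟨fun h => σ.injective (h.trans e0.symm), fun h => by rw [h, e0]⟩
  have qa : σ i = a' ↔ i = a := ⟨fun h => σ.injective (h.trans ea.symm), fun h => by rw [h, ea]⟩
  simp only [q0, qa]

end CfsgLib.Leech.HSFive
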