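import Cfsg.Agent.Lib.Leech.HSRank5
import Cfsg.Agent.Lib.Leech.Sections
import Cfsg.Agent.Lib.Leech.HSMoments

/-!
# The five orbits of the stabiliser of the standard pair
-/

set_option autoImplicit false

open scoped Pointwise

namespace CfsgLib.Leech.HSFive

open Cfsg CfsgLib.Golay CfsgLib.Leech CfsgLib.Leech.HSVec CfsgLib.Leech.Count

theorem std_facts : sqNorm (stdU : GolayPt → ℤ) = 48 ∧ sqNorm (stdW : GolayPt → ℤ) = 32 ∧
    dotInt (stdU : GolayPt → ℤ) stdW = 16 :=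
  ⟨std_dots.1, std_dots.2.2.1, by show dotInt hsU base32neg = 16; decide +kernel⟩

/-- The vectors other than the opposite of the second standard vector, by dot product. -/
def cls (d : ℤ) : Set leechLattice :=
  {y | sqNorm (y : GolayPt → ℤ) = 32 ∧ dotInt (stdU : GolayPt → ℤ) y = -16 ∧ dotInt (stdW : GolayPt → ℤ) y = -d}

theorem dot_hundred_vals (a : Fin 100) {y : leechLattice} (hy : sqNorm (y : GolayPt → ℤ) = 32)
    (hu : dotInt (stdU : GolayPt → ℤ) y = -16) :
    dotInt (hundred a : GolayPt → ℤ) y = 0 ∨ dotInt (hundred a : GolayPt → ℤ) y = -8 ∨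
      dotInt (hundred a : GolayPt → ℤ) y = -16 := by
  obtain ⟨ha, hau, -⟩ := hundred_mem a
  obtain ⟨k, hk⟩ := eight_dvd_dotInt (hundred a).2 y.2
  have hU : sqNorm (stdU : GolayPt → ℤ) = 48 := std_facts.1
  have s1 : sqNorm ((hundred a : GolayPt → ℤ) - (y : GolayPt → ℤ)) = 64 - 2 * (8 * k) := by rw [sqNorm_sub, ha, hy, hk]; ring
  have s2 : sqNorm ((hundred a : GolayPt → ℤ) + (y : GolayPt → ℤ)) = 64 + 2 * (8 * k) := by rw [sqNorm_add, ha, hy, hk]; ring
  have s3 : sqNorm ((stdU : GolayPt → ℤ) - ((hundred a : GolayPt → ℤ) - (y : GolayPt → ℤ))) = 32 - 2 * (8 * k) := by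
    rw [sqNorm_sub, s1, dotInt_sub_right, hau, hu, hU]; ring
  have n2 : (hundred a : GolayPt → ℤ) + (y : GolayPt → ℤ) ≠ 0 := fun e => by
    have h : (y : GolayPt → ℤ) = -(hundred a : GolayPt → ℤ) := eq_neg_of_add_eq_zero_right e
    rw [h, dotInt_neg_right, hau] at hu
    norm_num at hu
  have n3 : (stdU : GolayPt → ℤ) - ((hundred a : GolayPt → ℤ) - (y : GolayPt → ℤ)) ≠ 0 := fun e => by
    have h : dotInt (stdU : GolayPt → ℤ) (stdU : GolayPt → ℤ) =
        dotInt (stdU : GolayPt → ℤ) ((hundred a : GolayPt → ℤ) - (y : GolayPt → ℤ)) := by rw [← sub_eq_zero.1 e]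
    rw [dotInt_self, hU, dotInt_sub_right, hau, hu] at h
    omega
  have l2 := min_norm (add_mem (hundred a).2 y.2) n2
  have l3 := min_norm (sub_mem stdU.2 (sub_mem (hundred a).2 y.2)) n3
  rw [s2] at l2
  rw [s3] at l3
  omega

theorem exists_target {d t : ℤ} (h : (d = -8 ∧ t = -8) ∨ (d = 0 ∧ t = -16) ∨ (d = 8 ∧ t = -8) ∨
    (d = 16 ∧ t = -16)) {y : leechLattice} (hy : y ∈ cls d) :
    ∃ a : Fin 100, dotInt (hundred a : GolayPt → ℤ) y = t := by
  obtain ⟨hn, hu, hw⟩ := hy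
  by_contra hne
  push Not at hne
  set f : Fin 100 → ℤ := fun a => dotInt (hundred a : GolayPt → ℤ) y with hf
  have ht : t = -8 ∨ t = -16 := by omega
  have hval : ∀ a, f a ^ 2 + (-(-24 - t)) * f a = 0 := fun a => by
    have h1 := dot_hundred_vals a hn hu
    have h2 := hne a
    rcases ht with e | e <;> rcases h1 with q | q | q <;> simp only [hf] <;>
      first
        | (exact absurd (q.trans e.symm) h2)
        | (rw [q, e]; norm_num)
  have hsum : ∑ a, (f a ^ 2 + (-(-24 - t)) * f a) = 0 := Finset.sum_eq_zero fun a _ => hval a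
  rw [Finset.sum_add_distrib, ← Finset.mul_sum] at hsum
  simp only [hf, moment_one, moment_two, hn] at hsum
  change dotInt hsU y = -16 at hu
  change dotInt base32neg y = -d at hw
  rw [hu, hw] at hsum
  rcases h with ⟨rfl, rfl⟩ | ⟨rfl, rfl⟩ | ⟨rfl, rfl⟩ | ⟨rfl, rfl⟩ <;> norm_num at hsum

theorem exists_move_hundred (a : Fin 100) : ∃ g ∈ pairStab, g • hundred a = stdV := by
  obtain ⟨ha, hau, haw⟩ := hundred_mem a
  obtain ⟨hU, hW, hUW⟩ := std_facts
  obtain ⟨g, h1, h2, h3⟩ := exists_triple_hs (v := stdU) (w := pairW) (x := hundred a) hU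
    (by rw [pairW, AddSubgroup.coe_sub, sqNorm_sub, hU, hW, dotInt_comm, hUW]; norm_num)
    (by rw [pairW, AddSubgroup.coe_sub, dotInt_sub_right, hUW, dotInt_self, hU]; norm_num) ha hau
    (by rw [pairW, AddSubgroup.coe_sub, dotInt_comm, dotInt_sub_right, dotInt_comm, haw, dotInt_comm, hau]; norm_num)
  rw [show stdU + pairW = stdW by rw [pairW]; abel] at h2
  exact ⟨g, mem_pairStab.2 ⟨Subtype.ext h3, Subtype.ext h2⟩, Subtype.ext h1⟩

theorem cls_smul {g : Co0} (hg : g ∈ pairStab) {d : ℤ} {y : leechLattice} (hy : y ∈ cls d) : g • y ∈ cls d := by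
  obtain ⟨a, b, c⟩ := hy
  obtain ⟨h1, h2⟩ := mem_pairStab.1 hg
  refine ⟨(sqNorm_smul_co _ _).trans a, ?_, ?_⟩
  · have h := dot_smul_co g stdU y
    rw [h1] at h
    exact h.trans b
  · have h := dot_smul_co g stdW y
    rw [h2] at h
    exact h.trans c

theorem sum_of_dot (y : GolayPt → ℤ) : dotInt hsU y = (∑ i, y i) + 4 * y (pt 0) := by
  have e : hsU = (fun _ => (1 : ℤ)) + Pi.single (pt 0) 4 := by decide +kernel
  rw [dotInt_comm, e, dotInt_add_right, dotInt_single]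
  simp [dotInt, mul_comm]

theorem cls_transitive {d : ℤ} (hd : d = -8 ∨ d = 0 ∨ d = 8 ∨ d = 16) {y y' : leechLattice} (hy : y ∈ cls d)
    (hy' : y' ∈ cls d) : ∃ g ∈ pairStab, g • y = y' := by
  obtain ⟨t, ht⟩ : ∃ t, (d = -8 ∧ t = -8) ∨ (d = 0 ∧ t = -16) ∨ (d = 8 ∧ t = -8) ∨ (d = 16 ∧ t = -16) := by
    rcases hd with rfl | rfl | rfl | rfl
    exacts [⟨-8, by omega⟩, ⟨-16, by omega⟩, ⟨-8, by omega⟩, ⟨-16, by omega⟩]
  have step : ∀ {y : leechLattice}, y ∈ cls d → ∃ g ∈ pairStab,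
      sqNorm ((g • y : leechLattice) : GolayPt → ℤ) = 32 ∧
      4 * (((g • y : leechLattice) : GolayPt → ℤ) (pt 0) + ((g • y : leechLattice) : GolayPt → ℤ) (pt 1)) = t ∧
      4 * (((g • y : leechLattice) : GolayPt → ℤ) (pt 0) - ((g • y : leechLattice) : GolayPt → ℤ) (pt 1)) = -d ∧
      (∑ i, ((g • y : leechLattice) : GolayPt → ℤ) i) + 4 * ((g • y : leechLattice) : GolayPt → ℤ) (pt 0) = -16 := by
    intro y hy
    obtain ⟨a, ha⟩ := exists_target ht hy
    obtain ⟨g, hg, hga⟩ := exists_move_hundred a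
    obtain ⟨p, q, r⟩ := cls_smul hg hy
    refine ⟨g, hg, p, ?_, ?_, ?_⟩
    · rw [← dotInt_base32, dotInt_comm]
      show dotInt (stdV : GolayPt → ℤ) _ = t
      rw [← hga, dot_smul_co, ha]
    · rw [← dotInt_base32neg, dotInt_comm]; exact r
    · rw [← sum_of_dot]; exact q
  obtain ⟨g, hg, n, s1, s2, s3⟩ := step hy
  obtain ⟨g', hg', n', s1', s2', s3'⟩ := step hy'
  obtain ⟨k, hk, hky⟩ : ∃ k ∈ pairStab, k • g • y = g' • y' := by
    rcases ht with ⟨rfl, rfl⟩ | ⟨rfl, rfl⟩ | ⟨rfl, rfl⟩ | ⟨rfl, rfl⟩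
    · exact fiber_352 n n' (by omega) (by omega) (by omega) (by omega) (by omega) (by omega)
    · exact fiber_4125 n n' (by omega) (by omega) (by omega) (by omega) (by omega) (by omega)
    · exact fiber_5600 n n' (by omega) (by omega) (by omega) (by omega) (by omega) (by omega)
    · exact fiber_1100 n n' (by omega) (by omega) (by omega) (by omega) (by omega) (by omega)
  refine ⟨g'⁻¹ * (k * g), mul_mem (inv_mem hg') (mul_mem hk hg), ?_⟩
  rw [mul_smul, mul_smul, hky, inv_smul_smul]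

set_option maxHeartbeats 4000000 in
theorem ncard_classes (u x : leechLattice) (h : Co0) (hu : ((h • u : leechLattice) : GolayPt → ℤ) = hsU)
    (hx : ((h • x : leechLattice) : GolayPt → ℤ) = -base32neg) :
    ∀ dn ∈ [((-8 : ℤ), 352), (16, 1100), (0, 4125), (8, 5600)],
      {y : leechLattice | sqNorm (y : GolayPt → ℤ) = 32 ∧ dotInt (u : GolayPt → ℤ) y = -16 ∧
        dotInt (x : GolayPt → ℤ) y = dn.1}.ncard = dn.2 := by
  intro dn hdn
  rw [ncard_dot_two h hu hx]
  have hs := ncard_sect_two maskTwo_ok.1 maskTwo_ok.2.1 (fun j => [5, 1, 1].getD j 0) (fun j => [-4, 4, 0].getD j 0)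
    (a := hsU) (b := -base32neg) (by decide +kernel) (by decide +kernel) (-16) dn.1 maskTwo_ok.2.2
  rw [hs]
  simp only [List.mem_cons, List.not_mem_nil, or_false] at hdn
  rcases hdn with rfl | rfl | rfl | rfl <;> decide +kernel

end CfsgLib.Leech.HSFive
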