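import Cfsg.Agent.Lib.Leech.Frame
import Cfsg.Agent.Lib.Leech.Shells

/-!
# The two instances: the Leech lattice and a Gram matrix with the same vector counts
-/

set_option autoImplicit false

namespace CfsgLib.Leech

open Cfsg

/-- Multiplication by a natural number on integer vectors. -/
def scale (ι : Type*) (k : ℕ) : (ι → ℤ) →+ (ι → ℤ) := zsmulAddGroupHom (k : ℤ)

theorem scale_apply {ι : Type*} (k : ℕ) (x : ι → ℤ) (i : ι) : scale ι k x i = (k : ℤ) * x i := rfl

theorem index_range_scale (ι : Type*) [Fintype ι] (k : ℕ) [NeZero k] :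
    (scale ι k).range.index = k ^ Fintype.card ι := by
  have e : (scale ι k).range = ((Int.castAddHom (ZMod k)).compLeft ι).ker := by
    ext x
    simp only [AddMonoidHom.mem_range, AddMonoidHom.mem_ker]
    constructor
    · rintro ⟨y, rfl⟩
      funext i
      show ((scale ι k y i : ℤ) : ZMod k) = 0
      simp [scale_apply]
    · intro h
      have hd : ∀ i, (k : ℤ) ∣ x i := fun i =>
        (ZMod.intCast_zmod_eq_zero_iff_dvd _ k).1 (congrFun h i)
      choose y hy using hd
      exact ⟨y, funext fun i => by rw [scale_apply, hy]⟩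
  rw [e, AddSubgroup.index_ker, AddMonoidHom.range_eq_top_of_surjective]
  · rw [AddSubgroup.card_top, Nat.card_fun, Nat.card_zmod, Nat.card_eq_fintype_card]
  · intro y
    exact ⟨fun i => ((y i).val : ℤ), funext fun i => by
      show ((((y i).val : ℤ)) : ZMod k) = y i
      simp⟩

theorem dep_of_injective {L : Type*} [AddCommGroup L] (φ : L →+ (GolayPt → ℤ))
    (hφ : Function.Injective φ) (f : Fin 25 → L) : ∃ a : Fin 25 → ℤ, a ≠ 0 ∧ ∑ i, a i • f i = 0 := by
  have h : ¬ LinearIndependent ℤ fun i => φ (f i) := fun h => by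
    have := h.fintype_card_le_finrank
    simp [Module.finrank_pi, card_golayPt] at this
  obtain ⟨a, ha, i, hi⟩ := Fintype.not_linearIndependent_iff.1 h
  refine ⟨a, fun h0 => hi (by rw [h0]; rfl), hφ ?_⟩
  rw [map_zero, map_sum, ← ha]
  exact Finset.sum_congr rfl fun i _ => map_zsmul φ _ _

theorem card_quot_leech : Nat.card (leechLattice ⧸ twoMul leechLattice) = 2 ^ 24 := by
  set d := scale GolayPt 2
  have hd : Function.Injective d := fun x y h => funext fun i => by
    have := congrFun h i
    simp only [d, scale_apply] at this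
    omega
  have e : twoMul leechLattice = (leechLattice.map d).addSubgroupOf leechLattice := by
    ext v
    rw [AddSubgroup.mem_addSubgroupOf]
    constructor
    · rintro ⟨z, rfl⟩
      exact ⟨z, z.2, rfl⟩
    · rintro ⟨z, hz, hzv⟩
      exact ⟨⟨z, hz⟩, Subtype.ext hzv⟩
  show (twoMul leechLattice).index = 2 ^ 24
  rw [e]
  show (leechLattice.map d).relIndex leechLattice = 2 ^ 24
  have hle : leechLattice.map d ≤ leechLattice := by
    rintro _ ⟨z, hz, rfl⟩
    exact zsmul_mem hz _
  have h1 := AddSubgroup.relIndex_mul_index hle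
  have h2 := AddSubgroup.relIndex_mul_index (AddSubgroup.map_le_range d leechLattice)
  rw [index_range_scale, AddMonoidHom.range_eq_map, AddSubgroup.relIndex_map_map_of_injective _ _ hd,
    AddSubgroup.relIndex_top_right, card_golayPt] at h2
  have hne : leechLattice.index ≠ 0 := by
    have h8 : (scale GolayPt 8).range ≤ leechLattice := by
      rintro _ ⟨z, rfl⟩
      refine mem_leechLattice_iff_form.2 ⟨⟨0, ∅, fun i => 2 * z i, codeSet_empty, fun i => ?_, ?_⟩⟩
      · simp [scale_apply, indi]; ring
      · simp [scale_apply, ← Finset.mul_sum, Int.ModEq]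
    refine ne_zero_of_dvd_ne_zero ?_ (AddSubgroup.index_dvd_of_le h8)
    rw [index_range_scale]
    positivity
  rw [← h2, mul_comm leechLattice.index] at h1
  exact Nat.eq_of_mul_eq_mul_right (Nat.pos_of_ne_zero hne) h1

/-- The normalised inner product. -/
def innerL : leechLattice →+ leechLattice →+ ℤ :=
  AddMonoidHom.mk'
    (fun v => AddMonoidHom.mk' (fun w => dotInt (v : GolayPt → ℤ) w / 8) fun a b => by
      have e : dotInt (v : GolayPt → ℤ) ((a + b : leechLattice) : GolayPt → ℤ) =
          dotInt (v : GolayPt → ℤ) a + dotInt (v : GolayPt → ℤ) b := by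
        simp [dotInt, mul_add, Finset.sum_add_distrib]
      simp only [e]
      exact Int.add_ediv_of_dvd_left (eight_dvd_dotInt v.2 a.2))
    fun a b => by
      ext w
      have e : dotInt ((a + b : leechLattice) : GolayPt → ℤ) (w : GolayPt → ℤ) =
          dotInt (a : GolayPt → ℤ) w + dotInt (b : GolayPt → ℤ) w := by
        simp [dotInt, add_mul, Finset.sum_add_distrib]
      simp only [AddMonoidHom.mk'_apply, AddMonoidHom.add_apply, e]
      exact Int.add_ediv_of_dvd_left (eight_dvd_dotInt a.2 w.2)

theorem eight_mul_inner (v w : leechLattice) : 8 * innerL v w = dotInt (v : GolayPt → ℤ) w :=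
  Int.mul_ediv_cancel' (eight_dvd_dotInt v.2 w.2)

theorem dotInt_self (x : GolayPt → ℤ) : dotInt x x = sqNorm x :=
  Finset.sum_congr rfl fun i _ => (pow_two (x i)).symm

theorem eight_mul_inner_self (v : leechLattice) : 8 * innerL v v = sqNorm (v : GolayPt → ℤ) := by
  rw [eight_mul_inner, dotInt_self]

theorem ncard_inner_self (n : ℤ) :
    {v : leechLattice | innerL v v = n}.ncard =
      {x : GolayPt → ℤ | x ∈ leechLattice ∧ sqNorm x = 8 * n}.ncard := by
  rw [← Set.ncard_image_of_injective _ (Subtype.val_injective (p := (· ∈ leechLattice)))]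
  congr 1
  ext x
  constructor
  · rintro ⟨v, hv, rfl⟩
    exact ⟨v.2, by rw [← eight_mul_inner_self, hv]⟩
  · rintro ⟨hx, hn⟩
    exact ⟨⟨x, hx⟩, by
      have := eight_mul_inner_self ⟨x, hx⟩
      simp only [Set.mem_ofPred_eq] at *
      rw [hn] at this; omega, rfl⟩

/-- The Leech lattice as an even lattice with its counts. -/
def leechEven : EvenLat leechLattice where
  b := innerL
  symm v w := by
    have h : dotInt (v : GolayPt → ℤ) w = dotInt (w : GolayPt → ℤ) v :=
      Finset.sum_congr rfl fun i _ => mul_comm _ _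
    have := eight_mul_inner v w
    have := eight_mul_inner w v
    omega
  pos v hv := by
    have h : (v : GolayPt → ℤ) ≠ 0 := fun h => hv (Subtype.ext h)
    have := min_norm v.2 h
    have := eight_mul_inner_self v
    omega
  even v := by
    have := sqNorm_dvd_sixteen v.2
    have := eight_mul_inner_self v
    omega
  noRoot v h := by
    have := eight_mul_inner_self v
    rcases eq_or_ne v 0 with rfl | hv
    · simp at h
    · have := min_norm v.2 fun h => hv (Subtype.ext h)
      omega
  dep := dep_of_injective leechLattice.subtype Subtype.val_injective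
  card_quot := card_quot_leech
  count4 := (ncard_inner_self 4).trans (by norm_num; exact ncard_norm32)
  count6 := (ncard_inner_self 6).trans (by norm_num; exact ncard_norm48)
  count8 := (ncard_inner_self 8).trans (by norm_num; exact ncard_norm64)

section Gram

open Matrix

variable (B : Matrix (Fin 24) (Fin 24) ℤ)

/-- The bilinear form of a Gram matrix. -/
def gramForm : (Fin 24 → ℤ) →+ (Fin 24 → ℤ) →+ ℤ :=
  AddMonoidHom.mk' (fun x => AddMonoidHom.mk' (fun y => x ⬝ᵥ (B *ᵥ y))
    fun a b => by rw [mulVec_add, dotProduct_add])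
    fun a b => by ext y; simp [add_dotProduct]

theorem gramForm_apply (x y : Fin 24 → ℤ) : gramForm B x y = x ⬝ᵥ (B *ᵥ y) := rfl

/-- A Gram matrix with the counts as an even lattice. -/
def gramEven (hsymm : B.IsSymm) (hpos : ∀ x : Fin 24 → ℤ, x ≠ 0 → 0 < x ⬝ᵥ (B *ᵥ x))
    (heven : ∀ x : Fin 24 → ℤ, (2 : ℤ) ∣ x ⬝ᵥ (B *ᵥ x)) (h2 : ∀ x : Fin 24 → ℤ, x ⬝ᵥ (B *ᵥ x) ≠ 2)
    (h4 : {x : Fin 24 → ℤ | x ⬝ᵥ (B *ᵥ x) = 4}.ncard = 196560)
    (h6 : {x : Fin 24 → ℤ | x ⬝ᵥ (B *ᵥ x) = 6}.ncard = 16773120)
    (h8 : {x : Fin 24 → ℤ | x ⬝ᵥ (B *ᵥ x) = 8}.ncard = 398034000) : EvenLat (Fin 24 → ℤ) where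
  b := gramForm B
  symm x y := by
    simp only [gramForm_apply]
    rw [dotProduct_mulVec, ← mulVec_transpose, hsymm.eq, dotProduct_comm]
  pos := hpos
  even := heven
  noRoot := h2
  dep := dep_of_injective
    (AddMonoidHom.mk' (fun x p => x (Golay.ptEquiv p)) fun a b => rfl)
    (fun x y h => funext fun i => by simpa using congrFun h (Golay.ptEquiv.symm i))
  card_quot := by
    show (twoMul (Fin 24 → ℤ)).index = 2 ^ 24
    have e : twoMul (Fin 24 → ℤ) = (scale (Fin 24) 2).range := rfl
    rw [e, index_range_scale, Fintype.card_fin]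
  count4 := h4
  count6 := h6
  count8 := h8

end Gram

end CfsgLib.Leech
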