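import Cfsg.Agent.Lib.Leech.CrossShapes
import Cfsg.Agent.Lib.Leech.Quads

/-!
# Moving vectors supported on octads, with two marked points fixed
-/

set_option autoImplicit false

open scoped Pointwise symmDiff

namespace CfsgLib.Leech

open Cfsg CfsgLib.Golay

/-- A permutation fixing the first two points. -/
def Fix01 (σ : Equiv.Perm GolayPt) : Prop := σ (pt 0) = pt 0 ∧ σ (pt 1) = pt 1

theorem perm_fixes_const {σ : Equiv.Perm GolayPt} (hσ : σ ∈ M24) (h01 : Fix01 σ) {z : leechLattice}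
    (k : ℤ) (hz : ∀ i, i ≠ pt 0 → i ≠ pt 1 → (z : GolayPt → ℤ) i = k) :
    monoAut σ hσ ∅ codeSet_empty • z = z := by
  refine Subtype.ext (funext fun i => ?_)
  rw [coe_monoAut_smul]
  simp only [signedPerm, Finset.notMem_empty, if_false]
  by_cases h0 : i = pt 0
  · subst h0; rw [show σ.symm (pt 0) = pt 0 from σ.symm_apply_eq.2 h01.1.symm]
  by_cases h1 : i = pt 1
  · subst h1; rw [show σ.symm (pt 1) = pt 1 from σ.symm_apply_eq.2 h01.2.symm]
  rw [hz i h0 h1, hz _ (fun e => h0 (by rw [← h01.1, ← e, Equiv.apply_symm_apply]))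
    (fun e => h1 (by rw [← h01.2, ← e, Equiv.apply_symm_apply]))]

theorem perm_smul_eq {σ : Equiv.Perm GolayPt} (hσ : σ ∈ M24) {y y' : leechLattice}
    (h : ∀ i, (y' : GolayPt → ℤ) (σ i) = (y : GolayPt → ℤ) i) : monoAut σ hσ ∅ codeSet_empty • y = y' := by
  refine Subtype.ext (funext fun i => ?_)
  rw [coe_monoAut_smul]
  simp only [signedPerm, Finset.notMem_empty, if_false]
  rw [← h, Equiv.apply_symm_apply]

theorem exists_move_five {C C' : Finset GolayPt} (hC : C ∈ octads) (hC' : C' ∈ octads)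
    (l l' : List GolayPt) (hl : l.length = 5) (hl' : l'.length = 5) (hnd : l.Nodup) (hnd' : l'.Nodup)
    (hm : ∀ x ∈ l, x ∈ C) (hm' : ∀ x ∈ l', x ∈ C') :
    ∃ σ ∈ M24, (∀ i (hi : i < 5), σ (l[i]'(hl ▸ hi)) = l'[i]'(hl' ▸ hi)) ∧ σ • C = C' := by
  obtain ⟨g, hg, hgi⟩ := exists_map_five l hl hnd
  obtain ⟨g', hg', hgi'⟩ := exists_map_five l' hl' hnd'
  refine ⟨g' * g⁻¹, mul_mem hg' (inv_mem hg), fun i hi => ?_, ?_⟩
  · rw [Equiv.Perm.mul_apply, ← hgi i hi, Equiv.Perm.inv_def, Equiv.symm_apply_apply, hgi' i hi]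
  · refine octad_unique (octads_smul (mul_mem hg' (inv_mem hg)) hC) hC' ?_
    have hsub : l'.toFinset ⊆ (g' * g⁻¹) • C ∩ C' := by
      intro x hx
      rw [List.mem_toFinset] at hx
      obtain ⟨i, hi, rfl⟩ := List.getElem_of_mem hx
      refine Finset.mem_inter.2 ⟨?_, hm' _ hx⟩
      have e : (g' * g⁻¹) (l[i]'(by omega)) = l'[i] := by
        rw [Equiv.Perm.mul_apply, ← hgi i (by omega), Equiv.Perm.inv_def, Equiv.symm_apply_apply, hgi' i (by omega)]
      rw [← e, ← Equiv.Perm.smul_def]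
      exact Finset.smul_mem_smul_finset (hm _ (List.getElem_mem _))
    calc 5 = l'.toFinset.card := by rw [List.toFinset_card_of_nodup hnd', hl']
      _ ≤ _ := Finset.card_le_card hsub

theorem exists_five {C : Finset GolayPt} (hC : C ∈ octads) (s : List GolayPt) (hs : s.Nodup)
    (hsC : ∀ x ∈ s, x ∈ C) (hlen : s.length ≤ 5) :
    ∃ t : List GolayPt, (s ++ t).length = 5 ∧ (s ++ t).Nodup ∧ ∀ x ∈ s ++ t, x ∈ C := by
  classical
  obtain ⟨T, hT, hTc⟩ := Finset.exists_subset_card_eq (s := C \ s.toFinset) (n := 5 - s.length) (by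
    have h1 := Finset.le_card_sdiff s.toFinset C
    rw [List.toFinset_card_of_nodup hs, hC.2] at h1
    omega)
  refine ⟨T.toList, by simp [hTc]; omega, List.nodup_append.2 ⟨hs, T.nodup_toList, ?_⟩, ?_⟩
  · intro a ha b hb e
    exact (Finset.mem_sdiff.1 (hT (Finset.mem_toList.1 hb))).2 (List.mem_toFinset.2 (e ▸ ha))
  · intro x hx
    rcases List.mem_append.1 hx with h | h
    · exact hsC x h
    · exact (Finset.mem_sdiff.1 (hT (Finset.mem_toList.1 h))).1

theorem exists_move_five_out {C C' : Finset GolayPt} (hC : C ∈ octads) (hC' : C' ∈ octads)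
    (l l' : List GolayPt) (hl : l.length = 5) (hl' : l'.length = 5) (hnd : l.Nodup) (hnd' : l'.Nodup)
    (hm : ∀ x ∈ l, x ∈ C) (hm' : ∀ x ∈ l', x ∈ C') {q q' : GolayPt} (hq : q ∉ C) (hq' : q' ∉ C') :
    ∃ σ ∈ M24, (∀ i (hi : i < 5), σ (l[i]'(hl ▸ hi)) = l'[i]'(hl' ▸ hi)) ∧ σ q = q' ∧ σ • C = C' := by
  obtain ⟨g, hg, hgo, hgi, hgq⟩ := exists_map_octad_five_out hC l hl hnd hm hq
  obtain ⟨g', hg', hgo', hgi', hgq'⟩ := exists_map_octad_five_out hC' l' hl' hnd' hm' hq'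
  refine ⟨g' * g⁻¹, mul_mem hg' (inv_mem hg), fun i hi => ?_, ?_, ?_⟩
  · rw [Equiv.Perm.mul_apply, ← hgi i hi, Equiv.Perm.inv_def, Equiv.symm_apply_apply, hgi' i hi]
  · rw [Equiv.Perm.mul_apply, ← hgq, Equiv.Perm.inv_def, Equiv.symm_apply_apply, hgq']
  · rw [mul_smul, ← hgo, inv_smul_smul, hgo']

theorem exists_move_out_two {C C' : Finset GolayPt} (hC : C ∈ octads) (hC' : C' ∈ octads) {p q p' q' : GolayPt}
    (hp : p ∉ C) (hq : q ∉ C) (hpq : p ≠ q) (hp' : p' ∉ C') (hq' : q' ∉ C') (hpq' : p' ≠ q') :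
    ∃ σ ∈ M24, σ p = p' ∧ σ q = q' ∧ σ • C = C' := by
  obtain ⟨g, hg, hgo, hg5, hg6⟩ := exists_map_octad_two hC hp hq hpq
  obtain ⟨g', hg', hgo', hg5', hg6'⟩ := exists_map_octad_two hC' hp' hq' hpq'
  refine ⟨g' * g⁻¹, mul_mem hg' (inv_mem hg), ?_, ?_, ?_⟩
  · rw [Equiv.Perm.mul_apply, ← hg5, Equiv.Perm.inv_def, Equiv.symm_apply_apply, hg5']
  · rw [Equiv.Perm.mul_apply, ← hg6, Equiv.Perm.inv_def, Equiv.symm_apply_apply, hg6']
  · rw [mul_smul, ← hgo, inv_smul_smul, hgo']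

theorem exists_move_in_out {C C' : Finset GolayPt} (hC : C ∈ octads) (hC' : C' ∈ octads) {p q p' q' : GolayPt}
    (hp : p ∈ C) (hq : q ∉ C) (hp' : p' ∈ C') (hq' : q' ∉ C') :
    ∃ σ ∈ M24, σ p = p' ∧ σ q = q' ∧ σ • C = C' := by
  obtain ⟨g, hg, hgo, hg0, hg5⟩ := exists_map_octad_in_out hC hp hq
  obtain ⟨g', hg', hgo', hg0', hg5'⟩ := exists_map_octad_in_out hC' hp' hq'
  refine ⟨g' * g⁻¹, mul_mem hg' (inv_mem hg), ?_, ?_, ?_⟩
  · rw [Equiv.Perm.mul_apply, ← hg0, Equiv.Perm.inv_def, Equiv.symm_apply_apply, hg0']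
  · rw [Equiv.Perm.mul_apply, ← hg5, Equiv.Perm.inv_def, Equiv.symm_apply_apply, hg5']
  · rw [mul_smul, ← hgo, inv_smul_smul, hgo']

theorem mem_of_move {σ : Equiv.Perm GolayPt} {C C' : Finset GolayPt} (h : σ • C = C') (i : GolayPt) :
    σ i ∈ C' ↔ i ∈ C := by
  rw [← h, ← Equiv.Perm.smul_def, Finset.smul_mem_smul_finset_iff]

/-- The shape of an octad vector: the octad and its positive entries. -/
theorem octad_vec {x : leechLattice} (hn : sqNorm (x : GolayPt → ℤ) = 32) {p : GolayPt}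
    (hp : (x : GolayPt → ℤ) p = 2 ∨ (x : GolayPt → ℤ) p = -2) :
    ∃ C ∈ octads, ∃ P ⊆ C, (∀ i, (x : GolayPt → ℤ) i = if i ∈ P then 2 else if i ∈ C then -2 else 0) ∧
      ∑ i, (x : GolayPt → ℤ) i = 4 * (P.card : ℤ) - 16 := by
  classical
  have hev : ¬ (x : GolayPt → ℤ) none % 2 = 1 := by
    obtain ⟨m, hpar, -, -⟩ := mem_leechLattice_iff.1 x.2
    have h0 := hpar none; have h1 := hpar p
    simp only [Int.ModEq] at h0 h1
    omega
  rcases (even_shape hn hev).2 with ⟨-, hv4⟩ | ⟨-, C, hC, hin, hout⟩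
  · rcases hv4 p with e | e | e <;> omega
  set P := C.filter fun i => (x : GolayPt → ℤ) i = 2 with hP
  have hv : ∀ i, (x : GolayPt → ℤ) i = if i ∈ P then 2 else if i ∈ C then -2 else 0 := fun i => by
    by_cases hiC : i ∈ C
    · by_cases h2 : (x : GolayPt → ℤ) i = 2
      · have hm : i ∈ P := Finset.mem_filter.2 ⟨hiC, h2⟩
        rw [if_pos hm, h2]
      · have hm : i ∉ P := fun h => h2 (Finset.mem_filter.1 h).2
        rw [if_neg hm, if_pos hiC]
        exact (hin i hiC).resolve_left h2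
    · have hm : i ∉ P := fun h => hiC (Finset.mem_filter.1 h).1
      rw [if_neg hm, if_neg hiC, hout i hiC]
  refine ⟨C, hC, P, Finset.filter_subset _ _, hv, ?_⟩
  have e : ∑ i, (x : GolayPt → ℤ) i = ∑ i ∈ C, (x : GolayPt → ℤ) i :=
    (Finset.sum_subset (Finset.subset_univ C) fun i _ hi => hout i hi).symm
  have e2 : ∀ i ∈ C, (x : GolayPt → ℤ) i = (if i ∈ P then 4 else 0) - 2 := fun i hi => by
    rw [hv i, if_pos hi]; split <;> norm_num
  rw [e, Finset.sum_congr rfl e2, Finset.sum_sub_distrib, ← Finset.sum_filter, Finset.sum_const,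
    Finset.sum_const, show C.filter (fun i => i ∈ P) = P by
      ext i; simp only [Finset.mem_filter]; exact ⟨fun h => h.2, fun h => ⟨(Finset.mem_filter.1 h).1, h⟩⟩,
    hC.2]
  simp only [nsmul_eq_mul]
  push_cast
  ring

end CfsgLib.Leech
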