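import Cfsg.Agent.Lib.Leech.OctadMove
import Cfsg.Agent.Lib.Leech.Configs

/-!
# The minimal vectors attached to a pair with dot product −8
-/

set_option autoImplicit false

open scoped Pointwise

namespace CfsgLib.Leech.PairFour

open Cfsg CfsgLib.Golay CfsgLib.Leech CfsgLib.Leech.Count

/-- The standard second vector, of odd shape. -/
def oddW : GolayPt → ℤ := fun p => if p = pt 1 then -3 else 1

theorem oddW_mem : oddW ∈ leechLattice :=
  even_iff.2 ⟨1, le_rfl, 0, mem_golayList_of_inCode (by decide +kernel), by decide +kernel, by decide +kernel⟩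

/-- The standard second vector in the lattice. -/
def stdO : leechLattice := ⟨oddW, oddW_mem⟩

theorem stdO_facts : sqNorm (stdO : GolayPt → ℤ) = 32 ∧ dotInt (stdV : GolayPt → ℤ) stdO = -8 := by
  constructor
  · show sqNorm oddW = 32; decide +kernel
  · show dotInt base32 oddW = -8; decide +kernel

theorem exists_std {v w x : leechLattice} (hv : sqNorm (v : GolayPt → ℤ) = 32)
    (hw : sqNorm (w : GolayPt → ℤ) = 32) (hx : sqNorm (x : GolayPt → ℤ) = 32)
    (hvw : dotInt (v : GolayPt → ℤ) w = -8) (hvx : dotInt (v : GolayPt → ℤ) x = 0)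
    (hwx : dotInt (w : GolayPt → ℤ) x = 16) :
    ∃ g : Co0, ((g • v : leechLattice) : GolayPt → ℤ) = base32 ∧
      ((g • w : leechLattice) : GolayPt → ℤ) = oddW ∧ ((g • x : leechLattice) : GolayPt → ℤ) = base32neg := by
  classical
  obtain ⟨g, hgv, hgx⟩ := exists_smul_orth hv hx hvx
  set W := ((g • w : leechLattice) : GolayPt → ℤ) with hW
  have h1 : 4 * (W (pt 0) + W (pt 1)) = -8 := by
    rw [← dotInt_base32, ← hgv, hW, dot_smul_co, dotInt_comm, hvw]
  have h2 : 4 * (W (pt 0) - W (pt 1)) = 16 := by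
    rw [← dotInt_base32neg, ← hgx, hW, dot_smul_co, hwx]
  have hWn : sqNorm W = 32 := by rw [hW, sqNorm_smul_co, hw]
  have hodd : W none % 2 = 1 := by
    obtain ⟨m, hpar, -, -⟩ := mem_leechLattice_iff.1 (g • w).2
    have a1 := hpar (pt 0)
    have a2 := hpar none
    rw [← hW] at a1 a2
    simp only [Int.ModEq] at a1 a2
    omega
  obtain ⟨D, p, hD, hp⟩ := odd_normal hWn hodd
  rw [← hW] at hp
  have q0 := hp (pt 0)
  have q1 := hp (pt 1)
  rw [signFlip_apply] at q0 q1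
  have h0D : pt 0 ∉ D := fun h => by rw [if_pos h] at q0; split at q0 <;> omega
  have h1D : pt 1 ∉ D := fun h => by rw [if_pos h] at q1; split at q1 <;> omega
  have hp1 : pt 1 = p := by
    rw [if_neg h1D] at q1
    by_contra h
    rw [if_neg h] at q1
    omega
  refine ⟨monoAut 1 (one_mem _) D hD * g, funext fun i => ?_, funext fun i => ?_, funext fun i => ?_⟩
  · rw [mul_smul, coe_monoAut_smul, hgv]
    show (if i ∈ D then -base32 i else base32 i) = base32 i
    by_cases hi : i ∈ D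
    · rw [if_pos hi]
      simp [base32, show i ≠ pt 0 from fun e => h0D (e ▸ hi), show i ≠ pt 1 from fun e => h1D (e ▸ hi)]
    · rw [if_neg hi]
  · rw [mul_smul, coe_monoAut_smul, ← hW]
    show (if i ∈ D then -W i else W i) = oddW i
    rw [← signFlip_apply, hp i, oddW, hp1]
  · rw [mul_smul, coe_monoAut_smul, hgx]
    show (if i ∈ D then -base32neg i else base32neg i) = base32neg i
    by_cases hi : i ∈ D
    · rw [if_pos hi]
      simp [base32neg, show i ≠ pt 0 from fun e => h0D (e ▸ hi), show i ≠ pt 1 from fun e => h1D (e ▸ hi)]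
    · rw [if_neg hi]

theorem sum_of_dot (y : GolayPt → ℤ) : dotInt oddW y = (∑ i, y i) - 4 * y (pt 1) := by
  have e : oddW = (fun _ => (1 : ℤ)) + Pi.single (pt 1) (-4) := by decide +kernel
  rw [dotInt_comm, e, dotInt_add_right, dotInt_single]
  simp [dotInt, mul_comm]
  ring

/-- Automorphisms fixing the standard triple. -/
def Fixes (g : Co0) : Prop := g • stdV = stdV ∧ g • stdO = stdO ∧ g • stdW = stdW

theorem perm_fixes {σ : Equiv.Perm GolayPt} (hσ : σ ∈ M24) (h01 : Fix01 σ) :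
    Fixes (monoAut σ hσ ∅ codeSet_empty) :=
  ⟨perm_fixes_const hσ h01 (z := stdV) 0 fun i h0 h1 => by simp [stdV, base32, h0, h1],
    perm_fixes_const hσ h01 (z := stdO) 1 fun i _ h1 => by simp [stdO, oddW, h1],
    perm_fixes_const hσ h01 (z := stdW) 0 fun i h0 h1 => by simp [stdW, base32neg, h0, h1]⟩

theorem fiber_330 {y y' : leechLattice} (hn : sqNorm (y : GolayPt → ℤ) = 32) (hn' : sqNorm (y' : GolayPt → ℤ) = 32)
    (h0 : (y : GolayPt → ℤ) (pt 0) = 0) (h0' : (y' : GolayPt → ℤ) (pt 0) = 0)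
    (h1 : (y : GolayPt → ℤ) (pt 1) = 0) (h1' : (y' : GolayPt → ℤ) (pt 1) = 0)
    (hs : ∑ i, (y : GolayPt → ℤ) i = 16) (hs' : ∑ i, (y' : GolayPt → ℤ) i = 16) :
    ∃ g, Fixes g ∧ g • y = y' := by
  classical
  have key : ∀ {y : leechLattice}, sqNorm (y : GolayPt → ℤ) = 32 → (y : GolayPt → ℤ) (pt 0) = 0 →
      (y : GolayPt → ℤ) (pt 1) = 0 → ∑ i, (y : GolayPt → ℤ) i = 16 →
      ∃ C ∈ octads, pt 0 ∉ C ∧ pt 1 ∉ C ∧ ∀ i, (y : GolayPt → ℤ) i = if i ∈ C then 2 else 0 := by
    intro y hn h0 h1 hs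
    have hev : ¬ (y : GolayPt → ℤ) none % 2 = 1 := by
      obtain ⟨m, hpar, -, -⟩ := mem_leechLattice_iff.1 y.2
      have a1 := hpar (pt 0); have a2 := hpar none
      simp only [Int.ModEq] at a1 a2
      omega
    rcases (even_shape hn hev).2 with ⟨-, hv⟩ | ⟨-, C, hC, hin, hout⟩
    · exfalso
      have h2 : ∑ i, 4 * (y : GolayPt → ℤ) i ≤ ∑ i, (y : GolayPt → ℤ) i ^ 2 := Finset.sum_le_sum fun i _ => by
        rcases hv i with e | e | e <;> rw [e] <;> norm_num
      rw [← Finset.mul_sum, hs] at h2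
      rw [sqNorm] at hn
      omega
    · have hP : ∀ i ∈ C, (y : GolayPt → ℤ) i = 2 := by
        intro i hi
        have e : ∑ j ∈ C, (2 - (y : GolayPt → ℤ) j) = 0 := by
          rw [Finset.sum_sub_distrib, Finset.sum_subset (Finset.subset_univ C) (fun j _ hj => hout j hj), hs,
            Finset.sum_const, hC.2]
          norm_num
        have h := (Finset.sum_eq_zero_iff_of_nonneg fun j hj => by
          rcases hin j hj with q | q <;> rw [q] <;> norm_num).1 e i hi
        omega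
      refine ⟨C, hC, fun h => ?_, fun h => ?_, fun i => ?_⟩
      · have := hP _ h; omega
      · have := hP _ h; omega
      · by_cases hi : i ∈ C
        · rw [if_pos hi, hP i hi]
        · rw [if_neg hi, hout i hi]
  obtain ⟨C, hC, c0, c1, hv⟩ := key hn h0 h1 hs
  obtain ⟨C', hC', c0', c1', hv'⟩ := key hn' h0' h1' hs'
  obtain ⟨σ, hσ, e0, e1, eC⟩ := exists_move_out_two hC hC' c0 c1 pt01 c0' c1' pt01
  refine ⟨_, perm_fixes hσ ⟨e0, e1⟩, perm_smul_eq hσ fun i => ?_⟩
  rw [hv, hv']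
  simp only [mem_of_move eC]

theorem fiber_462 {y y' : leechLattice} (hn : sqNorm (y : GolayPt → ℤ) = 32) (hn' : sqNorm (y' : GolayPt → ℤ) = 32)
    (h0 : (y : GolayPt → ℤ) (pt 0) = 2) (h0' : (y' : GolayPt → ℤ) (pt 0) = 2)
    (h1 : (y : GolayPt → ℤ) (pt 1) = -2) (h1' : (y' : GolayPt → ℤ) (pt 1) = -2)
    (hs : ∑ i, (y : GolayPt → ℤ) i = 8) (hs' : ∑ i, (y' : GolayPt → ℤ) i = 8) :
    ∃ g, Fixes g ∧ g • y = y' := by
  classical
  have key : ∀ {y : leechLattice}, sqNorm (y : GolayPt → ℤ) = 32 → (y : GolayPt → ℤ) (pt 0) = 2 →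
      (y : GolayPt → ℤ) (pt 1) = -2 → ∑ i, (y : GolayPt → ℤ) i = 8 →
      ∃ C ∈ octads, ∃ b, ∃ t : List GolayPt, (pt 0 :: pt 1 :: b :: t).length = 5 ∧
        (pt 0 :: pt 1 :: b :: t).Nodup ∧ (∀ x ∈ pt 0 :: pt 1 :: b :: t, x ∈ C) ∧
        ∀ i, (y : GolayPt → ℤ) i = if i = pt 1 ∨ i = b then -2 else if i ∈ C then 2 else 0 := by
    intro y hn h0 h1 hs
    obtain ⟨C, hC, P, hPC, hv, hsum⟩ := octad_vec hn (Or.inr h1)
    have hP : P.card = 6 := by omega
    have hN : (C \ P).card = 2 := by rw [Finset.card_sdiff_of_subset hPC, hC.2, hP]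
    have h0C : pt 0 ∈ C ∧ pt 0 ∈ P := by
      rw [hv] at h0
      by_cases h : pt 0 ∈ P
      · exact ⟨hPC h, h⟩
      · exfalso; rw [if_neg h] at h0; split at h0 <;> omega
    have h1N : pt 1 ∈ C \ P := by
      rw [hv] at h1
      rw [Finset.mem_sdiff]
      by_cases h : pt 1 ∈ P
      · rw [if_pos h] at h1; omega
      · rw [if_neg h] at h1
        refine ⟨?_, h⟩
        by_contra hc
        rw [if_neg hc] at h1; omega
    obtain ⟨b, hb⟩ := Finset.card_eq_one.1 (show ((C \ P).erase (pt 1)).card = 1 by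
      rw [Finset.card_erase_of_mem h1N, hN])
    have hbm : b ∈ (C \ P).erase (pt 1) := by rw [hb]; exact Finset.mem_singleton_self b
    rw [Finset.mem_erase, Finset.mem_sdiff] at hbm
    have b0 : pt 0 ≠ b := fun e => hbm.2.2 (e ▸ h0C.2)
    obtain ⟨t, t1, t2, t3⟩ := exists_five hC [pt 0, pt 1, b] (by simp [pt01, b0, hbm.1.symm])
      (by simp [h0C.1, (Finset.mem_sdiff.1 h1N).1, hbm.2.1]) (by simp)
    refine ⟨C, hC, b, t, t1, t2, t3, fun i => ?_⟩
    have hiff : (i = pt 1 ∨ i = b) ↔ (i ∈ C ∧ i ∉ P) := by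
      constructor
      · rintro (e | e) <;> rw [e]
        exacts [Finset.mem_sdiff.1 h1N, hbm.2]
      · intro h
        by_cases e : i = pt 1
        · exact Or.inl e
        · have hm : i ∈ (C \ P).erase (pt 1) := Finset.mem_erase.2 ⟨e, Finset.mem_sdiff.2 h⟩
          rw [hb] at hm
          exact Or.inr (Finset.mem_singleton.1 hm)
    rw [hv, if_congr hiff rfl rfl]
    by_cases hiP : i ∈ P
    · rw [if_pos hiP, if_neg (fun h => h.2 hiP), if_pos (hPC hiP)]
    · rw [if_neg hiP]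
      by_cases hiC : i ∈ C
      · rw [if_pos hiC, if_pos ⟨hiC, hiP⟩]
      · rw [if_neg hiC, if_neg (fun h => hiC h.1)]
        simp [hiC]
  obtain ⟨C, hC, b, t, hl, hnd, hm, hv⟩ := key hn h0 h1 hs
  obtain ⟨C', hC', b', t', hl', hnd', hm', hv'⟩ := key hn' h0' h1' hs'
  obtain ⟨σ, hσ, hi, eC⟩ := exists_move_five hC hC' _ _ hl hl' hnd hnd' hm hm'
  have e0 : σ (pt 0) = pt 0 := hi 0 (by norm_num)
  have e1 : σ (pt 1) = pt 1 := hi 1 (by norm_num)
  have eb : σ b = b' := hi 2 (by norm_num)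
  refine ⟨_, perm_fixes hσ ⟨e0, e1⟩, perm_smul_eq hσ fun i => ?_⟩
  rw [hv, hv']
  have q1 : σ i = pt 1 ↔ i = pt 1 := ⟨fun h => σ.injective (h.trans e1.symm), fun h => by rw [h, e1]⟩
  have qb : σ i = b' ↔ i = b := ⟨fun h => σ.injective (h.trans eb.symm), fun h => by rw [h, eb]⟩
  simp only [q1, qb, mem_of_move eC]

theorem fiber_1232 {y y' : leechLattice} (hn : sqNorm (y : GolayPt → ℤ) = 32) (hn' : sqNorm (y' : GolayPt → ℤ) = 32)
    (h0 : (y : GolayPt → ℤ) (pt 0) = 1) (h0' : (y' : GolayPt → ℤ) (pt 0) = 1)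
    (h1 : (y : GolayPt → ℤ) (pt 1) = -1) (h1' : (y' : GolayPt → ℤ) (pt 1) = -1)
    (hs : ∑ i, (y : GolayPt → ℤ) i = 12) (hs' : ∑ i, (y' : GolayPt → ℤ) i = 12) :
    ∃ g, Fixes g ∧ g • y = y' := by
  classical
  have key : ∀ {y : leechLattice}, sqNorm (y : GolayPt → ℤ) = 32 → (y : GolayPt → ℤ) (pt 0) = 1 →
      (y : GolayPt → ℤ) (pt 1) = -1 → ∑ i, (y : GolayPt → ℤ) i = 12 →
      ∃ D ∈ octads, ∃ p, ∃ t : List GolayPt, (pt 1 :: p :: t).length = 5 ∧ (pt 1 :: p :: t).Nodup ∧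
        (∀ x ∈ pt 1 :: p :: t, x ∈ D) ∧ pt 0 ∉ D ∧
        ∀ i, (y : GolayPt → ℤ) i = if i = p then 3 else if i ∈ D then -1 else 1 := by
    intro y hn h0 h1 hs
    have hodd : (y : GolayPt → ℤ) none % 2 = 1 := by
      obtain ⟨m, hpar, -, -⟩ := mem_leechLattice_iff.1 y.2
      have a1 := hpar (pt 0); have a2 := hpar none
      simp only [Int.ModEq] at a1 a2
      omega
    obtain ⟨D, p, hD, hp⟩ := odd_normal hn hodd
    have hv : ∀ i, (y : GolayPt → ℤ) i =
        (if i ∈ D then -1 else 1) * (if i = p then -3 else 1) := fun i => by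
      rw [← hp i, signFlip_apply]
      by_cases hi : i ∈ D <;> simp [hi]
    have hp0 : pt 0 ≠ p := fun e => by
      rw [hv, if_pos e] at h0; split at h0 <;> omega
    have hp1 : pt 1 ≠ p := fun e => by
      rw [hv, if_pos e] at h1; split at h1 <;> omega
    have d0 : pt 0 ∉ D := fun h => by rw [hv, if_pos h, if_neg hp0] at h0; omega
    have d1 : pt 1 ∈ D := by
      by_contra h
      rw [hv, if_neg h, if_neg hp1] at h1; omega
    have hsum : (∑ i, (y : GolayPt → ℤ) i) = 24 - 2 * (D.card : ℤ) + (if p ∈ D then 4 else -4) := by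
      have e : ∀ i, (y : GolayPt → ℤ) i =
          (1 - 2 * (if i ∈ D then 1 else 0)) + (if i = p then (if p ∈ D then 4 else -4) else 0) := fun i => by
        rw [hv i]
        by_cases hi : i = p
        · subst hi; by_cases h : i ∈ D <;> simp [h]
        · by_cases h : i ∈ D <;> simp [h, hi]
      rw [Finset.sum_congr rfl fun i _ => e i, Finset.sum_add_distrib, Finset.sum_sub_distrib, ← Finset.mul_sum,
        Finset.sum_ite_eq' Finset.univ p, if_pos (Finset.mem_univ p), Finset.sum_boole]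
      simp [card_golayPt]
    have h8 := eight_le_card hD ⟨_, d1⟩
    have hpD : p ∈ D := by
      by_contra h
      rw [if_neg h] at hsum; omega
    rw [if_pos hpD] at hsum
    have hDo : D ∈ octads := ⟨hD, by omega⟩
    obtain ⟨t, t1, t2, t3⟩ := exists_five hDo [pt 1, p] (by simp [hp1]) (by simp [d1, hpD]) (by simp)
    refine ⟨D, hDo, p, t, t1, t2, t3, d0, fun i => ?_⟩
    rw [hv i]
    by_cases hi : i = p
    · subst hi; simp [hpD]
    · by_cases h : i ∈ D <;> simp [h, hi]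
  obtain ⟨D, hD, p, t, hl, hnd, hm, d0, hv⟩ := key hn h0 h1 hs
  obtain ⟨D', hD', p', t', hl', hnd', hm', d0', hv'⟩ := key hn' h0' h1' hs'
  obtain ⟨σ, hσ, hi, e0, eD⟩ := exists_move_five_out hD hD' _ _ hl hl' hnd hnd' hm hm' d0 d0'
  have e1 : σ (pt 1) = pt 1 := hi 0 (by norm_num)
  have ep : σ p = p' := hi 1 (by norm_num)
  refine ⟨_, perm_fixes hσ ⟨e0, e1⟩, perm_smul_eq hσ fun i => ?_⟩
  rw [hv, hv']
  have qp : σ i = p' ↔ i = p := ⟨fun h => σ.injective (h.trans ep.symm), fun h => by rw [h, ep]⟩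
  simp only [qp, mem_of_move eD]

theorem std_transitive {d : ℤ} (hd : d = 0 ∨ d = 16 ∨ d = 8) {y y' : leechLattice}
    (hn : sqNorm (y : GolayPt → ℤ) = 32) (hn' : sqNorm (y' : GolayPt → ℤ) = 32)
    (hv : dotInt (stdV : GolayPt → ℤ) y = 0) (hv' : dotInt (stdV : GolayPt → ℤ) y' = 0)
    (hw : dotInt (stdO : GolayPt → ℤ) y = 16) (hw' : dotInt (stdO : GolayPt → ℤ) y' = 16)
    (hx : dotInt (stdW : GolayPt → ℤ) y = d) (hx' : dotInt (stdW : GolayPt → ℤ) y' = d) :
    ∃ g, Fixes g ∧ g • y = y' := by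
  change dotInt base32 _ = _ at hv hv'
  change dotInt oddW _ = _ at hw hw'
  change dotInt base32neg _ = _ at hx hx'
  rw [dotInt_comm, dotInt_base32] at hv hv'
  rw [dotInt_comm, dotInt_base32neg] at hx hx'
  rw [sum_of_dot] at hw hw'
  rcases hd with rfl | rfl | rfl
  · exact fiber_330 hn hn' (by omega) (by omega) (by omega) (by omega) (by omega) (by omega)
  · exact fiber_462 hn hn' (by omega) (by omega) (by omega) (by omega) (by omega) (by omega)
  · exact fiber_1232 hn hn' (by omega) (by omega) (by omega) (by omega) (by omega) (by omega)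

set_option maxHeartbeats 4000000 in
theorem ncard_attached {v w : leechLattice} (h : Co0) (hv : ((h • v : leechLattice) : GolayPt → ℤ) = base32)
    (hw : ((h • w : leechLattice) : GolayPt → ℤ) = oddW) :
    {y : leechLattice | sqNorm (y : GolayPt → ℤ) = 32 ∧ dotInt (v : GolayPt → ℤ) y = 0 ∧
      dotInt (w : GolayPt → ℤ) y = 16}.ncard = 2025 := by
  rw [ncard_dot_two h hv hw, ncard_sect_two maskTwo_ok.1 maskTwo_ok.2.1 (fun j => [4, 4, 0].getD j 0)
    (fun j => [1, -3, 1].getD j 0) (a := base32) (b := oddW) (by decide +kernel) (by decide +kernel) 0 16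
    maskTwo_ok.2.2]
  decide +kernel

set_option maxHeartbeats 4000000 in
theorem ncard_classes {v w x : leechLattice} (h : Co0) (hv : ((h • v : leechLattice) : GolayPt → ℤ) = base32)
    (hw : ((h • w : leechLattice) : GolayPt → ℤ) = oddW)
    (hx : ((h • x : leechLattice) : GolayPt → ℤ) = base32neg) :
    ∀ dn ∈ [((0 : ℤ), 330), (16, 462), (8, 1232)],
      {y : leechLattice | sqNorm (y : GolayPt → ℤ) = 32 ∧ dotInt (v : GolayPt → ℤ) y = 0 ∧
        dotInt (w : GolayPt → ℤ) y = 16 ∧ dotInt (x : GolayPt → ℤ) y = dn.1}.ncard = dn.2 := by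
  intro dn hdn
  rw [ncard_dot_three h hv hw hx, ncard_sect_three maskTwo_ok.1 maskTwo_ok.2.1 (fun j => [4, 4, 0].getD j 0)
    (fun j => [1, -3, 1].getD j 0) (fun j => [4, -4, 0].getD j 0) (a := base32) (b := oddW) (f := base32neg)
    (by decide +kernel) (by decide +kernel) (by decide +kernel) 0 16 dn.1 maskTwo_ok.2.2]
  simp only [List.mem_cons, List.not_mem_nil, or_false] at hdn
  rcases hdn with rfl | rfl | rfl <;> decide +kernel

end CfsgLib.Leech.PairFour
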