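import Cfsg.Agent.Lib.Leech.Pairs

/-!
# Orbits on the triples behind the McLaughlin and Higman–Sims configurations
-/

set_option autoImplicit false

open scoped Pointwise symmDiff

namespace CfsgLib.Leech

open Cfsg CfsgLib.Golay

/-- Two triples with the same standard form differ by an automorphism. -/
theorem exists_map_triple {a b c a' b' c' : leechLattice} {x y z : GolayPt → ℤ}
    (h : ∃ g : Co0, ((g • a : leechLattice) : GolayPt → ℤ) = x ∧ ((g • b : leechLattice) : GolayPt → ℤ) = y ∧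
      ((g • c : leechLattice) : GolayPt → ℤ) = z)
    (h' : ∃ g : Co0, ((g • a' : leechLattice) : GolayPt → ℤ) = x ∧
      ((g • b' : leechLattice) : GolayPt → ℤ) = y ∧ ((g • c' : leechLattice) : GolayPt → ℤ) = z) :
    ∃ g : Co0, g • a = a' ∧ g • b = b' ∧ g • c = c' := by
  obtain ⟨g, h1, h2, h3⟩ := h
  obtain ⟨g', h1', h2', h3'⟩ := h'
  refine ⟨g'⁻¹ * g, ?_, ?_, ?_⟩
  · rw [mul_smul, show g • a = g' • a' from Subtype.ext (h1.trans h1'.symm), inv_smul_smul]
  · rw [mul_smul, show g • b = g' • b' from Subtype.ext (h2.trans h2'.symm), inv_smul_smul]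
  · rw [mul_smul, show g • c = g' • c' from Subtype.ext (h3.trans h3'.symm), inv_smul_smul]

/-- The vector of squared length 48 in the standard Higman–Sims triple. -/
def hsU : GolayPt → ℤ := fun p => if p = pt 0 then 5 else 1

/-- A vector of squared length 48 and parities fixed at two points. -/
theorem exists_triple_hs {v w x : leechLattice} (hv : sqNorm (v : GolayPt → ℤ) = 48)
    (hw : sqNorm (w : GolayPt → ℤ) = 48) (hvw : dotInt (v : GolayPt → ℤ) w = -32)
    (hx : sqNorm (x : GolayPt → ℤ) = 32) (hdv : dotInt (v : GolayPt → ℤ) x = 24)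
    (hdw : dotInt (w : GolayPt → ℤ) x = -24) :
    ∃ g : Co0, ((g • x : leechLattice) : GolayPt → ℤ) = base32 ∧
      ((g • (v + w) : leechLattice) : GolayPt → ℤ) = base32neg ∧
      ((g • v : leechLattice) : GolayPt → ℤ) = hsU := by
  classical
  have hy : sqNorm ((v + w : leechLattice) : GolayPt → ℤ) = 32 := by
    rw [AddSubgroup.coe_add, sqNorm_add, hv, hw, hvw]; norm_num
  have hd : dotInt (x : GolayPt → ℤ) ((v + w : leechLattice) : GolayPt → ℤ) = 0 := by
    rw [AddSubgroup.coe_add, dotInt_add_right, dotInt_comm, hdv, dotInt_comm, hdw]; norm_num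
  obtain ⟨g, hgx, hgy⟩ := exists_smul_orth hx hy hd
  set V := ((g • v : leechLattice) : GolayPt → ℤ) with hV
  have h1 : V (pt 0) + V (pt 1) = 6 := by
    have h := dot_smul_co g v x
    rw [hgx, dotInt_base32, hdv, ← hV] at h
    omega
  have h2 : V (pt 0) - V (pt 1) = 4 := by
    have h := dot_smul_co g v (v + w)
    rw [hgy, dotInt_base32neg, AddSubgroup.coe_add, dotInt_add_right, hvw, dotInt_self, hv, ← hV] at h
    omega
  have hVn : sqNorm V = 48 := by rw [hV, sqNorm_smul_co, hv]
  have hodd : V none % 2 = 1 := by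
    obtain ⟨m, hpar, -, -⟩ := mem_leechLattice_iff.1 (g • v).2
    have a1 := hpar (pt 0)
    have a2 := hpar none
    rw [← hV] at a1 a2
    simp only [Int.ModEq] at a1 a2
    omega
  obtain ⟨D, hD, hD1⟩ := exists_normal_odd (g • v).2 hodd
  rw [← hV] at hD1
  have h0 : pt 0 ∉ D := fun h => by
    have := hD1 (pt 0)
    rw [signFlip_apply, if_pos h] at this
    omega
  have h1D : pt 1 ∉ D := fun h => by
    have := hD1 (pt 1)
    rw [signFlip_apply, if_pos h] at this
    omega
  have hrest : ∀ p, p ≠ pt 0 → signFlip D V p = 1 := by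
    intro p hp
    by_contra hne
    have hs := normal_sum ({pt 0, p} : Finset GolayPt) hD1
    rw [hVn, Finset.sum_pair hp.symm, signFlip_apply D V (pt 0), if_neg h0,
      show V (pt 0) = 5 by omega] at hs
    rcases (normal_vals hVn (by norm_num) hD1 p).resolve_left hne with h | h <;>
      rw [h] at hs <;> norm_num at hs
  refine ⟨monoAut 1 (one_mem _) D hD * g, funext fun p => ?_, funext fun p => ?_, funext fun p => ?_⟩
  · rw [mul_smul, coe_monoAut_smul, hgx]
    show (if p ∈ D then -base32 p else base32 p) = base32 p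
    by_cases hp : p ∈ D
    · rw [if_pos hp]
      simp [base32, show p ≠ pt 0 from fun e => h0 (e ▸ hp), show p ≠ pt 1 from fun e => h1D (e ▸ hp)]
    · rw [if_neg hp]
  · rw [mul_smul, coe_monoAut_smul, hgy]
    show (if p ∈ D then -base32neg p else base32neg p) = base32neg p
    by_cases hp : p ∈ D
    · rw [if_pos hp]
      simp [base32neg, show p ≠ pt 0 from fun e => h0 (e ▸ hp), show p ≠ pt 1 from fun e => h1D (e ▸ hp)]
    · rw [if_neg hp]
  · rw [mul_smul, coe_monoAut_smul, ← hV]
    show (if p ∈ D then -V p else V p) = hsU p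
    rw [← signFlip_apply]
    by_cases hp : p = pt 0
    · subst hp; rw [signFlip_apply, if_neg h0, hsU, if_pos rfl]; omega
    · rw [hrest p hp, hsU, if_neg hp]

/-- An element of the code's group carrying the base octad, two of its points and one outside
point to prescribed ones. -/
theorem exists_map_octad_two_in_out {o : Finset GolayPt} (ho : o ∈ octads) {p p' q : GolayPt}
    (hp : p ∈ o) (hp' : p' ∈ o) (hpp : p ≠ p') (hq : q ∉ o) :
    ∃ g ∈ M24, g • toSet baseOctad = o ∧ g (pt 0) = p ∧ g (pt 1) = p' ∧ g (pt 5) = q := by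
  classical
  have h8 : o.card = 8 := ho.2
  obtain ⟨T, hT, hT3⟩ := Finset.exists_subset_card_eq (s := (o.erase p).erase p') (n := 3)
    (by rw [Finset.card_erase_of_mem (Finset.mem_erase.2 ⟨hpp.symm, hp'⟩),
      Finset.card_erase_of_mem hp]; omega)
  have hpT : p ∉ T := fun h => (Finset.mem_erase.1 (Finset.mem_of_mem_erase (hT h))).1 rfl
  have hpT' : p' ∉ T := fun h => (Finset.mem_erase.1 (hT h)).1 rfl
  have hnd : (p :: p' :: T.toList).Nodup := by
    simp [hpp, hpT, hpT', T.nodup_toList]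
  obtain ⟨g, hg, hgi⟩ := exists_map_five (p :: p' :: T.toList) (by simp [hT3]) hnd
  have hgo : g • toSet baseOctad = o := by
    refine octad_unique (octads_smul hg baseOctad_mem) ho ?_
    have h5 : (insert p (insert p' T)).card = 5 := by
      rw [Finset.card_insert_of_notMem (by simp [hpp, hpT]), Finset.card_insert_of_notMem hpT', hT3]
    rw [← h5]
    refine Finset.card_le_card fun x hx => Finset.mem_inter.2 ⟨?_, ?_⟩
    · obtain ⟨i, hi, rfl⟩ := List.mem_iff_getElem.1 (show x ∈ p :: p' :: T.toList by simpa using hx)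
      have hi5 : i < 5 := by simpa [hT3] using hi
      rw [← hgi i hi5]
      refine Finset.smul_mem_smul_finset ((pt_mem_toSet (by omega)).2 ?_)
      interval_cases i <;> decide +kernel
    · rcases Finset.mem_insert.1 hx with rfl | h
      · exact hp
      rcases Finset.mem_insert.1 h with rfl | h
      · exact hp'
      · exact Finset.mem_of_mem_erase (Finset.mem_of_mem_erase (hT h))
  have hgp : g (pt 0) = p := hgi 0 (by omega)
  have hgp' : g (pt 1) = p' := hgi 1 (by omega)
  have hreps : RepsMem ptEquiv M24 [lastLevel] :=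
    chainCheck_reps _ _ lastLevel_check m24ChainGens_mem
  obtain ⟨hT', himg, -⟩ := level_facts ptEquiv M24 (chainCheck_ok lastLevel_check) hreps
  obtain ⟨hb, himgs, -⟩ := lastLevel_facts
  have h5 : (ptEquiv (pt 5)).val = lastLevel.base := by rw [hb, ptEquiv_pt (by omega)]
  have hout : (ptEquiv (g⁻¹ q)).val ∈ lastLevel.imgs := by
    refine himgs _ (ptEquiv _).isLt ?_
    rw [Bool.eq_false_iff]
    intro h
    refine hq ?_
    have := Finset.smul_mem_smul_finset (a := g) (mem_toSet.2 h)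
    rw [hgo] at this
    simpa using this
  rw [← himg (pt 5) h5] at hout
  obtain ⟨t, ht, hte⟩ := List.mem_map.1 hout
  have htp : t (pt 5) = g⁻¹ q := ptEquiv.injective (Fin.ext hte)
  refine ⟨g * t, mul_mem hg (hT' t ht).1, ?_, ?_, ?_, ?_⟩
  · rw [mul_smul, invOn_baseOctad M24 le_rfl t (hT' t ht).1 fun q hq => (hT' t ht).2 q (by
      simp only [List.mem_cons, List.not_mem_nil, or_false] at hq ⊢; omega), hgo]
  · rw [Equiv.Perm.mul_apply, (hT' t ht).2 (pt 0) (by rw [ptEquiv_pt (by omega)]; simp), hgp]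
  · rw [Equiv.Perm.mul_apply, (hT' t ht).2 (pt 1) (by rw [ptEquiv_pt (by omega)]; simp), hgp']
  · rw [Equiv.Perm.mul_apply, htp]; simp

/-- A minimal vector with an entry four and an entry zero has one further non-zero entry. -/
theorem exists_other {W : GolayPt → ℤ} (hW : W ∈ leechLattice) (hWn : sqNorm W = 32)
    {p q : GolayPt} (hp : W p = 4 ∨ W p = -4) (hq : W q = 0) :
    ∃ a, a ≠ p ∧ (W a = 4 ∨ W a = -4) ∧ ∀ r, r ≠ p → r ≠ a → W r = 0 := by
  classical
  obtain ⟨m, hpar, hsum, -⟩ := mem_leechLattice_iff.1 hW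
  have hodd : ¬ W none % 2 = 1 := by
    have h1 := hpar q
    have h2 := hpar none
    simp only [Int.ModEq] at h1 h2
    omega
  obtain ⟨C, hC, hin, hout⟩ := even_cases hW hodd
  have hC0 : C = ∅ := by
    by_contra hne
    have h8 := eight_le_card hC (Finset.nonempty_iff_ne_empty.2 hne)
    have h0 : p ∉ C := fun h => by have := hin _ h; omega
    have := (even_vals hWn (by norm_num) hC hin hout p).2 h0
    omega
  subst hC0
  have hval : ∀ r, W r = 0 ∨ W r = 4 ∨ W r = -4 := fun r => by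
    have := (even_vals hWn (by norm_num) hC hin hout r).2 (Finset.notMem_empty r); omega
  have hsq : ∀ r, W r ≠ 0 → W r ^ 2 = 16 := fun r hr => by
    rcases (hval r).resolve_left hr with h | h <;> rw [h] <;> norm_num
  obtain ⟨a, hap, hane⟩ : ∃ a, a ≠ p ∧ W a ≠ 0 := by
    by_contra h
    push Not at h
    rw [sqNorm, Finset.sum_eq_single p (fun r _ hr => by rw [h r hr]; norm_num) (by simp),
      hsq p (by omega)] at hWn
    norm_num at hWn
  refine ⟨a, hap, (hval a).resolve_left hane, fun r hrp hra => ?_⟩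
  by_contra hne
  have hs := Finset.sum_le_sum_of_subset_of_nonneg (f := fun i => W i ^ 2)
    (Finset.subset_univ ({p, a, r} : Finset GolayPt)) fun i _ _ => sq_nonneg _
  rw [Finset.sum_insert (by simp [hap.symm, hrp.symm]), Finset.sum_pair hra.symm, hsq p (by omega),
    hsq a hane, hsq r hne] at hs
  rw [sqNorm] at hWn
  omega

/-- The second minimal vector of the standard McLaughlin triple. -/
def mclX : GolayPt → ℤ := fun p => if p = pt 5 then 4 else if p = pt 1 then -4 else 0

/-- The vector of squared length 48 of the standard McLaughlin triple. -/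
def mclU : GolayPt → ℤ := fun p =>
  if p = pt 5 then 4 else if p = pt 1 then -2 else if baseOctad.testBit (ptEquiv p).val then 2 else 0

/-- Moving the vector of squared length 48 to the coordinates of the even kind. -/
theorem exists_refine_mcl {v x u : leechLattice} (hv : (v : GolayPt → ℤ) = base32)
    (hx0 : (x : GolayPt → ℤ) (pt 0) = 4) (hx1 : (x : GolayPt → ℤ) (pt 1) = 0)
    (hx2 : (x : GolayPt → ℤ) (pt 2) = -4) (hx3 : (x : GolayPt → ℤ) (pt 3) = 0)
    (hu : sqNorm (u : GolayPt → ℤ) = 48)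
    (h01 : (u : GolayPt → ℤ) (pt 0) + (u : GolayPt → ℤ) (pt 1) = 6)
    (h02 : (u : GolayPt → ℤ) (pt 0) - (u : GolayPt → ℤ) (pt 2) = 6) :
    ∃ g : Co0, ((g • v : leechLattice) : GolayPt → ℤ) = base32 ∧
      ((g • x : leechLattice) : GolayPt → ℤ) (pt 0) = 4 ∧
      ((g • x : leechLattice) : GolayPt → ℤ) (pt 1) = 0 ∧
      ((g • u : leechLattice) : GolayPt → ℤ) (pt 0) = 4 ∧
      ((g • u : leechLattice) : GolayPt → ℤ) (pt 1) = 2 := by
  classical
  set U := (u : GolayPt → ℤ) with hU
  have d : pt 0 ≠ pt 1 ∧ pt 0 ≠ pt 2 ∧ pt 0 ≠ pt 3 ∧ pt 1 ≠ pt 2 ∧ pt 1 ≠ pt 3 ∧ pt 2 ≠ pt 3 := by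
    decide +kernel
  by_cases hodd : U none % 2 = 1
  · obtain ⟨D, hD, hD1⟩ := exists_normal_odd u.2 hodd
    have hs := normal_sum ({pt 0, pt 1, pt 2, pt 3} : Finset GolayPt) hD1
    have esq : ∀ p, signFlip D U p ^ 2 = U p ^ 2 := fun p => by rw [signFlip_apply]; split <;> ring
    rw [← hU, hu, Finset.sum_insert (by simp [d.1, d.2.1, d.2.2.1]),
      Finset.sum_insert (by simp [d.2.2.2.1, d.2.2.2.2.1]), Finset.sum_pair d.2.2.2.2.2,
      esq, esq, esq, esq] at hs
    have habs : ∀ p, U p = 1 ∨ U p = -1 ∨ U p = 3 ∨ U p = -3 ∨ U p = 5 ∨ U p = -5 := fun p => by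
      have := normal_vals hu (by norm_num) hD1 p
      rw [signFlip_apply] at this
      split at this <;> omega
    have k0 := habs (pt 0)
    have k1 := habs (pt 1)
    have k2 := habs (pt 2)
    have k3 := habs (pt 3)
    have hcase : (U (pt 0) = 5 ∧ U (pt 1) = 1 ∧ U (pt 2) = -1) ∨
        (U (pt 0) = 3 ∧ U (pt 1) = 3 ∧ U (pt 2) = -3) := by
      rcases (show (U (pt 0) = 5 ∧ U (pt 1) = 1 ∧ U (pt 2) = -1) ∨
          (U (pt 0) = 3 ∧ U (pt 1) = 3 ∧ U (pt 2) = -3) ∨
          (U (pt 0) = 1 ∧ U (pt 1) = 5 ∧ U (pt 2) = -5) by omega) with h | h | ⟨a, b, c⟩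
      · exact Or.inl h
      · exact Or.inr h
      · rw [a, b, c] at hs; nlinarith
    have h3 : U (pt 3) = 1 ∨ U (pt 3) = -1 := by
      rcases hcase with ⟨a, b, c⟩ | ⟨a, b, c⟩ <;> rw [a, b, c] at hs <;>
        rcases k3 with h | h | h | h | h | h <;> first
          | exact Or.inl h
          | exact Or.inr h
          | (rw [h] at hs; norm_num at hs)
    set t : ℤ := if U (pt 0) = 5 then 4 * U (pt 3) else -4 * U (pt 3) with ht
    have ht4 : t = 4 ∨ t = -4 := by rw [ht]; split <;> omega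
    have n2 := ne_zero_one_list 2 (by simp)
    have n3 := ne_zero_one_list 3 (by simp)
    set z : GolayPt → ℤ := Pi.single (pt 2) (-4) + Pi.single (pt 3) t with hzdef
    have hz : z ∈ leechLattice := by
      refine mem_leechLattice_iff_form.2 ⟨⟨0, ∅, Pi.single (pt 2) (-1) + Pi.single (pt 3) (t / 4),
        codeSet_empty, fun i => ?_, ?_⟩⟩
      · simp only [hzdef, indi, Finset.notMem_empty, if_false, Pi.add_apply, Pi.single_apply]
        split_ifs <;> omega
      · simp only [hzdef, Pi.add_apply, Finset.sum_add_distrib, Finset.sum_pi_single', Finset.mem_univ, if_true]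
        simp only [Int.ModEq]; omega
    have hzn : sqNorm z = 32 := by
      rw [hzdef, sqNorm_add, sqNorm_single, sqNorm_single, dotInt_single,
        Pi.single_eq_of_ne d.2.2.2.2.2.symm]
      rcases ht4 with h | h <;> rw [h] <;> norm_num
    have hzd : dotInt z base32 = 0 := by
      rw [dotInt_base32, hzdef]
      simp [Pi.single_eq_of_ne n2.1.symm, Pi.single_eq_of_ne n2.2.symm, Pi.single_eq_of_ne n3.1.symm,
        Pi.single_eq_of_ne n3.2.symm]
    have hXz : dotInt (x : GolayPt → ℤ) z = 16 ∧ dotInt U z = 8 := by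
      refine ⟨?_, ?_⟩
      · rw [hzdef, dotInt_add_right, dotInt_single, dotInt_single, hx2, hx3]; norm_num
      · rw [hzdef, dotInt_add_right, dotInt_single, dotInt_single, ht]
        rcases hcase with ⟨a, b, c⟩ | ⟨a, b, c⟩ <;> rcases h3 with e | e <;> rw [a, c, e] <;> norm_num
    obtain ⟨g, g1, g2⟩ := exists_smul_orth (v := v) (w := ⟨z, hz⟩) (by rw [hv]; exact base32_mem.2) hzn
      (by rw [dotInt_comm, hv]; exact hzd)
    have x1 := dot_smul_co g x v
    have x2 := dot_smul_co g x ⟨z, hz⟩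
    have u1 := dot_smul_co g u v
    have u2 := dot_smul_co g u ⟨z, hz⟩
    rw [g1, hv, dotInt_base32, dotInt_base32] at x1 u1
    rw [g2, dotInt_base32neg, hXz.1] at x2
    rw [g2, dotInt_base32neg, ← hU, hXz.2] at u2
    rw [← hU] at u1
    exact ⟨g, g1, by omega, by omega, by omega, by omega⟩
  · obtain ⟨C, hC, hin, hout⟩ := even_cases u.2 hodd
    rw [← hU] at hin hout
    refine ⟨1, by rw [one_smul, hv], by rw [one_smul]; exact hx0, by rw [one_smul]; exact hx1, ?_, ?_⟩ <;>
      rw [one_smul, ← hU]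
    all_goals
      by_cases h0 : pt 0 ∈ C
      · have h8 := eight_le_card hC ⟨_, h0⟩
        have e0 := (even_vals hu (by norm_num) hC hin hout (pt 0)).1 h0
        have n1 : pt 1 ∉ C := fun h => by
          have := (even_vals hu (by norm_num) hC hin hout (pt 1)).1 h; omega
        have n2 : pt 2 ∉ C := fun h => by
          have := (even_vals hu (by norm_num) hC hin hout (pt 2)).1 h; omega
        have e1 := (even_vals hu (by norm_num) hC hin hout (pt 1)).2 n1
        have e2 := (even_vals hu (by norm_num) hC hin hout (pt 2)).2 n2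
        have hsplit := sqNorm_split U C
        have hlo : (C.card : ℤ) * 4 ≤ ∑ p ∈ C, U p ^ 2 := by
          simpa using Finset.card_nsmul_le_sum C (fun p => U p ^ 2) 4 fun q hq => by
            rcases (even_vals hu (by norm_num) hC hin hout q).1 hq with h | h <;> rw [h] <;> norm_num
        have hs := Finset.sum_le_sum_of_subset_of_nonneg (f := fun p => U p ^ 2)
          (show ({pt 1, pt 2} : Finset GolayPt) ⊆ Cᶜ by
            intro q hq
            simp only [Finset.mem_insert, Finset.mem_singleton] at hq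
            rcases hq with rfl | rfl <;> simp [n1, n2]) fun q _ _ => sq_nonneg _
        rw [Finset.sum_pair d.2.2.2.1, show U (pt 1) = 4 by omega, show U (pt 2) = -4 by omega] at hs
        omega
      · have := (even_vals hu (by norm_num) hC hin hout (pt 0)).2 h0
        by_cases h1 : pt 1 ∈ C
        · have := (even_vals hu (by norm_num) hC hin hout (pt 1)).1 h1; omega
        · have := (even_vals hu (by norm_num) hC hin hout (pt 1)).2 h1; omega

/-- The monomial normal form of a McLaughlin triple in coordinates of the even kind. -/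
theorem exists_mcl_normal {v x u : leechLattice} (hv : (v : GolayPt → ℤ) = base32)
    (hX0 : (x : GolayPt → ℤ) (pt 0) = 4) (hX1 : (x : GolayPt → ℤ) (pt 1) = 0)
    (hU0 : (u : GolayPt → ℤ) (pt 0) = 4) (hU1 : (u : GolayPt → ℤ) (pt 1) = 2)
    (hx : sqNorm (x : GolayPt → ℤ) = 32) (hu : sqNorm (u : GolayPt → ℤ) = 48)
    (hux : dotInt (u : GolayPt → ℤ) x = 24) :
    ∃ g : Co0, ((g • v : leechLattice) : GolayPt → ℤ) = pair8v ∧
      ((g • x : leechLattice) : GolayPt → ℤ) = mclX ∧
      ((g • u : leechLattice) : GolayPt → ℤ) = mclU ∧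
      ∀ w : leechLattice, ((g • w : leechLattice) : GolayPt → ℤ) (pt 5) = (w : GolayPt → ℤ) (pt 0) ∧
        ((g • w : leechLattice) : GolayPt → ℤ) (pt 0) = (w : GolayPt → ℤ) (pt 1) := by
  classical
  set X := (x : GolayPt → ℤ) with hXdef
  set U := (u : GolayPt → ℤ) with hUdef
  have hXn : sqNorm X = 32 := hx
  have hUn : sqNorm U = 48 := hu
  obtain ⟨a, ha0, hXa, hXr⟩ := exists_other x.2 hXn (p := pt 0) (q := pt 1) (Or.inl hX0) hX1
  rw [← hXdef] at hXa hXr
  have ha1 : a ≠ pt 1 := fun h => by rw [h, hX1] at hXa; omega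
  have hdot : U (pt 0) * 4 + U a * X a = 24 := by
    have h := hux
    rw [dotInt,
      ← Finset.sum_subset (Finset.subset_univ ({pt 0, a} : Finset GolayPt)) (fun r _ hr => by
        simp only [Finset.mem_insert, Finset.mem_singleton, not_or] at hr
        rw [hXr r hr.1 hr.2, mul_zero]), Finset.sum_pair ha0.symm, hX0] at h
    exact h
  obtain ⟨m, hpar, hsum, -⟩ := mem_leechLattice_iff.1 u.2
  rw [← hUdef] at hsum
  have hm : m % 2 = 0 := by
    have h1 := hpar (pt 1)
    rw [← hUdef] at h1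
    simp only [Int.ModEq] at h1
    omega
  have hodd : ¬ U none % 2 = 1 := by
    have h2 := hpar none
    rw [← hUdef] at h2
    simp only [Int.ModEq] at h2
    omega
  obtain ⟨C, hC, hin, hout⟩ := even_cases u.2 hodd
  rw [← hUdef] at hin hout
  have h1C : pt 1 ∈ C := by by_contra h; have := hout _ h; omega
  have h0C : pt 0 ∉ C := fun h => by have := hin _ h; omega
  have h8 := eight_le_card hC ⟨_, h1C⟩
  have hsplit := sqNorm_split U C
  rw [hUn, ← Finset.add_sum_erase Cᶜ (fun p => U p ^ 2) (Finset.mem_compl.2 h0C), hU0] at hsplit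
  have hlo : (C.card : ℤ) * 4 ≤ ∑ p ∈ C, U p ^ 2 := by
    simpa using Finset.card_nsmul_le_sum C (fun p => U p ^ 2) 4 fun q hq => by
      rcases (even_vals hUn (by norm_num) hC hin hout q).1 hq with h | h <;> rw [h] <;> norm_num
  have hnn : 0 ≤ ∑ p ∈ (Cᶜ : Finset GolayPt).erase (pt 0), U p ^ 2 :=
    Finset.sum_nonneg fun p _ => sq_nonneg _
  have hC8 : C.card = 8 := by omega
  have hzero : ∀ p ∉ C, p ≠ pt 0 → U p = 0 := fun p hp hp0 => by
    have := (Finset.sum_eq_zero_iff_of_nonneg fun q _ => sq_nonneg (U q)).1 (by omega :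
      ∑ q ∈ (Cᶜ : Finset GolayPt).erase (pt 0), U q ^ 2 = 0) p
      (Finset.mem_erase.2 ⟨hp0, Finset.mem_compl.2 hp⟩)
    simpa using this
  have haC : a ∈ C := by
    by_contra h
    rw [hzero a h ha0, hU0] at hdot
    omega
  obtain ⟨τ, hτ, hτC, hτ0, hτ1, hτ5⟩ := exists_map_octad_two_in_out (o := C) ⟨hC, hC8⟩ h1C haC
    ha1.symm h0C
  have hmem : ∀ q, τ q ∈ C ↔ q ∈ toSet baseOctad := fun q => by
    rw [← hτC, ← Equiv.Perm.smul_def, Finset.smul_mem_smul_finset_iff]
  have hb : pt 0 ∈ toSet baseOctad ∧ pt 1 ∈ toSet baseOctad ∧ pt 5 ∉ toSet baseOctad ∧ pt 0 ≠ pt 5 ∧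
      pt 1 ≠ pt 5 ∧ pt 0 ≠ pt 1 := by decide +kernel
  set N := (toSet baseOctad).filter fun q => U (τ q) < 0 with hN
  have hNpar : N.card % 2 = 1 := by
    have hs : ∑ q, U (τ q) = 4 + (16 - 4 * (N.card : ℤ)) := by
      rw [← Finset.sum_subset (Finset.subset_univ (insert (pt 5) (toSet baseOctad)))
        (fun q _ hq => by
          rw [Finset.mem_insert, not_or] at hq
          exact hzero _ (fun h => hq.2 ((hmem q).1 h)) fun h => hq.1 (τ.injective (h.trans hτ5.symm))),
        Finset.sum_insert hb.2.2.1, hτ5, hU0, hN, Finset.card_filter, Nat.cast_sum,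
        Finset.mul_sum, show (16 : ℤ) = ∑ _q ∈ toSet baseOctad, (2 : ℤ) by
          rw [Finset.sum_const, card_toSet, show bitCount baseOctad = 8 by decide +kernel]; rfl,
        ← Finset.sum_sub_distrib]
      congr 1
      refine Finset.sum_congr rfl fun q hq => ?_
      rcases (even_vals hUn (by norm_num) hC hin hout (τ q)).1 ((hmem q).2 hq) with h | h <;> simp [h]
    rw [Equiv.sum_comp τ U] at hs
    simp only [Int.ModEq] at hsum
    omega
  obtain ⟨c, hc, hcq, hc5, -⟩ := exists_code_even (N ∆ {pt 1}) (by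
      intro q hq
      rcases Finset.mem_symmDiff.1 hq with ⟨h, -⟩ | ⟨h, -⟩
      · exact (Finset.mem_filter.1 h).1
      · rw [Finset.mem_singleton] at h; subst h; exact hb.2.1) (by
      have := card_symmDiff_add N {pt 1}
      rw [Finset.card_singleton] at this
      omega)
  have hUa : U a = 2 ∨ U a = -2 := (even_vals hUn (by norm_num) hC hin hout a).1 haC
  have h0c : pt 0 ∉ c := by
    rw [hcq _ hb.1]
    simp [Finset.mem_symmDiff, hN, hb.1, hb.2.2.2.2.2, hτ0, hU1]
  have h1c : pt 1 ∈ c ↔ U a = 2 := by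
    rw [hcq _ hb.2.1]
    rcases hUa with h | h <;> simp [Finset.mem_symmDiff, hN, hb.2.1, hτ1, h]
  refine ⟨monoAut τ⁻¹ (inv_mem hτ) c hc, funext fun q => ?_, funext fun q => ?_, funext fun q => ?_,
    fun w => ⟨?_, ?_⟩⟩
  · rw [coe_monoAut_smul, hv]
    show (if q ∈ c then -base32 (τ q) else base32 (τ q)) = pair8v q
    simp only [base32, pair8v]
    have e0 : τ q = pt 0 ↔ q = pt 5 := ⟨fun h => τ.injective (h.trans hτ5.symm), fun h => by rw [h, hτ5]⟩
    have e1 : τ q = pt 1 ↔ q = pt 0 := ⟨fun h => τ.injective (h.trans hτ0.symm), fun h => by rw [h, hτ0]⟩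
    simp only [e0, e1]
    by_cases h : q = pt 0 ∨ q = pt 5
    · rcases h with rfl | rfl
      · simp [h0c]
      · simp [hc5]
    · push Not at h; simp [h.1, h.2]
  · rw [coe_monoAut_smul, ← hXdef]
    show (if q ∈ c then -X (τ q) else X (τ q)) = mclX q
    by_cases h5 : q = pt 5
    · subst h5; rw [if_neg hc5, hτ5, hX0, mclX, if_pos rfl]
    by_cases h1 : q = pt 1
    · subst h1
      rw [mclX, if_neg h5, if_pos rfl, hτ1]
      rcases hUa with h | h
      · rw [if_pos (h1c.2 h)]; rw [h, hU0] at hdot; omega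
      · rw [if_neg (fun hm => by have := h1c.1 hm; omega)]; rw [h, hU0] at hdot; omega
    rw [hXr (τ q) (fun h => h5 (τ.injective (h.trans hτ5.symm)))
      (fun h => h1 (τ.injective (h.trans hτ1.symm))), mclX, if_neg h5, if_neg h1]
    simp
  · rw [coe_monoAut_smul, ← hUdef]
    show (if q ∈ c then -U (τ q) else U (τ q)) = mclU q
    by_cases h5 : q = pt 5
    · subst h5; rw [if_neg hc5, hτ5, hU0, mclU, if_pos rfl]
    by_cases hq : q ∈ toSet baseOctad
    · simp only [mclU, h5, if_false, mem_toSet.1 hq, if_true]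
      rw [if_congr (hcq q hq) rfl rfl]
      simp only [Finset.mem_symmDiff, Finset.mem_singleton, hN, Finset.mem_filter, hq, true_and]
      rcases (even_vals hUn (by norm_num) hC hin hout (τ q)).1 ((hmem q).2 hq) with h | h <;>
        (by_cases h1 : q = pt 1; (· subst h1; simp [h]); simp [h, h1])
    · rw [hzero _ (fun h => hq ((hmem q).1 h)) fun h => h5 (τ.injective (h.trans hτ5.symm)), mclU,
        if_neg h5, if_neg (fun h : q = pt 1 => hq (h ▸ hb.2.1)),
        if_neg (show ¬ baseOctad.testBit (ptEquiv q).val = true from fun h => hq (mem_toSet.2 h))]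
      simp
  · rw [coe_monoAut_smul]
    show (if pt 5 ∈ c then -(w : GolayPt → ℤ) (τ (pt 5)) else (w : GolayPt → ℤ) (τ (pt 5))) = _
    rw [if_neg hc5, hτ5]
  · rw [coe_monoAut_smul]
    show (if pt 0 ∈ c then -(w : GolayPt → ℤ) (τ (pt 0)) else (w : GolayPt → ℤ) (τ (pt 0))) = _
    rw [if_neg h0c, hτ0]

theorem exists_triple_mcl {u v x : leechLattice} (hu : sqNorm (u : GolayPt → ℤ) = 48)
    (hv : sqNorm (v : GolayPt → ℤ) = 32) (hx : sqNorm (x : GolayPt → ℤ) = 32)
    (huv : dotInt (u : GolayPt → ℤ) v = 24) (hux : dotInt (u : GolayPt → ℤ) x = 24)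
    (hvx : dotInt (v : GolayPt → ℤ) x = 16) :
    ∃ g : Co0, ((g • v : leechLattice) : GolayPt → ℤ) = pair8v ∧
      ((g • x : leechLattice) : GolayPt → ℤ) = mclX ∧
      ((g • u : leechLattice) : GolayPt → ℤ) = mclU := by
  classical
  obtain ⟨g₁, hv₁, hx₁⟩ := exists_pair16 hv (w := -x) (by rw [AddSubgroup.coe_neg, sqNorm_neg, hx])
    (by rw [AddSubgroup.coe_neg, dotInt_neg_right, hvx])
  rw [smul_neg', AddSubgroup.coe_neg, neg_eq_iff_eq_neg] at hx₁
  have d : pt 1 ≠ pt 0 ∧ pt 1 ≠ pt 2 ∧ pt 2 ≠ pt 0 ∧ pt 3 ≠ pt 0 ∧ pt 3 ≠ pt 2 := by decide +kernel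
  have hu₁ := dot_smul_co g₁ u v
  have hux₁ := dot_smul_co g₁ u x
  rw [hv₁, dotInt_base32, huv] at hu₁
  rw [hx₁, dotInt_neg_right, show pair16w = Pi.single (pt 0) (-4) + Pi.single (pt 2) 4 by decide +kernel,
    dotInt_add_right, dotInt_single, dotInt_single, hux] at hux₁
  obtain ⟨g₂, hv₂, hX0, hX1, hU0, hU1⟩ := exists_refine_mcl (v := g₁ • v) (x := g₁ • x) (u := g₁ • u)
    hv₁ (by rw [hx₁]; simp [pair16w]) (by rw [hx₁]; simp [pair16w, d.1, d.2.1])
    (by rw [hx₁]; simp [pair16w, d.2.2.1]) (by rw [hx₁]; simp [pair16w, d.2.2.2.1, d.2.2.2.2])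
    (by rw [sqNorm_smul_co, hu]) (by omega) (by omega)
  obtain ⟨g₃, h1, h2, h3, -⟩ := exists_mcl_normal (v := g₂ • g₁ • v) (x := g₂ • g₁ • x)
    (u := g₂ • g₁ • u) hv₂ hX0 hX1 hU0 hU1 (by rw [sqNorm_smul_co, sqNorm_smul_co, hx])
    (by rw [sqNorm_smul_co, sqNorm_smul_co, hu]) (by rw [dot_smul_co, dot_smul_co, hux])
  exact ⟨g₃ * (g₂ * g₁), by rw [mul_smul, mul_smul]; exact h1, by rw [mul_smul, mul_smul]; exact h2,
    by rw [mul_smul, mul_smul]; exact h3⟩

end CfsgLib.Leech
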